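import Cfsg.Agent.UFourThreeType.Final

/-!
Elements of order three centralising a root of the involution are commutators in their centralisers.
-/

set_option autoImplicit false
set_option maxRecDepth 100000
set_option maxHeartbeats 1000000
set_option linter.unusedSectionVars false

namespace Cfsg.Lib.UFourThreeType

open Cfsg.Lib.CosetCert

universe u

/-- The rows of the square roots of the involution. -/
def rootRows : List ℕ :=
  [20, 25, 31, 37, 102, 103, 106, 107, 115, 119, 121, 126, 128, 133, 137, 140, 145, 149, 150, 155, 159, 163, 168,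
  171, 178, 183, 185, 189, 192, 197, 199, 203, 214, 220, 221, 230, 236, 242, 244, 252, 258, 263, 269, 273, 520, 544,
  545, 571, 584, 585, 617, 668, 764, 774, 787, 802, 823, 848, 867, 876, 910, 913, 914, 916, 920, 933, 944, 949, 956,
  958, 959, 960, 963, 973, 978, 985, 1120, 1131, 1146, 1147, 1148, 1149, 1150, 1151]

/-- The rows of the elements of order three fixing a root, with conjugators. -/
def threeWit : List (ℕ × ℕ) :=
  [(525, 0), (535, 23), (570, 3), (598, 6), (616, 8), (638, 115), (665, 21), (673, 49), (768, 7), (779, 9), (794,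
  45), (809, 44), (884, 5), (894, 2), (902, 22), (904, 24)]

/-- The representative. -/
def threeW : List ℕ := [5, 6, 8, 7]

/-- The first factor. -/
def leftW : List ℕ := [4, 1, 8, 5, 9, 0, 9, 0, 7, 5, 2, 4, 8, 9, 7, 5, 4, 9, 5, 6, 5, 8, 9, 7, 5, 9]

/-- The second factor. -/
def rightW : List ℕ := [3, 8, 9, 0, 1, 4, 7, 9, 6, 0, 9, 8, 2, 6, 1, 5, 0, 9, 7, 8, 9]

theorem rootRows_ok : ((List.range 1152).all fun n => !(row (cw n ++ cw n) == row [0]) || rootRows.contains n) = true := by
  decide +kernel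

theorem three_rows : ((List.range 1152).all fun i => i == 0 || !(row (cw i ++ cw i ++ cw i) == 0) ||
    (threeWit.any fun e => e.1 == i) || rootRows.all fun n => !commW (cw n) (cw i)) = true ∧
    (threeWit.all fun e => decide (e.2 < 1152) && row (cw e.2 ++ threeW ++ (cw e.2).reverse) == e.1) = true := by
  decide +kernel

theorem three_rels : scalarW (wmat (leftW ++ threeW ++ leftW.reverse ++ threeW.reverse)) = true ∧
    scalarW (wmat (rightW ++ threeW ++ rightW.reverse ++ threeW.reverse)) = true ∧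
    scalarW (wmat (leftW ++ rightW ++ leftW.reverse ++ rightW.reverse ++ threeW.reverse)) = true := by
  decide +kernel

theorem Sys.three_commutator {G : Type u} [Group G] [Finite G] {z : G} (S : Sys z) {g q : G} (g3 : g * g * g = 1)
    (g1 : g ≠ 1) (hg : Commute g z) (hq : Commute q z) (qq : q * q = z) (hqg : Commute q g) :
    ∃ a b : G, Commute a g ∧ Commute b g ∧ a * b * a⁻¹ * b⁻¹ = g := by
  obtain ⟨k, hk⟩ := S.exists_norm
  obtain ⟨f, hf⟩ := exists_hom (S.imK k) (S.group_rels hk)
  obtain ⟨i, hi, rfl⟩ := S.mem_C hg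
  obtain ⟨n, hn, rfl⟩ := S.mem_C hq
  obtain ⟨hwi, hri⟩ := Sys.cw_lt hi
  obtain ⟨hwn, -⟩ := Sys.cw_lt hn
  have h9 : ∀ {a b : List ℕ}, (∀ l ∈ a, l < 9) → (∀ l ∈ b, l < 9) → ∀ l ∈ a ++ b, l < 9 := fun {a b} ha hb l hl =>
    (List.mem_append.1 hl).elim (ha l) (hb l)
  have hc3 : row (cw i ++ cw i ++ cw i) = 0 :=
    (S.ev_iff (h9 (h9 hwi hwi) hwi) (v := []) (by simp)).1 (by rw [Sys.ev_append, Sys.ev_append, g3, Sys.ev_one])
  have hne : i ≠ 0 := fun h => g1 (by
    rw [← S.ev_one]
    exact S.ev_eq hwi (by simp) (hri.trans h))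
  have hn2 : row (cw n ++ cw n) = row [0] :=
    (S.ev_iff (h9 hwn hwn) (v := [0]) (by simp)).1 (by rw [Sys.ev_append, qq, Sys.ev_single]; rfl)
  have hcm : commW (cw n) (cw i) = true := by
    rw [commW, beq_iff_eq]
    exact (S.ev_iff (h9 hwn hwi) (h9 hwi hwn)).1 (by rw [Sys.ev_append, Sys.ev_append, hqg.eq])
  have hmem : n ∈ rootRows := by
    have := List.all_eq_true.1 rootRows_ok n (List.mem_range.2 hn)
    simpa [hn2, List.contains_iff_mem] using this
  have hrow := List.all_eq_true.1 three_rows.1 i (List.mem_range.2 hi)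
  simp only [hc3, beq_self_eq_true, Bool.not_true, Bool.or_eq_true, beq_iff_eq, hne, false_or, Bool.false_eq_true,
    List.any_eq_true, List.all_eq_true] at hrow
  rcases hrow with ⟨⟨i', j⟩, he, hei⟩ | hall
  swap
  · have := hall n hmem
    rw [hcm] at this
    exact absurd this (by decide)
  have hw := List.all_eq_true.1 three_rows.2 _ he
  simp only [Bool.and_eq_true, decide_eq_true_eq, beq_iff_eq] at hw hei
  obtain ⟨hj, hrowj⟩ := hw
  obtain ⟨hwj, -⟩ := Sys.cw_lt hj
  have ht9 : ∀ l ∈ threeW, l < 9 := by decide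
  have hconj : S.ev (cw j) * S.ev threeW * (S.ev (cw j))⁻¹ = S.ev (cw i) := by
    rw [← S.ev_reverse hwj, ← Sys.ev_append, ← Sys.ev_append]
    exact S.ev_eq (h9 (h9 hwj ht9) (fun l hl => hwj l (List.mem_reverse.1 hl))) hwi
      ((hrowj.trans hei).trans hri.symm)
  have rel : ∀ {w : List ℕ}, (∀ l ∈ w, l < 10) → scalarW (wmat w) = true → wval (S.imK k) w = 1 := fun {w} hw h => by
    have h' := congrArg f (pres_scalar hw h)
    rw [map_one, wval_map] at h'
    rw [← h']
    exact (wval_congr fun l hl => hf l (hw l hl)).symm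
  have hT : S.ev threeW = wval (S.imK k) threeW := (S.imK_im k ht9).symm
  have split : ∀ a b : List ℕ, wval (S.imK k) (a ++ b) = wval (S.imK k) a * wval (S.imK k) b := fun a b => by
    simp [wval, List.map_append, List.prod_append]
  have rev : ∀ {w : List ℕ}, (∀ l ∈ w, l < 10) → wval (S.imK k) w.reverse = (wval (S.imK k) w)⁻¹ := fun {w} hw =>
    wval_reverse (S.imK k) fun l hl => S.imK_inv hk (hw l hl)
  have hL : ∀ l ∈ leftW, l < 10 := by decide
  have hR : ∀ l ∈ rightW, l < 10 := by decide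
  have hT10 : ∀ l ∈ threeW, l < 10 := by decide
  have e1 := rel (by decide) three_rels.1
  have e2 := rel (by decide) three_rels.2.1
  have e3 := rel (by decide) three_rels.2.2
  simp only [split, rev hL, rev hR, rev hT10, ← hT] at e1 e2 e3
  set c := S.ev (cw j)
  set L := wval (S.imK k) leftW
  set R := wval (S.imK k) rightW
  set T := S.ev threeW
  have cL : Commute L T := by
    show L * T = T * L
    exact mul_inv_eq_iff_eq_mul.mp (mul_inv_eq_one.mp e1)
  have cR : Commute R T := by
    show R * T = T * R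
    exact mul_inv_eq_iff_eq_mul.mp (mul_inv_eq_one.mp e2)
  have e3' := mul_inv_eq_one.mp e3
  refine ⟨c * L * c⁻¹, c * R * c⁻¹, ?_, ?_, ?_⟩
  · rw [← hconj]; exact (Commute.conj_iff c).mpr cL
  · rw [← hconj]; exact (Commute.conj_iff c).mpr cR
  · rw [← hconj]
    calc c * L * c⁻¹ * (c * R * c⁻¹) * (c * L * c⁻¹)⁻¹ * (c * R * c⁻¹)⁻¹ = c * (L * R * L⁻¹ * R⁻¹) * c⁻¹ := by group
      _ = c * T * c⁻¹ := by rw [e3']

end Cfsg.Lib.UFourThreeType
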