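import Cfsg.Agent.UFourThreeType.NoBig

/-!
A copy of the unitary group containing an involution centraliser is the whole group.
-/

set_option autoImplicit false
set_option linter.style.haveILetI false

namespace Cfsg.Lib.UFourThreeType

open Subgroup
open Cfsg.Lib.UFourThreeCover (K card_K card_psu)

universe u

variable {G : Type u} [Group G]

/-- A copy of the group containing the centraliser and fusing its involutions. -/
structure Big (z : G) where
  P : Subgroup G
  hz : orderOf z = 2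
  cardC : Nat.card (centralizer ({z} : Set G)) = 1152
  iso : Nonempty (P ≃* Cfsg.PSU 4 K 3)
  mem : z ∈ P
  C_le : centralizer ({z} : Set G) ≤ P
  conj : ∀ y, orderOf y = 2 → Commute y z → ∃ p ∈ P, p * z * p⁻¹ = y

theorem two_iff {x : G} : orderOf x = 2 ↔ x * x = 1 ∧ x ≠ 1 := by
  refine ⟨fun h => ⟨by rw [← sq, ← h, pow_orderOf_eq_one], fun e => ?_⟩, fun h => ?_⟩
  · rw [e, orderOf_one] at h; norm_num at h
  · exact orderOf_eq_prime (by rw [sq]; exact h.1) h.2

theorem order_conj (p y : G) : orderOf (p * y * p⁻¹) = orderOf y :=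
  (MulAut.conj p).orderOf_eq y

/-- Two involutions are conjugate in the group they generate or commute with an involution there. -/
theorem two_involutions [Finite G] {z u : G} (hzz : z * z = 1) (huu : u * u = 1) :
    (∃ c ∈ zpowers (z * u), c * z * c⁻¹ = u) ∨
      ∃ x ∈ zpowers (z * u), orderOf x = 2 ∧ Commute x z ∧ Commute x u := by
  have hinv : (z * u)⁻¹ = u * z := by
    rw [mul_inv_rev, inv_eq_of_mul_eq_one_left hzz, inv_eq_of_mul_eq_one_left huu]
  have hs : SemiconjBy z (z * u)⁻¹ (z * u) := by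
    rw [SemiconjBy, hinv, ← mul_assoc]
  set d := z * u with hd
  rcases Nat.even_or_odd (orderOf d) with ⟨m, hm⟩ | ⟨m, hm⟩
  · have hpos := orderOf_pos d
    have h2 : d ^ m * d ^ m = 1 := by rw [← pow_add, ← hm, pow_orderOf_eq_one]
    have hne : d ^ m ≠ 1 := fun e => by
      have := Nat.le_of_dvd (by omega) (orderOf_dvd_of_pow_eq_one e)
      omega
    have hxz : Commute (d ^ m) z := by
      have := (hs.pow_right m).eq
      rw [inv_pow, inv_eq_of_mul_eq_one_left h2] at this
      exact this.symm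
    refine Or.inr ⟨d ^ m, pow_mem (mem_zpowers d) m, two_iff.mpr ⟨h2, hne⟩, hxz, ?_⟩
    have : u = z * d := by rw [hd, ← mul_assoc, hzz, one_mul]
    rw [this]
    exact hxz.mul_right (Commute.pow_self d m)
  · refine Or.inl ⟨d ^ m, pow_mem (mem_zpowers d) m, ?_⟩
    have h1 : d ^ m * d ^ m * d = 1 := by
      rw [← pow_add, ← pow_succ, show m + m + 1 = 2 * m + 1 by ring, ← hm, pow_orderOf_eq_one]
    rw [mul_assoc, ← inv_pow, (hs.pow_right m).eq, ← mul_assoc, eq_inv_of_mul_eq_one_left h1, hinv, mul_assoc, hzz,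
      mul_one]

/-- Counting a class of involutions. -/
theorem card_involutions [Finite G] {z : G} (hz : orderOf z = 2)
    (h : ∀ u : G, orderOf u = 2 → ∃ g : G, g * z * g⁻¹ = u) :
    Nat.card {u : G // orderOf u = 2} * Nat.card (centralizer ({z} : Set G)) = Nat.card G := by
  let f : G ⧸ centralizer ({z} : Set G) → {u : G // orderOf u = 2} := Quotient.lift
    (fun g => ⟨g * z * g⁻¹, by rw [order_conj, hz]⟩) fun a b hab => by
      replace hab := mem_centralizer_singleton_iff.mp (QuotientGroup.leftRel_apply.mp hab)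
      apply Subtype.ext
      calc a * z * a⁻¹ = a * (z * (a⁻¹ * b)) * b⁻¹ := by group
        _ = a * (a⁻¹ * b * z) * b⁻¹ := by rw [hab]
        _ = b * z * b⁻¹ := by group
  have hf : Function.Bijective f := by
    refine ⟨fun a b => ?_, fun u => ?_⟩
    · induction a using Quotient.inductionOn with | _ a =>
      induction b using Quotient.inductionOn with | _ b =>
      intro e
      have e' : a * z * a⁻¹ = b * z * b⁻¹ := congrArg Subtype.val e
      refine Quotient.sound ?_
      refine QuotientGroup.leftRel_apply.mpr (mem_centralizer_singleton_iff.mpr ?_)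
      calc a⁻¹ * b * z = a⁻¹ * (b * z * b⁻¹) * b := by group
        _ = a⁻¹ * (a * z * a⁻¹) * b := by rw [e']
        _ = z * (a⁻¹ * b) := by group
    · obtain ⟨g, hg⟩ := h u u.2
      exact ⟨(g : G ⧸ centralizer ({z} : Set G)), Subtype.ext hg⟩
  rw [← Nat.card_eq_of_bijective f hf, ← Subgroup.index_eq_card, mul_comm]
  exact card_mul_index _

namespace Big

variable [Finite G] {z : G} (B : Big z)
include B

theorem zz : z * z = 1 := (two_iff.mp B.hz).1

theorem conj_P {y : G} (hy : orderOf y = 2) (hyP : y ∈ B.P) : ∃ p ∈ B.P, p * z * p⁻¹ = y := by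
  rcases two_involutions B.zz (two_iff.mp hy).1 with ⟨c, hc, e⟩ | ⟨x, -, hx, hxz, hxy⟩
  · exact ⟨c, zpowers_le.mpr (B.P.mul_mem B.mem hyP) hc, e⟩
  · obtain ⟨p, hp, rfl⟩ := B.conj x hx hxz
    obtain ⟨q, hq, e⟩ := B.conj (p⁻¹ * y * p) (by
      have := order_conj p⁻¹ y
      rw [inv_inv] at this
      rw [this, hy]) (by
      show p⁻¹ * y * p * z = z * (p⁻¹ * y * p)
      calc p⁻¹ * y * p * z = p⁻¹ * (y * (p * z * p⁻¹)) * p := by group
        _ = p⁻¹ * (p * z * p⁻¹ * y) * p := by rw [hxy.eq]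
        _ = z * (p⁻¹ * y * p) := by group)
    refine ⟨p * q, mul_mem hp hq, ?_⟩
    calc p * q * z * (p * q)⁻¹ = p * (q * z * q⁻¹) * p⁻¹ := by group
      _ = y := by rw [e]; group

theorem conj_all {u : G} (hu : orderOf u = 2) : ∃ g : G, g * z * g⁻¹ = u := by
  rcases two_involutions B.zz (two_iff.mp hu).1 with ⟨c, -, e⟩ | ⟨x, -, hx, hxz, hxu⟩
  · exact ⟨c, e⟩
  · obtain ⟨p, hp, rfl⟩ := B.conj x hx hxz
    obtain ⟨q, -, e⟩ := B.conj (p⁻¹ * u * p) (by
      have := order_conj p⁻¹ u
      rw [inv_inv] at this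
      rw [this, hu]) (by
      show p⁻¹ * u * p * z = z * (p⁻¹ * u * p)
      calc p⁻¹ * u * p * z = p⁻¹ * (u * (p * z * p⁻¹)) * p := by group
        _ = p⁻¹ * (p * z * p⁻¹ * u) * p := by rw [hxu.eq]
        _ = z * (p⁻¹ * u * p) := by group)
    refine ⟨p * q, ?_⟩
    calc p * q * z * (p * q)⁻¹ = p * (q * z * q⁻¹) * p⁻¹ := by group
      _ = u := by rw [e]; group

theorem count : Nat.card {u : G // orderOf u = 2} = 2835 * B.P.index ∧
    Nat.card {u : G // orderOf u = 2 ∧ u ∈ B.P} = 2835 := by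
  classical
  obtain ⟨e⟩ := B.iso
  have hP : Nat.card B.P = 3265920 := (Nat.card_congr e.toEquiv).trans card_psu
  refine ⟨?_, ?_⟩
  · have h := card_involutions B.hz fun u hu => B.conj_all hu
    rw [B.cardC, ← card_mul_index B.P, hP] at h
    omega
  · have h := card_involutions (G := B.P) (z := ⟨z, B.mem⟩) (by rw [Subgroup.orderOf_mk, B.hz]) fun u hu => by
      obtain ⟨p, hp, e⟩ := B.conj_P (by rw [Subgroup.orderOf_coe, hu]) u.2
      exact ⟨⟨p, hp⟩, Subtype.ext e⟩
    have hC : Nat.card (centralizer ({⟨z, B.mem⟩} : Set B.P)) = 1152 := by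
      rw [← B.cardC]
      refine Nat.card_congr
        { toFun := fun g => ⟨g.1.1, mem_centralizer_singleton_iff.mpr
            (congrArg Subtype.val (mem_centralizer_singleton_iff.mp g.2))⟩
          invFun := fun g => ⟨⟨g.1, B.C_le g.2⟩, mem_centralizer_singleton_iff.mpr
            (Subtype.ext (mem_centralizer_singleton_iff.mp g.2))⟩
          left_inv := fun _ => rfl
          right_inv := fun _ => rfl }
    rw [hC, hP] at h
    have e : Nat.card {u : G // orderOf u = 2 ∧ u ∈ B.P} = Nat.card {u : B.P // orderOf u = 2} := Nat.card_congr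
      { toFun := fun u => ⟨⟨u.1, u.2.2⟩, by rw [Subgroup.orderOf_mk]; exact u.2.1⟩
        invFun := fun u => ⟨u.1.1, by rw [Subgroup.orderOf_coe]; exact ⟨u.2, u.1.2⟩⟩
        left_inv := fun _ => rfl
        right_inv := fun _ => rfl }
    omega

theorem top : B.P = ⊤ := by
  classical
  haveI := Fintype.ofFinite G
  by_contra hne
  obtain ⟨hall, hin⟩ := B.count
  let q : {u : G // orderOf u = 2} → G ⧸ B.P := fun u => (u.1 : G ⧸ B.P)
  have hone : Nat.card {u : {u : G // orderOf u = 2} // q u = ((1 : G) : G ⧸ B.P)} = 2835 := by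
    rw [← hin]
    exact Nat.card_congr ((Equiv.subtypeEquivRight fun u => by
      rw [QuotientGroup.eq, mul_one, inv_mem_iff]).trans (Equiv.subtypeSubtypeEquivSubtypeInter _ fun u => u ∈ B.P))
  obtain ⟨c, hc1, hc⟩ : ∃ c : G ⧸ B.P, c ≠ ((1 : G) : G ⧸ B.P) ∧
      2835 ≤ Nat.card {u : {u : G // orderOf u = 2} // q u = c} := by
    by_contra hcon
    push Not at hcon
    have hsum : Nat.card {u : G // orderOf u = 2} =
        ∑ c : G ⧸ B.P, Nat.card {u : {u : G // orderOf u = 2} // q u = c} := by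
      rw [← Nat.card_sigma]
      exact (Nat.card_congr (Equiv.sigmaFiberEquiv q)).symm
    obtain ⟨g, hg⟩ : ∃ g, g ∉ B.P := by
      by_contra h
      push Not at h
      exact hne (eq_top_iff' _ |>.mpr h)
    have hlt : ∑ c : G ⧸ B.P, Nat.card {u : {u : G // orderOf u = 2} // q u = c} < ∑ _c : G ⧸ B.P, 2835 := by
      refine Finset.sum_lt_sum (fun c _ => ?_) ⟨(g : G ⧸ B.P), Finset.mem_univ _, hcon _ fun h => hg ?_⟩
      · by_cases hc : c = ((1 : G) : G ⧸ B.P)
        · rw [hc, hone]
        · exact (hcon c hc).le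
      · rwa [QuotientGroup.eq, mul_one, inv_mem_iff] at h
    rw [Finset.sum_const, Finset.card_univ, ← Nat.card_eq_fintype_card, ← Subgroup.index_eq_card, smul_eq_mul,
      ← hsum, hall] at hlt
    omega
  obtain ⟨⟨⟨v, hv⟩, hvc⟩⟩ := Finite.card_pos_iff.mp (lt_of_lt_of_le (by norm_num) hc)
  have hvP : v ∉ B.P := fun h => hc1 (by
    rw [← hvc, QuotientGroup.eq, mul_one, inv_mem_iff]; exact h)
  have vv := (two_iff.mp hv).1
  have vi : v⁻¹ = v := inv_eq_of_mul_eq_one_left vv
  let D : Subgroup G := B.P ⊓ B.P.map (MulAut.conj v).toMonoidHom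
  have hD : ∀ x, x ∈ D ↔ x ∈ B.P ∧ v * x * v ∈ B.P := by
    intro x
    rw [Subgroup.mem_inf, Subgroup.mem_map_equiv, MulAut.conj_symm_apply, vi]
  have hodd : Odd (Nat.card D) := by
    by_contra h
    rw [Nat.not_odd_iff_even, even_iff_two_dvd] at h
    haveI : Fact (Nat.Prime 2) := ⟨Nat.prime_two⟩
    obtain ⟨⟨x, hxD⟩, hx⟩ := exists_prime_orderOf_dvd_card' 2 h
    rw [Subgroup.orderOf_mk] at hx
    obtain ⟨hxP, hxv⟩ := (hD x).mp hxD
    obtain ⟨p, hp, ep⟩ := B.conj_P hx hxP
    obtain ⟨r, hr, er⟩ := B.conj_P (y := v * x * v) (by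
      have := order_conj v x
      rw [vi] at this
      rw [this, hx]) hxv
    have : r⁻¹ * v * p ∈ B.P := B.C_le (mem_centralizer_singleton_iff.mpr (by
      calc r⁻¹ * v * p * z = r⁻¹ * (v * (p * z * p⁻¹) * v) * (v⁻¹ * p) := by group
        _ = r⁻¹ * (r * z * r⁻¹) * (v⁻¹ * p) := by rw [ep, er]
        _ = z * (r⁻¹ * v * p) := by rw [vi]; group))
    refine hvP ?_
    have := mul_mem (mul_mem hr this) (inv_mem hp)
    rwa [show r * (r⁻¹ * v * p) * p⁻¹ = v by group] at this
  let ψ : D →* D := ((MulAut.conj v).toMonoidHom.comp D.subtype).codRestrict D fun d => by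
    show v * d * v⁻¹ ∈ D
    obtain ⟨h1, h2⟩ := (hD d).mp d.2
    rw [hD, vi]
    refine ⟨h2, ?_⟩
    rwa [show v * (v * (d : G) * v) * v = v * v * d * (v * v) by group, vv, one_mul, mul_one]
  have hψ : ∀ d : D, (ψ d : G) = v * d * v := fun d => by show v * (d : G) * v⁻¹ = _; rw [vi]
  have hI : 2835 ≤ Nat.card {d : D // ψ d = d⁻¹} := by
    refine hc.trans ?_
    have key : ∀ u : {u : {u : G // orderOf u = 2} // q u = c}, v * (u.1.1) ∈ D ∧
        v * (v * u.1.1) * v = (v * u.1.1)⁻¹ := by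
      rintro ⟨⟨u, hu⟩, huc⟩
      have uu := (two_iff.mp hu).1
      have h1 : v * u ∈ B.P := by
        have := QuotientGroup.eq.mp (hvc.trans huc.symm)
        rwa [vi] at this
      have h2 : v * (v * u) * v = (v * u)⁻¹ := by
        rw [← mul_assoc v v u, vv, one_mul, mul_inv_rev, vi, inv_eq_of_mul_eq_one_left uu]
      exact ⟨(hD _).mpr ⟨h1, by rw [h2]; exact inv_mem h1⟩, h2⟩
    refine Nat.card_le_card_of_injective (fun u => ⟨⟨v * u.1.1, (key u).1⟩, Subtype.ext ?_⟩) fun a b h => ?_
    · rw [hψ]; exact (key u).2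
    · exact Subtype.ext (Subtype.ext (mul_left_cancel (congrArg (fun d => (d.1 : G)) h)))
  have hbound := inverted_fixed hodd ψ
  have hle : Nat.card {d : D // ψ d = d⁻¹} ≤ Nat.card D := Nat.card_le_card_of_injective _ Subtype.val_injective
  obtain ⟨e⟩ := B.iso
  let f : D →* Cfsg.PSU 4 K 3 := e.toMonoidHom.comp (Subgroup.inclusion inf_le_left)
  have hf : Function.Injective f := e.injective.comp (Subgroup.inclusion_injective inf_le_left)
  have hcard : Nat.card f.range = Nat.card D :=
    (Nat.card_congr (MonoidHom.ofInjective hf).toEquiv).symm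
  refine not_big f.range (hcard ▸ hodd) (by omega) fun hlt => ?_
  have hfp : MonoidHom.FixedPointFree ψ := by
    intro d hd
    by_contra hd1
    have h3 : 3 ≤ Nat.card {d : D // ψ d = d} := by
      haveI : Finite {d : D // ψ d = d} := inferInstance
      have hord : 3 ≤ orderOf d := by
        obtain ⟨m, hm⟩ := hodd.of_dvd_nat (orderOf_dvd_natCard d)
        have : orderOf d ≠ 1 := fun h => hd1 (orderOf_eq_one_iff.mp h)
        omega
      refine le_trans (hord.trans (Nat.card_zpowers d).ge) (Nat.card_le_card_of_injective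
        (fun x : zpowers d => (⟨x.1, ?_⟩ : {d : D // ψ d = d})) ?_)
      · obtain ⟨n, hn⟩ := mem_zpowers_iff.mp x.2
        rw [← hn, map_zpow, hd]
      · intro a b h
        exact Subtype.ext (congrArg (fun x : {d : D // ψ d = d} => x.1) h)
    nlinarith
  have hinvol : Function.Involutive ψ := fun d => Subtype.ext (by
    rw [hψ, hψ, show v * (v * (d : G) * v) * v = v * v * d * (v * v) by group, vv, one_mul, mul_one])
  rintro ⟨_, a, rfl⟩ ⟨_, b, rfl⟩
  refine Subtype.ext ?_
  show f a * f b = f b * f a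
  rw [← map_mul, ← map_mul, (hfp.commute_all_of_involutive hinvol a b).eq]

/-- The identification. -/
theorem iso_psu : Nonempty (G ≃* Cfsg.PSU 4 K 3) :=
  ⟨Subgroup.topEquiv.symm.trans ((MulEquiv.subgroupCongr B.top.symm).trans B.iso.some)⟩

theorem conjugate {x y : G} (hx : orderOf x = 2) (hy : orderOf y = 2) : IsConj x y := by
  obtain ⟨g, hg⟩ := B.conj_all hx
  obtain ⟨h, hh⟩ := B.conj_all hy
  exact ((isConj_iff.mpr ⟨g, hg⟩).symm).trans (isConj_iff.mpr ⟨h, hh⟩)

end Big

end Cfsg.Lib.UFourThreeType
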