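import Cfsg.Agent.UFourThreeType.GroupCertData
import Cfsg.Agent.CosetCert.TabSplit

/-!
The certificate is valid.
-/

set_option autoImplicit false

namespace Cfsg.Lib.UFourThreeType.GroupCert

open Cfsg.Lib.CosetCert

theorem steps0_ok : cert.stepsOK 0 steps0 = true ∧ ruleBound spec.length steps0 = true := by decide +kernel

theorem steps1_ok : cert.stepsOK 256 steps1 = true ∧ ruleBound spec.length steps1 = true := by decide +kernel

theorem steps2_ok : cert.stepsOK 512 steps2 = true ∧ ruleBound spec.length steps2 = true := by decide +kernel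

theorem steps3_ok : cert.stepsOK 768 steps3 = true ∧ ruleBound spec.length steps3 = true := by decide +kernel

theorem steps4_ok : cert.stepsOK 1024 steps4 = true ∧ ruleBound spec.length steps4 = true := by decide +kernel

theorem steps5_ok : cert.stepsOK 1280 steps5 = true ∧ ruleBound spec.length steps5 = true := by decide +kernel

theorem steps6_ok : cert.stepsOK 1536 steps6 = true ∧ ruleBound spec.length steps6 = true := by decide +kernel

theorem steps7_ok : cert.stepsOK 1792 steps7 = true ∧ ruleBound spec.length steps7 = true := by decide +kernel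

theorem steps8_ok : cert.stepsOK 2048 steps8 = true ∧ ruleBound spec.length steps8 = true := by decide +kernel

theorem steps9_ok : cert.stepsOK 2304 steps9 = true ∧ ruleBound spec.length steps9 = true := by decide +kernel

theorem steps10_ok : cert.stepsOK 2560 steps10 = true ∧ ruleBound spec.length steps10 = true := by decide +kernel

theorem steps11_ok : cert.stepsOK 2816 steps11 = true ∧ ruleBound spec.length steps11 = true := by decide +kernel

theorem steps12_ok : cert.stepsOK 3072 steps12 = true ∧ ruleBound spec.length steps12 = true := by decide +kernel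

theorem steps13_ok : cert.stepsOK 3328 steps13 = true ∧ ruleBound spec.length steps13 = true := by decide +kernel

theorem steps14_ok : cert.stepsOK 3584 steps14 = true ∧ ruleBound spec.length steps14 = true := by decide +kernel

theorem steps15_ok : cert.stepsOK 3840 steps15 = true ∧ ruleBound spec.length steps15 = true := by decide +kernel

theorem steps16_ok : cert.stepsOK 4096 steps16 = true ∧ ruleBound spec.length steps16 = true := by decide +kernel

theorem steps17_ok : cert.stepsOK 4352 steps17 = true ∧ ruleBound spec.length steps17 = true := by decide +kernel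

theorem steps18_ok : cert.stepsOK 4608 steps18 = true ∧ ruleBound spec.length steps18 = true := by decide +kernel

theorem steps19_ok : cert.stepsOK 4864 steps19 = true ∧ ruleBound spec.length steps19 = true := by decide +kernel

theorem steps20_ok : cert.stepsOK 5120 steps20 = true ∧ ruleBound spec.length steps20 = true := by decide +kernel

theorem steps21_ok : cert.stepsOK 5376 steps21 = true ∧ ruleBound spec.length steps21 = true := by decide +kernel

theorem steps22_ok : cert.stepsOK 5632 steps22 = true ∧ ruleBound spec.length steps22 = true := by decide +kernel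

theorem steps23_ok : cert.stepsOK 5888 steps23 = true ∧ ruleBound spec.length steps23 = true := by decide +kernel

theorem steps24_ok : cert.stepsOK 6144 steps24 = true ∧ ruleBound spec.length steps24 = true := by decide +kernel

theorem steps25_ok : cert.stepsOK 6400 steps25 = true ∧ ruleBound spec.length steps25 = true := by decide +kernel

theorem steps26_ok : cert.stepsOK 6656 steps26 = true ∧ ruleBound spec.length steps26 = true := by decide +kernel

theorem steps27_ok : cert.stepsOK 6912 steps27 = true ∧ ruleBound spec.length steps27 = true := by decide +kernel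

theorem steps28_ok : cert.stepsOK 7168 steps28 = true ∧ ruleBound spec.length steps28 = true := by decide +kernel

theorem steps29_ok : cert.stepsOK 7424 steps29 = true ∧ ruleBound spec.length steps29 = true := by decide +kernel

theorem steps30_ok : cert.stepsOK 7680 steps30 = true ∧ ruleBound spec.length steps30 = true := by decide +kernel

theorem steps31_ok : cert.stepsOK 7936 steps31 = true ∧ ruleBound spec.length steps31 = true := by decide +kernel

theorem steps32_ok : cert.stepsOK 8192 steps32 = true ∧ ruleBound spec.length steps32 = true := by decide +kernel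

theorem steps33_ok : cert.stepsOK 8448 steps33 = true ∧ ruleBound spec.length steps33 = true := by decide +kernel

theorem steps34_ok : cert.stepsOK 8704 steps34 = true ∧ ruleBound spec.length steps34 = true := by decide +kernel

theorem steps35_ok : cert.stepsOK 8960 steps35 = true ∧ ruleBound spec.length steps35 = true := by decide +kernel

theorem steps36_ok : cert.stepsOK 9216 steps36 = true ∧ ruleBound spec.length steps36 = true := by decide +kernel

theorem steps37_ok : cert.stepsOK 9472 steps37 = true ∧ ruleBound spec.length steps37 = true := by decide +kernel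

theorem steps38_ok : cert.stepsOK 9728 steps38 = true ∧ ruleBound spec.length steps38 = true := by decide +kernel

theorem steps39_ok : cert.stepsOK 9984 steps39 = true ∧ ruleBound spec.length steps39 = true := by decide +kernel

theorem steps40_ok : cert.stepsOK 10240 steps40 = true ∧ ruleBound spec.length steps40 = true := by decide +kernel

theorem steps41_ok : cert.stepsOK 10496 steps41 = true ∧ ruleBound spec.length steps41 = true := by decide +kernel

theorem steps42_ok : cert.stepsOK 10752 steps42 = true ∧ ruleBound spec.length steps42 = true := by decide +kernel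

theorem steps43_ok : cert.stepsOK 11008 steps43 = true ∧ ruleBound spec.length steps43 = true := by decide +kernel

theorem steps44_ok : cert.stepsOK 11264 steps44 = true ∧ ruleBound spec.length steps44 = true := by decide +kernel

theorem steps45_ok : cert.stepsOK 11520 steps45 = true ∧ ruleBound spec.length steps45 = true := by decide +kernel

theorem steps46_ok : cert.stepsOK 11776 steps46 = true ∧ ruleBound spec.length steps46 = true := by decide +kernel

theorem steps47_ok : cert.stepsOK 12032 steps47 = true ∧ ruleBound spec.length steps47 = true := by decide +kernel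

theorem steps48_ok : cert.stepsOK 12288 steps48 = true ∧ ruleBound spec.length steps48 = true := by decide +kernel

theorem steps49_ok : cert.stepsOK 12544 steps49 = true ∧ ruleBound spec.length steps49 = true := by decide +kernel

theorem steps50_ok : cert.stepsOK 12800 steps50 = true ∧ ruleBound spec.length steps50 = true := by decide +kernel

theorem steps51_ok : cert.stepsOK 13056 steps51 = true ∧ ruleBound spec.length steps51 = true := by decide +kernel

theorem steps52_ok : cert.stepsOK 13312 steps52 = true ∧ ruleBound spec.length steps52 = true := by decide +kernel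

theorem steps53_ok : cert.stepsOK 13568 steps53 = true ∧ ruleBound spec.length steps53 = true := by decide +kernel

theorem steps54_ok : cert.stepsOK 13824 steps54 = true ∧ ruleBound spec.length steps54 = true := by decide +kernel

theorem steps55_ok : cert.stepsOK 14080 steps55 = true ∧ ruleBound spec.length steps55 = true := by decide +kernel

theorem steps56_ok : cert.stepsOK 14336 steps56 = true ∧ ruleBound spec.length steps56 = true := by decide +kernel

theorem steps57_ok : cert.stepsOK 14592 steps57 = true ∧ ruleBound spec.length steps57 = true := by decide +kernel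

theorem steps58_ok : cert.stepsOK 14848 steps58 = true ∧ ruleBound spec.length steps58 = true := by decide +kernel

theorem steps59_ok : cert.stepsOK 15104 steps59 = true ∧ ruleBound spec.length steps59 = true := by decide +kernel

theorem steps60_ok : cert.stepsOK 15360 steps60 = true ∧ ruleBound spec.length steps60 = true := by decide +kernel

theorem steps61_ok : cert.stepsOK 15616 steps61 = true ∧ ruleBound spec.length steps61 = true := by decide +kernel

theorem steps62_ok : cert.stepsOK 15872 steps62 = true ∧ ruleBound spec.length steps62 = true := by decide +kernel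

theorem steps63_ok : cert.stepsOK 16128 steps63 = true ∧ ruleBound spec.length steps63 = true := by decide +kernel

theorem steps64_ok : cert.stepsOK 16384 steps64 = true ∧ ruleBound spec.length steps64 = true := by decide +kernel

theorem steps65_ok : cert.stepsOK 16640 steps65 = true ∧ ruleBound spec.length steps65 = true := by decide +kernel

theorem steps66_ok : cert.stepsOK 16896 steps66 = true ∧ ruleBound spec.length steps66 = true := by decide +kernel

theorem steps67_ok : cert.stepsOK 17152 steps67 = true ∧ ruleBound spec.length steps67 = true := by decide +kernel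

theorem steps68_ok : cert.stepsOK 17408 steps68 = true ∧ ruleBound spec.length steps68 = true := by decide +kernel

theorem steps69_ok : cert.stepsOK 17664 steps69 = true ∧ ruleBound spec.length steps69 = true := by decide +kernel

theorem steps70_ok : cert.stepsOK 17920 steps70 = true ∧ ruleBound spec.length steps70 = true := by decide +kernel

theorem steps71_ok : cert.stepsOK 18176 steps71 = true ∧ ruleBound spec.length steps71 = true := by decide +kernel

theorem steps72_ok : cert.stepsOK 18432 steps72 = true ∧ ruleBound spec.length steps72 = true := by decide +kernel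

theorem steps73_ok : cert.stepsOK 18688 steps73 = true ∧ ruleBound spec.length steps73 = true := by decide +kernel

def cat0_0 : List (ℕ × ℕ) := steps0 ++ steps1

theorem cat0_0_ok : cert.stepsOK 0 cat0_0 = true ∧ ruleBound spec.length cat0_0 = true :=
  stepsOK_cat steps0_ok steps1_ok (by decide +kernel)

def cat0_1 : List (ℕ × ℕ) := steps2 ++ steps3

theorem cat0_1_ok : cert.stepsOK 512 cat0_1 = true ∧ ruleBound spec.length cat0_1 = true :=
  stepsOK_cat steps2_ok steps3_ok (by decide +kernel)

def cat0_2 : List (ℕ × ℕ) := steps4 ++ steps5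

theorem cat0_2_ok : cert.stepsOK 1024 cat0_2 = true ∧ ruleBound spec.length cat0_2 = true :=
  stepsOK_cat steps4_ok steps5_ok (by decide +kernel)

def cat0_3 : List (ℕ × ℕ) := steps6 ++ steps7

theorem cat0_3_ok : cert.stepsOK 1536 cat0_3 = true ∧ ruleBound spec.length cat0_3 = true :=
  stepsOK_cat steps6_ok steps7_ok (by decide +kernel)

def cat0_4 : List (ℕ × ℕ) := steps8 ++ steps9

theorem cat0_4_ok : cert.stepsOK 2048 cat0_4 = true ∧ ruleBound spec.length cat0_4 = true :=
  stepsOK_cat steps8_ok steps9_ok (by decide +kernel)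

def cat0_5 : List (ℕ × ℕ) := steps10 ++ steps11

theorem cat0_5_ok : cert.stepsOK 2560 cat0_5 = true ∧ ruleBound spec.length cat0_5 = true :=
  stepsOK_cat steps10_ok steps11_ok (by decide +kernel)

def cat0_6 : List (ℕ × ℕ) := steps12 ++ steps13

theorem cat0_6_ok : cert.stepsOK 3072 cat0_6 = true ∧ ruleBound spec.length cat0_6 = true :=
  stepsOK_cat steps12_ok steps13_ok (by decide +kernel)

def cat0_7 : List (ℕ × ℕ) := steps14 ++ steps15

theorem cat0_7_ok : cert.stepsOK 3584 cat0_7 = true ∧ ruleBound spec.length cat0_7 = true :=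
  stepsOK_cat steps14_ok steps15_ok (by decide +kernel)

def cat0_8 : List (ℕ × ℕ) := steps16 ++ steps17

theorem cat0_8_ok : cert.stepsOK 4096 cat0_8 = true ∧ ruleBound spec.length cat0_8 = true :=
  stepsOK_cat steps16_ok steps17_ok (by decide +kernel)

def cat0_9 : List (ℕ × ℕ) := steps18 ++ steps19

theorem cat0_9_ok : cert.stepsOK 4608 cat0_9 = true ∧ ruleBound spec.length cat0_9 = true :=
  stepsOK_cat steps18_ok steps19_ok (by decide +kernel)

def cat0_10 : List (ℕ × ℕ) := steps20 ++ steps21

theorem cat0_10_ok : cert.stepsOK 5120 cat0_10 = true ∧ ruleBound spec.length cat0_10 = true :=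
  stepsOK_cat steps20_ok steps21_ok (by decide +kernel)

def cat0_11 : List (ℕ × ℕ) := steps22 ++ steps23

theorem cat0_11_ok : cert.stepsOK 5632 cat0_11 = true ∧ ruleBound spec.length cat0_11 = true :=
  stepsOK_cat steps22_ok steps23_ok (by decide +kernel)

def cat0_12 : List (ℕ × ℕ) := steps24 ++ steps25

theorem cat0_12_ok : cert.stepsOK 6144 cat0_12 = true ∧ ruleBound spec.length cat0_12 = true :=
  stepsOK_cat steps24_ok steps25_ok (by decide +kernel)

def cat0_13 : List (ℕ × ℕ) := steps26 ++ steps27

theorem cat0_13_ok : cert.stepsOK 6656 cat0_13 = true ∧ ruleBound spec.length cat0_13 = true :=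
  stepsOK_cat steps26_ok steps27_ok (by decide +kernel)

def cat0_14 : List (ℕ × ℕ) := steps28 ++ steps29

theorem cat0_14_ok : cert.stepsOK 7168 cat0_14 = true ∧ ruleBound spec.length cat0_14 = true :=
  stepsOK_cat steps28_ok steps29_ok (by decide +kernel)

def cat0_15 : List (ℕ × ℕ) := steps30 ++ steps31

theorem cat0_15_ok : cert.stepsOK 7680 cat0_15 = true ∧ ruleBound spec.length cat0_15 = true :=
  stepsOK_cat steps30_ok steps31_ok (by decide +kernel)

def cat0_16 : List (ℕ × ℕ) := steps32 ++ steps33

theorem cat0_16_ok : cert.stepsOK 8192 cat0_16 = true ∧ ruleBound spec.length cat0_16 = true :=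
  stepsOK_cat steps32_ok steps33_ok (by decide +kernel)

def cat0_17 : List (ℕ × ℕ) := steps34 ++ steps35

theorem cat0_17_ok : cert.stepsOK 8704 cat0_17 = true ∧ ruleBound spec.length cat0_17 = true :=
  stepsOK_cat steps34_ok steps35_ok (by decide +kernel)

def cat0_18 : List (ℕ × ℕ) := steps36 ++ steps37

theorem cat0_18_ok : cert.stepsOK 9216 cat0_18 = true ∧ ruleBound spec.length cat0_18 = true :=
  stepsOK_cat steps36_ok steps37_ok (by decide +kernel)

def cat0_19 : List (ℕ × ℕ) := steps38 ++ steps39

theorem cat0_19_ok : cert.stepsOK 9728 cat0_19 = true ∧ ruleBound spec.length cat0_19 = true :=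
  stepsOK_cat steps38_ok steps39_ok (by decide +kernel)

def cat0_20 : List (ℕ × ℕ) := steps40 ++ steps41

theorem cat0_20_ok : cert.stepsOK 10240 cat0_20 = true ∧ ruleBound spec.length cat0_20 = true :=
  stepsOK_cat steps40_ok steps41_ok (by decide +kernel)

def cat0_21 : List (ℕ × ℕ) := steps42 ++ steps43

theorem cat0_21_ok : cert.stepsOK 10752 cat0_21 = true ∧ ruleBound spec.length cat0_21 = true :=
  stepsOK_cat steps42_ok steps43_ok (by decide +kernel)

def cat0_22 : List (ℕ × ℕ) := steps44 ++ steps45

theorem cat0_22_ok : cert.stepsOK 11264 cat0_22 = true ∧ ruleBound spec.length cat0_22 = true :=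
  stepsOK_cat steps44_ok steps45_ok (by decide +kernel)

def cat0_23 : List (ℕ × ℕ) := steps46 ++ steps47

theorem cat0_23_ok : cert.stepsOK 11776 cat0_23 = true ∧ ruleBound spec.length cat0_23 = true :=
  stepsOK_cat steps46_ok steps47_ok (by decide +kernel)

def cat0_24 : List (ℕ × ℕ) := steps48 ++ steps49

theorem cat0_24_ok : cert.stepsOK 12288 cat0_24 = true ∧ ruleBound spec.length cat0_24 = true :=
  stepsOK_cat steps48_ok steps49_ok (by decide +kernel)

def cat0_25 : List (ℕ × ℕ) := steps50 ++ steps51

theorem cat0_25_ok : cert.stepsOK 12800 cat0_25 = true ∧ ruleBound spec.length cat0_25 = true :=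
  stepsOK_cat steps50_ok steps51_ok (by decide +kernel)

def cat0_26 : List (ℕ × ℕ) := steps52 ++ steps53

theorem cat0_26_ok : cert.stepsOK 13312 cat0_26 = true ∧ ruleBound spec.length cat0_26 = true :=
  stepsOK_cat steps52_ok steps53_ok (by decide +kernel)

def cat0_27 : List (ℕ × ℕ) := steps54 ++ steps55

theorem cat0_27_ok : cert.stepsOK 13824 cat0_27 = true ∧ ruleBound spec.length cat0_27 = true :=
  stepsOK_cat steps54_ok steps55_ok (by decide +kernel)

def cat0_28 : List (ℕ × ℕ) := steps56 ++ steps57

theorem cat0_28_ok : cert.stepsOK 14336 cat0_28 = true ∧ ruleBound spec.length cat0_28 = true :=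
  stepsOK_cat steps56_ok steps57_ok (by decide +kernel)

def cat0_29 : List (ℕ × ℕ) := steps58 ++ steps59

theorem cat0_29_ok : cert.stepsOK 14848 cat0_29 = true ∧ ruleBound spec.length cat0_29 = true :=
  stepsOK_cat steps58_ok steps59_ok (by decide +kernel)

def cat0_30 : List (ℕ × ℕ) := steps60 ++ steps61

theorem cat0_30_ok : cert.stepsOK 15360 cat0_30 = true ∧ ruleBound spec.length cat0_30 = true :=
  stepsOK_cat steps60_ok steps61_ok (by decide +kernel)

def cat0_31 : List (ℕ × ℕ) := steps62 ++ steps63

theorem cat0_31_ok : cert.stepsOK 15872 cat0_31 = true ∧ ruleBound spec.length cat0_31 = true :=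
  stepsOK_cat steps62_ok steps63_ok (by decide +kernel)

def cat0_32 : List (ℕ × ℕ) := steps64 ++ steps65

theorem cat0_32_ok : cert.stepsOK 16384 cat0_32 = true ∧ ruleBound spec.length cat0_32 = true :=
  stepsOK_cat steps64_ok steps65_ok (by decide +kernel)

def cat0_33 : List (ℕ × ℕ) := steps66 ++ steps67

theorem cat0_33_ok : cert.stepsOK 16896 cat0_33 = true ∧ ruleBound spec.length cat0_33 = true :=
  stepsOK_cat steps66_ok steps67_ok (by decide +kernel)

def cat0_34 : List (ℕ × ℕ) := steps68 ++ steps69

theorem cat0_34_ok : cert.stepsOK 17408 cat0_34 = true ∧ ruleBound spec.length cat0_34 = true :=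
  stepsOK_cat steps68_ok steps69_ok (by decide +kernel)

def cat0_35 : List (ℕ × ℕ) := steps70 ++ steps71

theorem cat0_35_ok : cert.stepsOK 17920 cat0_35 = true ∧ ruleBound spec.length cat0_35 = true :=
  stepsOK_cat steps70_ok steps71_ok (by decide +kernel)

def cat0_36 : List (ℕ × ℕ) := steps72 ++ steps73

theorem cat0_36_ok : cert.stepsOK 18432 cat0_36 = true ∧ ruleBound spec.length cat0_36 = true :=
  stepsOK_cat steps72_ok steps73_ok (by decide +kernel)

def cat1_0 : List (ℕ × ℕ) := cat0_0 ++ cat0_1

theorem cat1_0_ok : cert.stepsOK 0 cat1_0 = true ∧ ruleBound spec.length cat1_0 = true :=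
  stepsOK_cat cat0_0_ok cat0_1_ok (by decide +kernel)

def cat1_1 : List (ℕ × ℕ) := cat0_2 ++ cat0_3

theorem cat1_1_ok : cert.stepsOK 1024 cat1_1 = true ∧ ruleBound spec.length cat1_1 = true :=
  stepsOK_cat cat0_2_ok cat0_3_ok (by decide +kernel)

def cat1_2 : List (ℕ × ℕ) := cat0_4 ++ cat0_5

theorem cat1_2_ok : cert.stepsOK 2048 cat1_2 = true ∧ ruleBound spec.length cat1_2 = true :=
  stepsOK_cat cat0_4_ok cat0_5_ok (by decide +kernel)

def cat1_3 : List (ℕ × ℕ) := cat0_6 ++ cat0_7

theorem cat1_3_ok : cert.stepsOK 3072 cat1_3 = true ∧ ruleBound spec.length cat1_3 = true :=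
  stepsOK_cat cat0_6_ok cat0_7_ok (by decide +kernel)

def cat1_4 : List (ℕ × ℕ) := cat0_8 ++ cat0_9

theorem cat1_4_ok : cert.stepsOK 4096 cat1_4 = true ∧ ruleBound spec.length cat1_4 = true :=
  stepsOK_cat cat0_8_ok cat0_9_ok (by decide +kernel)

def cat1_5 : List (ℕ × ℕ) := cat0_10 ++ cat0_11

theorem cat1_5_ok : cert.stepsOK 5120 cat1_5 = true ∧ ruleBound spec.length cat1_5 = true :=
  stepsOK_cat cat0_10_ok cat0_11_ok (by decide +kernel)

def cat1_6 : List (ℕ × ℕ) := cat0_12 ++ cat0_13

theorem cat1_6_ok : cert.stepsOK 6144 cat1_6 = true ∧ ruleBound spec.length cat1_6 = true :=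
  stepsOK_cat cat0_12_ok cat0_13_ok (by decide +kernel)

def cat1_7 : List (ℕ × ℕ) := cat0_14 ++ cat0_15

theorem cat1_7_ok : cert.stepsOK 7168 cat1_7 = true ∧ ruleBound spec.length cat1_7 = true :=
  stepsOK_cat cat0_14_ok cat0_15_ok (by decide +kernel)

def cat1_8 : List (ℕ × ℕ) := cat0_16 ++ cat0_17

theorem cat1_8_ok : cert.stepsOK 8192 cat1_8 = true ∧ ruleBound spec.length cat1_8 = true :=
  stepsOK_cat cat0_16_ok cat0_17_ok (by decide +kernel)

def cat1_9 : List (ℕ × ℕ) := cat0_18 ++ cat0_19

theorem cat1_9_ok : cert.stepsOK 9216 cat1_9 = true ∧ ruleBound spec.length cat1_9 = true :=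
  stepsOK_cat cat0_18_ok cat0_19_ok (by decide +kernel)

def cat1_10 : List (ℕ × ℕ) := cat0_20 ++ cat0_21

theorem cat1_10_ok : cert.stepsOK 10240 cat1_10 = true ∧ ruleBound spec.length cat1_10 = true :=
  stepsOK_cat cat0_20_ok cat0_21_ok (by decide +kernel)

def cat1_11 : List (ℕ × ℕ) := cat0_22 ++ cat0_23

theorem cat1_11_ok : cert.stepsOK 11264 cat1_11 = true ∧ ruleBound spec.length cat1_11 = true :=
  stepsOK_cat cat0_22_ok cat0_23_ok (by decide +kernel)

def cat1_12 : List (ℕ × ℕ) := cat0_24 ++ cat0_25

theorem cat1_12_ok : cert.stepsOK 12288 cat1_12 = true ∧ ruleBound spec.length cat1_12 = true :=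
  stepsOK_cat cat0_24_ok cat0_25_ok (by decide +kernel)

def cat1_13 : List (ℕ × ℕ) := cat0_26 ++ cat0_27

theorem cat1_13_ok : cert.stepsOK 13312 cat1_13 = true ∧ ruleBound spec.length cat1_13 = true :=
  stepsOK_cat cat0_26_ok cat0_27_ok (by decide +kernel)

def cat1_14 : List (ℕ × ℕ) := cat0_28 ++ cat0_29

theorem cat1_14_ok : cert.stepsOK 14336 cat1_14 = true ∧ ruleBound spec.length cat1_14 = true :=
  stepsOK_cat cat0_28_ok cat0_29_ok (by decide +kernel)

def cat1_15 : List (ℕ × ℕ) := cat0_30 ++ cat0_31

theorem cat1_15_ok : cert.stepsOK 15360 cat1_15 = true ∧ ruleBound spec.length cat1_15 = true :=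
  stepsOK_cat cat0_30_ok cat0_31_ok (by decide +kernel)

def cat1_16 : List (ℕ × ℕ) := cat0_32 ++ cat0_33

theorem cat1_16_ok : cert.stepsOK 16384 cat1_16 = true ∧ ruleBound spec.length cat1_16 = true :=
  stepsOK_cat cat0_32_ok cat0_33_ok (by decide +kernel)

def cat1_17 : List (ℕ × ℕ) := cat0_34 ++ cat0_35

theorem cat1_17_ok : cert.stepsOK 17408 cat1_17 = true ∧ ruleBound spec.length cat1_17 = true :=
  stepsOK_cat cat0_34_ok cat0_35_ok (by decide +kernel)

def cat2_0 : List (ℕ × ℕ) := cat1_0 ++ cat1_1

theorem cat2_0_ok : cert.stepsOK 0 cat2_0 = true ∧ ruleBound spec.length cat2_0 = true :=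
  stepsOK_cat cat1_0_ok cat1_1_ok (by decide +kernel)

def cat2_1 : List (ℕ × ℕ) := cat1_2 ++ cat1_3

theorem cat2_1_ok : cert.stepsOK 2048 cat2_1 = true ∧ ruleBound spec.length cat2_1 = true :=
  stepsOK_cat cat1_2_ok cat1_3_ok (by decide +kernel)

def cat2_2 : List (ℕ × ℕ) := cat1_4 ++ cat1_5

theorem cat2_2_ok : cert.stepsOK 4096 cat2_2 = true ∧ ruleBound spec.length cat2_2 = true :=
  stepsOK_cat cat1_4_ok cat1_5_ok (by decide +kernel)

def cat2_3 : List (ℕ × ℕ) := cat1_6 ++ cat1_7

theorem cat2_3_ok : cert.stepsOK 6144 cat2_3 = true ∧ ruleBound spec.length cat2_3 = true :=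
  stepsOK_cat cat1_6_ok cat1_7_ok (by decide +kernel)

def cat2_4 : List (ℕ × ℕ) := cat1_8 ++ cat1_9

theorem cat2_4_ok : cert.stepsOK 8192 cat2_4 = true ∧ ruleBound spec.length cat2_4 = true :=
  stepsOK_cat cat1_8_ok cat1_9_ok (by decide +kernel)

def cat2_5 : List (ℕ × ℕ) := cat1_10 ++ cat1_11

theorem cat2_5_ok : cert.stepsOK 10240 cat2_5 = true ∧ ruleBound spec.length cat2_5 = true :=
  stepsOK_cat cat1_10_ok cat1_11_ok (by decide +kernel)

def cat2_6 : List (ℕ × ℕ) := cat1_12 ++ cat1_13

theorem cat2_6_ok : cert.stepsOK 12288 cat2_6 = true ∧ ruleBound spec.length cat2_6 = true :=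
  stepsOK_cat cat1_12_ok cat1_13_ok (by decide +kernel)

def cat2_7 : List (ℕ × ℕ) := cat1_14 ++ cat1_15

theorem cat2_7_ok : cert.stepsOK 14336 cat2_7 = true ∧ ruleBound spec.length cat2_7 = true :=
  stepsOK_cat cat1_14_ok cat1_15_ok (by decide +kernel)

def cat2_8 : List (ℕ × ℕ) := cat1_16 ++ cat1_17

theorem cat2_8_ok : cert.stepsOK 16384 cat2_8 = true ∧ ruleBound spec.length cat2_8 = true :=
  stepsOK_cat cat1_16_ok cat1_17_ok (by decide +kernel)

def cat3_0 : List (ℕ × ℕ) := cat2_0 ++ cat2_1

theorem cat3_0_ok : cert.stepsOK 0 cat3_0 = true ∧ ruleBound spec.length cat3_0 = true :=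
  stepsOK_cat cat2_0_ok cat2_1_ok (by decide +kernel)

def cat3_1 : List (ℕ × ℕ) := cat2_2 ++ cat2_3

theorem cat3_1_ok : cert.stepsOK 4096 cat3_1 = true ∧ ruleBound spec.length cat3_1 = true :=
  stepsOK_cat cat2_2_ok cat2_3_ok (by decide +kernel)

def cat3_2 : List (ℕ × ℕ) := cat2_4 ++ cat2_5

theorem cat3_2_ok : cert.stepsOK 8192 cat3_2 = true ∧ ruleBound spec.length cat3_2 = true :=
  stepsOK_cat cat2_4_ok cat2_5_ok (by decide +kernel)

def cat3_3 : List (ℕ × ℕ) := cat2_6 ++ cat2_7

theorem cat3_3_ok : cert.stepsOK 12288 cat3_3 = true ∧ ruleBound spec.length cat3_3 = true :=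
  stepsOK_cat cat2_6_ok cat2_7_ok (by decide +kernel)

def cat3_4 : List (ℕ × ℕ) := cat2_8 ++ cat0_36

theorem cat3_4_ok : cert.stepsOK 16384 cat3_4 = true ∧ ruleBound spec.length cat3_4 = true :=
  stepsOK_cat cat2_8_ok cat0_36_ok (by decide +kernel)

def cat4_0 : List (ℕ × ℕ) := cat3_0 ++ cat3_1

theorem cat4_0_ok : cert.stepsOK 0 cat4_0 = true ∧ ruleBound spec.length cat4_0 = true :=
  stepsOK_cat cat3_0_ok cat3_1_ok (by decide +kernel)

def cat4_1 : List (ℕ × ℕ) := cat3_2 ++ cat3_3

theorem cat4_1_ok : cert.stepsOK 8192 cat4_1 = true ∧ ruleBound spec.length cat4_1 = true :=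
  stepsOK_cat cat3_2_ok cat3_3_ok (by decide +kernel)

def cat5_0 : List (ℕ × ℕ) := cat4_0 ++ cat4_1

theorem cat5_0_ok : cert.stepsOK 0 cat5_0 = true ∧ ruleBound spec.length cat5_0 = true :=
  stepsOK_cat cat4_0_ok cat4_1_ok (by decide +kernel)

def cat6_0 : List (ℕ × ℕ) := cat5_0 ++ cat3_4

theorem cat6_0_ok : cert.stepsOK 0 cat6_0 = true ∧ ruleBound spec.length cat6_0 = true :=
  stepsOK_cat cat5_0_ok cat3_4_ok (by decide +kernel)

theorem spec_ok : cert.rotsOK rels spec = true := by decide +kernel

def tabN : ℕ := cat6_0.length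

theorem tab0_ok : cert.tabPart tabN 0 236 = true := by decide +kernel

theorem tab1_ok : cert.tabPart tabN 236 236 = true := by decide +kernel

theorem tab2_ok : cert.tabPart tabN 472 236 = true := by decide +kernel

theorem tab3_ok : cert.tabPart tabN 708 236 = true := by decide +kernel

theorem tab4_ok : cert.tabPart tabN 944 236 = true := by decide +kernel

theorem tab5_ok : cert.tabPart tabN 1180 236 = true := by decide +kernel

theorem tab6_ok : cert.tabPart tabN 1416 236 = true := by decide +kernel

theorem tab7_ok : cert.tabPart tabN 1652 236 = true := by decide +kernel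

theorem tab8_ok : cert.tabPart tabN 1888 236 = true := by decide +kernel

theorem tab9_ok : cert.tabPart tabN 2124 236 = true := by decide +kernel

theorem tab10_ok : cert.tabPart tabN 2360 236 = true := by decide +kernel

theorem tab11_ok : cert.tabPart tabN 2596 236 = true := by decide +kernel

theorem tab12_ok : cert.tabPart tabN 2832 3 = true := by decide +kernel

theorem tab_ok : cert.tabOK cat6_0.length = true := by
  have h1 : cert.tabPart tabN 0 (236 + 236) = true := Cert.tabPart_add tab0_ok (by simpa using tab1_ok)
  have h2 : cert.tabPart tabN 0 (472 + 236) = true := Cert.tabPart_add h1 (by simpa using tab2_ok)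
  have h3 : cert.tabPart tabN 0 (708 + 236) = true := Cert.tabPart_add h2 (by simpa using tab3_ok)
  have h4 : cert.tabPart tabN 0 (944 + 236) = true := Cert.tabPart_add h3 (by simpa using tab4_ok)
  have h5 : cert.tabPart tabN 0 (1180 + 236) = true := Cert.tabPart_add h4 (by simpa using tab5_ok)
  have h6 : cert.tabPart tabN 0 (1416 + 236) = true := Cert.tabPart_add h5 (by simpa using tab6_ok)
  have h7 : cert.tabPart tabN 0 (1652 + 236) = true := Cert.tabPart_add h6 (by simpa using tab7_ok)
  have h8 : cert.tabPart tabN 0 (1888 + 236) = true := Cert.tabPart_add h7 (by simpa using tab8_ok)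
  have h9 : cert.tabPart tabN 0 (2124 + 236) = true := Cert.tabPart_add h8 (by simpa using tab9_ok)
  have h10 : cert.tabPart tabN 0 (2360 + 236) = true := Cert.tabPart_add h9 (by simpa using tab10_ok)
  have h11 : cert.tabPart tabN 0 (2596 + 236) = true := Cert.tabPart_add h10 (by simpa using tab11_ok)
  have h12 : cert.tabPart tabN 0 (2832 + 3) = true := Cert.tabPart_add h11 (by simpa using tab12_ok)
  exact Cert.tabOK_of_part (by decide +kernel) h12

theorem valid : cert.Valid rels :=
  ⟨by decide, spec, cat6_0, spec_ok, cat6_0_ok.1, cat6_0_ok.2, tab_ok⟩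

theorem fins_length : cert.fin.length = 2835 := by rw [Cert.fin, List.length_map, List.length_range]; rfl

end Cfsg.Lib.UFourThreeType.GroupCert
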