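import Cfsg.Agent.UFourThreeType.Centre
import Cfsg.Agent.UFourThreeType.GroupCertCheck
import Cfsg.Agent.UFourThreeCover.Field
import Cfsg.Agent.S2150
import Cfsg.Agent.S0283

/-!
The presented group of order 3265920 is the projective special unitary group in dimension four over nine elements.
-/

set_option autoImplicit false
set_option maxRecDepth 100000
set_option maxHeartbeats 1000000
set_option linter.style.haveILetI false
set_option linter.unusedSectionVars false

open scoped Matrix

namespace Cfsg.Lib.UFourThreeType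

open Cfsg.Lib.CosetCert
open Cfsg.Lib.UFourThreeCover (K card_K card_psu cube herm_preserved)

/-- Sum in the field with nine elements, coded as `a + 3 b`. -/
def add9 (x y : ℕ) : ℕ := (x % 3 + y % 3) % 3 + 3 * ((x / 3 + y / 3) % 3)

/-- Product in the field with nine elements. -/
def mul9 (x y : ℕ) : ℕ :=
  ((x % 3) * (y % 3) + 2 * ((x / 3) * (y / 3))) % 3 + 3 * (((x % 3) * (y / 3) + (x / 3) * (y % 3)) % 3)

/-- An element from its code. -/
def dec9 (c : ℕ) : K := ⟨(c % 3 : ℕ), (c / 3 : ℕ)⟩

theorem dec9_ops : ∀ x y : Fin 9, add9 x.val y.val < 9 ∧ mul9 x.val y.val < 9 ∧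
    dec9 (add9 x.val y.val) = dec9 x.val + dec9 y.val ∧ dec9 (mul9 x.val y.val) = dec9 x.val * dec9 y.val := by
  decide +kernel

/-- The packed letters. -/
def matCodes : List ℕ := [411789237817150, 22908173521140, 1235357252934228, 411785751091798, 137354897915163,
  14972102888400, 282817489140, 22313812029174, 567186785271, 437804615069542]

/-- The entries of a letter. -/
def lmat (l : ℕ) : List ℕ := (List.range 16).map fun i => matCodes.getD l 0 / 9 ^ i % 9

/-- The unit matrix. -/
def cone4 : List ℕ := [1, 0, 0, 0, 0, 1, 0, 0, 0, 0, 1, 0, 0, 0, 0, 1]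

/-- An entry. -/
def ent (A : List ℕ) (i : ℕ) : ℕ := A.getD i 0 % 9

/-- The product. -/
def cmul4 (A B : List ℕ) : List ℕ := (List.range 16).map fun n =>
  add9 (add9 (mul9 (ent A (n / 4 * 4)) (ent B (n % 4))) (mul9 (ent A (n / 4 * 4 + 1)) (ent B (n % 4 + 4))))
    (add9 (mul9 (ent A (n / 4 * 4 + 2)) (ent B (n % 4 + 8))) (mul9 (ent A (n / 4 * 4 + 3)) (ent B (n % 4 + 12))))

/-- The product of a word. -/
def wmat (w : List ℕ) : List ℕ := w.foldl (fun A l => cmul4 A (lmat l)) cone4

/-- Commuting with every letter. -/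
def centralW (A : List ℕ) : Bool := (List.range 10).all fun l => cmul4 A (lmat l) == cmul4 (lmat l) A

/-- Scalar. -/
def scalarW (A : List ℕ) : Bool := [1, 2, 3, 6].any fun c =>
  A == (List.range 16).map fun n => if n / 4 = n % 4 then c else 0

/-- The matrix of a list. -/
def dmat (A : List ℕ) : Matrix (Fin 4) (Fin 4) K := Matrix.of fun i j => dec9 (ent A (4 * i.val + j.val))

theorem dmat_mul (A B : List ℕ) : dmat (cmul4 A B) = dmat A * dmat B := by
  have ops : ∀ {x y : ℕ}, x < 9 → y < 9 → add9 x y < 9 ∧ mul9 x y < 9 ∧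
      dec9 (add9 x y) = dec9 x + dec9 y ∧ dec9 (mul9 x y) = dec9 x * dec9 y :=
    fun {x y} hx hy => dec9_ops ⟨x, hx⟩ ⟨y, hy⟩
  have e9 : ∀ (C : List ℕ) (i : ℕ), ent C i < 9 := fun C i => Nat.mod_lt _ (by norm_num)
  have m9 : ∀ (i j : ℕ), mul9 (ent A i) (ent B j) < 9 := fun i j => (ops (e9 _ _) (e9 _ _)).2.1
  refine Matrix.ext fun i j => ?_
  have hij : 4 * i.val + j.val < 16 := by omega
  have hd : (4 * i.val + j.val) / 4 * 4 = 4 * i.val ∧ (4 * i.val + j.val) % 4 = j.val := by omega
  simp only [dmat, Matrix.mul_apply, Fin.sum_univ_four, Matrix.of_apply]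
  have hget : ent (cmul4 A B) (4 * i.val + j.val) =
      add9 (add9 (mul9 (ent A (4 * i.val)) (ent B j.val)) (mul9 (ent A (4 * i.val + 1)) (ent B (j.val + 4))))
        (add9 (mul9 (ent A (4 * i.val + 2)) (ent B (j.val + 8))) (mul9 (ent A (4 * i.val + 3)) (ent B (j.val + 12)))) := by
    rw [ent, cmul4, List.getD_eq_getElem _ _ (by simpa using hij), List.getElem_map, List.getElem_range, hd.1, hd.2]
    exact Nat.mod_eq_of_lt (ops (ops (m9 _ _) (m9 _ _)).1 (ops (m9 _ _) (m9 _ _)).1).1
  rw [hget, (ops (ops (m9 _ _) (m9 _ _)).1 (ops (m9 _ _) (m9 _ _)).1).2.2.1, (ops (m9 _ _) (m9 _ _)).2.2.1,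
    (ops (m9 _ _) (m9 _ _)).2.2.1, (ops (e9 _ _) (e9 _ _)).2.2.2, (ops (e9 _ _) (e9 _ _)).2.2.2,
    (ops (e9 _ _) (e9 _ _)).2.2.2, (ops (e9 _ _) (e9 _ _)).2.2.2]
  simp only [Fin.val_zero, Fin.val_one, Fin.val_two, show ((3 : Fin 4) : ℕ) = 3 from rfl, Nat.add_zero, Nat.mul_zero,
    Nat.zero_add, Nat.mul_one, show (4 * 2 : ℕ) = 8 from rfl, show (4 * 3 : ℕ) = 12 from rfl, Nat.add_comm j.val]
  ring

theorem dmat_one : dmat cone4 = 1 := by decide +kernel

theorem lmat_facts : ∀ l : Fin 10, (dmat (lmat l.val))ᵀ * (dmat (lmat l.val)).map cube = 1 ∧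
    (dmat (lmat l.val)).det = 1 := by decide +kernel

theorem scalar_dmat : ∀ c ∈ [1, 2, 3, 6],
    dmat ((List.range 16).map fun n => if n / 4 = n % 4 then c else 0) = dec9 c • (1 : Matrix (Fin 4) (Fin 4) K) := by
  decide +kernel

theorem wmat_rels : (GroupCert.rels.all fun r => r.all (fun l => decide (l < 10)) && scalarW (wmat r)) = true := by
  decide +kernel

theorem wmat_table : ((List.range 32).all fun n => (row (qw n) == 0 || !centralW (wmat (qw n))) &&
    [1, 2, 3, 4].all fun p => row (qw n) == row [p] || !centralW (wmat (qw n ++ [p]))) = true := by decide +kernel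

theorem wmat_primes : scalarW (wmat ((List.replicate 5 [9, 7]).flatten)) = true ∧ centralW (wmat [9, 7]) = false ∧
    scalarW (wmat ((List.replicate 7 [9, 7, 8]).flatten)) = true ∧ centralW (wmat [9, 7, 8]) = false := by
  decide +kernel

/-- A letter in the special unitary group. -/
def lsu (l : ℕ) : Cfsg.SU 4 K 3 :=
  if h : l < 10 then ⟨⟨dmat (lmat l), (lmat_facts ⟨l, h⟩).2⟩, fun u v => herm_preserved (lmat_facts ⟨l, h⟩).1 u v⟩
  else 1

/-- The matrix of an element. -/
def sumat (g : Cfsg.SU 4 K 3) : Matrix (Fin 4) (Fin 4) K := g.1.1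

theorem sumat_inj : Function.Injective sumat := fun _ _ h => Subtype.ext (Subtype.ext h)

theorem lsu_mat {l : ℕ} (hl : l < 10) : sumat (lsu l) = dmat (lmat l) := by
  rw [lsu, dif_pos hl]; rfl

theorem wval_mat : ∀ (w : List ℕ), (∀ l ∈ w, l < 10) → sumat (wval lsu w) = dmat (wmat w) := by
  intro w
  induction w using List.reverseRecOn with
  | nil => intro _; simp only [wval, wmat, List.map_nil, List.prod_nil, List.foldl_nil]; exact dmat_one.symm
  | append_singleton w l ih =>
    intro hw
    rw [wmat, List.foldl_append, List.foldl_cons, List.foldl_nil, dmat_mul, ← wmat,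
      ← ih fun x hx => hw x (List.mem_append_left _ hx), ← lsu_mat (hw l (by simp))]
    simp only [wval, List.map_append, List.prod_append, List.map_cons, List.map_nil, List.prod_cons, List.prod_nil,
      mul_one]
    rfl

/-- The letters in the quotient. -/
noncomputable def lpsu (l : ℕ) : Cfsg.PSU 4 K 3 := QuotientGroup.mk' (Subgroup.center (Cfsg.SU 4 K 3)) (lsu l)

theorem lpsu_wval (w : List ℕ) : wval lpsu w = QuotientGroup.mk' (Subgroup.center (Cfsg.SU 4 K 3)) (wval lsu w) := by
  rw [wval, wval, map_list_prod, List.map_map]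
  rfl

theorem lpsu_scalar {w : List ℕ} (hw : ∀ l ∈ w, l < 10) (h : scalarW (wmat w) = true) : wval lpsu w = 1 := by
  rw [lpsu_wval, QuotientGroup.mk'_apply, QuotientGroup.eq_one_iff, Subgroup.mem_center_iff]
  obtain ⟨c, hc, he⟩ := List.any_eq_true.1 h
  intro g
  refine sumat_inj ?_
  show sumat g * sumat (wval lsu w) = sumat (wval lsu w) * sumat g
  rw [wval_mat w hw, beq_iff_eq.1 he, scalar_dmat c hc, Matrix.mul_smul, Matrix.smul_mul, mul_one, one_mul]

theorem lpsu_ne {w : List ℕ} (hw : ∀ l ∈ w, l < 10) (h : centralW (wmat w) = false) : wval lpsu w ≠ 1 := by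
  intro e
  rw [lpsu_wval, QuotientGroup.mk'_apply, QuotientGroup.eq_one_iff, Subgroup.mem_center_iff] at e
  refine Bool.false_ne_true (h.symm.trans (List.all_eq_true.2 fun l hl => beq_iff_eq.2 ?_))
  rw [List.mem_range] at hl
  have e' := congrArg sumat (e (lsu l))
  change sumat (lsu l) * sumat (wval lsu w) = sumat (wval lsu w) * sumat (lsu l) at e'
  rw [wval_mat w hw, lsu_mat hl, ← dmat_mul, ← dmat_mul] at e'
  refine List.ext_getElem (by simp [cmul4]) fun n h1 h2 => ?_
  have hn : n < 16 := by simpa [cmul4] using h1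
  have := congrFun (congrFun e'.symm ⟨n / 4, by omega⟩) ⟨n % 4, Nat.mod_lt _ (by norm_num)⟩
  simp only [dmat, Matrix.of_apply, show 4 * (n / 4) + n % 4 = n by omega] at this
  have hinj : ∀ x y : Fin 9, dec9 x.val = dec9 y.val → x = y := by decide +kernel
  have key := congrArg Fin.val (hinj ⟨ent (cmul4 (wmat w) (lmat l)) n, Nat.mod_lt _ (by norm_num)⟩
    ⟨ent (cmul4 (lmat l) (wmat w)) n, Nat.mod_lt _ (by norm_num)⟩ this)
  simp only [ent, List.getD_eq_getElem _ _ h1, List.getD_eq_getElem _ _ h2] at key
  have lt9 : ∀ (A B : List ℕ) (n : ℕ) (h : n < (cmul4 A B).length), (cmul4 A B)[n] < 9 := by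
    intro A B n h
    simp only [cmul4, List.getElem_map, List.getElem_range, add9]
    omega
  rwa [Nat.mod_eq_of_lt (lt9 _ _ _ h1), Nat.mod_eq_of_lt (lt9 _ _ _ h2)] at key

theorem min_index {H : Subgroup (Cfsg.PSU 4 K 3)} (h : H ≠ ⊤) : 112 ≤ H.index :=
  (Cfsg.Agent.S2150.result (F := K) 3 (by rw [card_K]; norm_num) (by norm_num)).1 H h

/-- The letters of the free group. -/
def freeLetter (l : ℕ) : FreeGroup (Fin 10) := if h : l < 10 then FreeGroup.of ⟨l, h⟩ else 1

/-- The relators. -/
def pRels : Set (FreeGroup (Fin 10)) := {x | ∃ r ∈ GroupCert.rels, wval freeLetter r = x}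

/-- The presented group. -/
abbrev Pres : Type := PresentedGroup pRels

/-- The letters of the presented group. -/
def pim (l : ℕ) : Pres := PresentedGroup.mk pRels (freeLetter l)

theorem wval_map {A B : Type*} [Group A] [Group B] (f : A →* B) (im : ℕ → A) (w : List ℕ) :
    f (wval im w) = wval (fun l => f (im l)) w := by
  rw [wval, wval, map_list_prod, List.map_map]; rfl

theorem wval_congr {A : Type*} [Group A] {im im' : ℕ → A} {w : List ℕ} (h : ∀ l ∈ w, im l = im' l) :
    wval im w = wval im' w := congrArg List.prod (List.map_congr_left h)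

theorem rels_facts : (GroupCert.rels.all fun r => r.all fun l => decide (l < 10)) = true ∧
    ((List.range 10).all fun l => GroupCert.rels.contains [l, l]) = true ∧
    (CentreCert.rels.all fun r => GroupCert.rels.contains r) = true ∧ GroupCert.cert.m = 2835 ∧
    GroupCert.cert.ng = 10 ∧ (GroupCert.cert.subs.all fun l => decide (l < 9)) = true := by
  decide +kernel

theorem pim_rel {r : List ℕ} (hr : r ∈ GroupCert.rels) : wval pim r = 1 := by
  show wval (fun l => PresentedGroup.mk pRels (freeLetter l)) r = 1
  rw [← wval_map]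
  exact PresentedGroup.one_of_mem ⟨r, hr, rfl⟩

theorem pim_sq {l : ℕ} (hl : l < 10) : pim l * pim l = 1 := by
  have := pim_rel (List.contains_iff_mem.1 (List.all_eq_true.1 rels_facts.2.1 l (List.mem_range.2 hl)))
  simpa [wval] using this

theorem card_pres : Finite Pres ∧ Nat.card Pres ≤ 3265920 := by
  set K9 := Subgroup.closure (pim '' Set.Iio CentreCert.cert.ng) with hK9
  have hbot := card_le CentreCert.cert pim (K := (⊥ : Subgroup Pres)) (L := K9) CentreCert.valid
    (fun l hl => pim_sq (by rw [cert_facts.1] at hl; omega))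
    (fun r hr => pim_rel (List.contains_iff_mem.1 (List.all_eq_true.1 rels_facts.2.2.1 r hr)))
    (fun r hr l hl => pim_sq (by
      have := decide_eq_true_eq.mp (List.all_eq_true.1 (List.all_eq_true.1 cert_facts.2.2.2 r hr) l hl)
      omega))
    (fun s hs => by rw [cert_facts.2.2.1] at hs; simp at hs) le_rfl
  haveI := hbot.1
  have h9 : Nat.card K9 ≤ 1152 := by
    have := hbot.2
    rwa [Subgroup.card_bot, mul_one, Cert.fin, List.length_map, List.length_range, cert_facts.2.1] at this
  have htop : (⊤ : Subgroup Pres) ≤ Subgroup.closure (pim '' Set.Iio GroupCert.cert.ng) := by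
    rw [← PresentedGroup.closure_range_of pRels, Subgroup.closure_le]
    rintro _ ⟨i, rfl⟩
    refine Subgroup.subset_closure ⟨i.val, by rw [Set.mem_Iio, rels_facts.2.2.2.2.1]; exact i.isLt, ?_⟩
    simp only [pim, freeLetter, dif_pos i.isLt]
    rfl
  have hall := card_le GroupCert.cert pim (K := K9) (L := ⊤) GroupCert.valid
    (fun l hl => pim_sq (by rwa [rels_facts.2.2.2.2.1] at hl))
    (fun r hr => pim_rel hr)
    (fun r hr l hl => pim_sq (decide_eq_true_eq.mp (List.all_eq_true.1 (List.all_eq_true.1 rels_facts.1 r hr) l hl)))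
    (fun s hs => Subgroup.subset_closure ⟨s, by
      rw [Set.mem_Iio, cert_facts.1]
      exact decide_eq_true_eq.mp (List.all_eq_true.1 rels_facts.2.2.2.2.2 s hs), rfl⟩) htop
  haveI := hall.1
  refine ⟨Finite.of_equiv (⊤ : Subgroup Pres) Subgroup.topEquiv.toEquiv, ?_⟩
  rw [← Nat.card_congr (Subgroup.topEquiv (G := Pres)).toEquiv]
  refine hall.2.trans ?_
  rw [Cert.fin, List.length_map, List.length_range, rels_facts.2.2.2.1]
  omega

instance finite_pres : Finite Pres := card_pres.1

theorem lift_fact {A : Type*} [Group A] (im : ℕ → A) {r : List ℕ} (hr : r ∈ GroupCert.rels) :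
    FreeGroup.lift (fun i : Fin 10 => im i.val) (wval freeLetter r) = wval im r := by
  rw [wval_map]
  refine wval_congr fun l hl => ?_
  have := decide_eq_true_eq.mp (List.all_eq_true.1 (List.all_eq_true.1 rels_facts.1 r hr) l hl)
  rw [freeLetter, dif_pos this, FreeGroup.lift_apply_of]

/-- Realisations of the relators give homomorphisms. -/
theorem exists_hom {A : Type*} [Group A] (im : ℕ → A) (h : ∀ r ∈ GroupCert.rels, wval im r = 1) :
    ∃ f : Pres →* A, ∀ l < 10, f (pim l) = im l := by
  refine ⟨PresentedGroup.toGroup (f := fun i : Fin 10 => im i.val) (by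
    rintro _ ⟨r, hr, rfl⟩
    rw [lift_fact im hr, h r hr]), fun l hl => ?_⟩
  rw [pim, freeLetter, dif_pos hl]
  exact PresentedGroup.toGroup.of _

/-- The identification on the letters. -/
theorem pres_equiv_letters : ∃ e : Pres ≃* Cfsg.PSU 4 K 3, ∀ l < 10, e (pim l) = lpsu l := by
  classical
  haveI : Finite (Cfsg.PSU 4 K 3) := Nat.finite_of_card_ne_zero (by rw [card_psu]; norm_num)
  obtain ⟨f, hf⟩ := exists_hom lpsu fun r hr => by
    have h := List.all_eq_true.1 wmat_rels r hr
    rw [Bool.and_eq_true, List.all_eq_true] at h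
    exact lpsu_scalar (fun l hl => decide_eq_true_eq.mp (h.1 l hl)) h.2
  have fw : ∀ w : List ℕ, (∀ l ∈ w, l < 10) → f (wval pim w) = wval lpsu w := fun w hw => by
    rw [wval_map]
    exact wval_congr fun l hl => hf l (hw l hl)
  set R := f.range with hR
  have hmem : ∀ w : List ℕ, (∀ l ∈ w, l < 10) → wval lpsu w ∈ R := fun w hw => ⟨_, fw w hw⟩
  have hpr : ∀ {p : ℕ} (w : List ℕ), p.Prime → (∀ l ∈ w, l < 10) → scalarW (wmat (List.replicate p w).flatten) = true →
      centralW (wmat w) = false → p ∣ Nat.card R := by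
    intro p w hp hw hs hn
    haveI := Fact.mk hp
    have hlt : ∀ l ∈ (List.replicate p w).flatten, l < 10 := fun l hl => by
      obtain ⟨u, hu, hl⟩ := List.mem_flatten.1 hl
      rw [(List.mem_replicate.1 hu).2] at hl
      exact hw l hl
    have h1 : wval lpsu w ^ p = 1 := by
      have := lpsu_scalar hlt hs
      rwa [wval, List.map_flatten, List.map_replicate, List.prod_flatten, List.map_replicate, List.prod_replicate] at this
    have ho := orderOf_eq_prime h1 (lpsu_ne hw hn)
    have := orderOf_dvd_natCard (⟨_, hmem w hw⟩ : R)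
    rwa [Subgroup.orderOf_mk, ho] at this
  have h1152 : 1152 ∣ Nat.card R := by
    have hsat : Sat CentreCert.cert lpsu (⊥ : Subgroup (Cfsg.PSU 4 K 3)) CentreCert.rels :=
      { valid := CentreCert.valid
        inv := fun l hl => by
          rw [cert_facts.1] at hl
          have := lpsu_scalar (w := [l, l]) (by simp; omega) (by
            have := List.all_eq_true.1 wmat_rels [l, l] (List.contains_iff_mem.1
              (List.all_eq_true.1 rels_facts.2.1 l (List.mem_range.2 (by omega))))
            rw [Bool.and_eq_true] at this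
            exact this.2)
          simpa [wval] using this
        rel := fun r hr => by
          have h := List.all_eq_true.1 wmat_rels r (List.contains_iff_mem.1 (List.all_eq_true.1 rels_facts.2.2.1 r hr))
          rw [Bool.and_eq_true, List.all_eq_true] at h
          exact lpsu_scalar (fun l hl => decide_eq_true_eq.mp (h.1 l hl)) h.2
        lets := fun r hr l hl => by
          rw [cert_facts.1]
          exact decide_eq_true_eq.mp (List.all_eq_true.1 (List.all_eq_true.1 cert_facts.2.2.2 r hr) l hl)
        sub := fun s hs => by rw [cert_facts.2.2.1] at hs; simp at hs }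
    set L := Subgroup.closure (lpsu '' Set.Iio CentreCert.cert.ng) with hL
    have hLR : L ≤ R := (Subgroup.closure_le _).2 (by
      rintro _ ⟨l, hl, rfl⟩
      rw [Set.mem_Iio, cert_facts.1] at hl
      exact ⟨pim l, hf l (by omega)⟩)
    have hle := card_le CentreCert.cert lpsu (K := (⊥ : Subgroup _)) (L := L) CentreCert.valid hsat.inv hsat.rel
      (fun r hr l hl => hsat.inv l (hsat.lets r hr l hl)) hsat.sub le_rfl
    have hcw : ∀ {i}, i < 1152 → (∀ l ∈ cw i, l < 9) ∧ row (cw i) = i := fun hi => Sys.cw_lt hi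
    have hmemL : ∀ {i}, i < 1152 → wval lpsu (cw i) ∈ L := fun hi => Subgroup.list_prod_mem _ (by
      intro x hx
      obtain ⟨l, hl, rfl⟩ := List.mem_map.1 hx
      exact Subgroup.subset_closure ⟨l, by rw [Set.mem_Iio, cert_facts.1]; exact (hcw ‹_›).1 l hl, rfl⟩)
    let e : Fin 1152 → L := fun i => ⟨_, hmemL i.isLt⟩
    have hs : Function.Surjective e := fun g => by
      obtain ⟨k, hk, hgk⟩ := exists_coset CentreCert.cert lpsu CentreCert.valid hsat.inv hsat.rel
        (fun r hr l hl => hsat.inv l (hsat.lets r hr l hl)) hsat.sub le_rfl (K := (⊥ : Subgroup _)) g.2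
      rw [Subgroup.mem_bot, mul_inv_eq_one] at hgk
      obtain ⟨p, hp, rfl⟩ := List.mem_map.1 hk
      rw [List.mem_range, cert_facts.2.1] at hp
      refine ⟨⟨p, hp⟩, Subtype.ext ?_⟩
      show wval lpsu (cw p) = g
      rw [(hsat.go_zero (w := cw p) (by rw [cert_facts.1]; exact (hcw hp).1)).2, show go CentreCert.cert 0 (cw p) = p
        from (hcw hp).2, hgk]
    have h0 : ∀ i < 1152, wval lpsu (cw i) = 1 → i = 0 := fun i hi h => by
      obtain ⟨hw, hr⟩ := hcw hi
      have heq : ∀ {u v : List ℕ}, (∀ l ∈ u, l < 9) → (∀ l ∈ v, l < 9) → row u = row v →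
          wval lpsu u = wval lpsu v := fun {u v} hu hv e =>
        hsat.word_eq (by rw [cert_facts.1]; exact hu) (by rw [cert_facts.1]; exact hv) e
      have hm := List.all_eq_true.1 moves i (List.mem_range.2 hi)
      simp only [Bool.or_eq_true, List.any_eq_true, List.mem_range, beq_iff_eq, Bool.and_eq_true,
        Bool.not_eq_true', beq_eq_false_iff_ne] at hm
      rcases hm with ⟨n, hn, hn'⟩ | ⟨p, hp, n, hn, h1, h2⟩
      · have hc := List.all_eq_true.1 wmat_table n (List.mem_range.2 hn)
        rw [Bool.and_eq_true] at hc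
        have h0n := hc.1
        simp only [hn', Bool.or_eq_true, beq_iff_eq, Bool.not_eq_true'] at h0n
        exact h0n.resolve_right fun hz => lpsu_ne (fun l hl => by have := Sys.qw_lt hn l hl; omega) hz
          (by rw [heq (Sys.qw_lt hn) hw (hn'.trans hr.symm), h])
      · exfalso
        have hp9 : p < 9 := by simp at hp; omega
        have hl : ∀ l ∈ cw i ++ [p] ++ (cw i).reverse, l < 9 := by
          intro l hl
          simp only [List.mem_append, List.mem_reverse, List.mem_singleton] at hl
          rcases hl with (hl | rfl) | hl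
          exacts [hw l hl, hp9, hw l hl]
        have e1 := heq hl (Sys.qw_lt hn) h1
        have e2 := wval_reverse lpsu (w := cw i) fun l hl' => hsat.inv l (by rw [cert_facts.1]; exact hw l hl')
        have e3 := hsat.inv p (by rw [cert_facts.1]; exact hp9)
        simp only [wval, List.map_append, List.prod_append, List.map_cons, List.map_nil, List.prod_cons, List.prod_nil,
          mul_one] at e1 e2 h
        rw [e2, h, one_mul, inv_one, mul_one] at e1
        have hc := List.all_eq_true.1 wmat_table n (List.mem_range.2 hn)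
        rw [Bool.and_eq_true] at hc
        have hc' := List.all_eq_true.1 hc.2 p hp
        simp only [Bool.or_eq_true, beq_iff_eq, Bool.not_eq_true', h2, false_or] at hc'
        refine lpsu_ne (fun l hl' => ?_) hc' ?_
        · rcases List.mem_append.1 hl' with hl' | hl'
          · have := Sys.qw_lt hn l hl'; omega
          · simp at hl'; omega
        · simp only [wval, List.map_append, List.prod_append, List.map_cons, List.map_nil, List.prod_cons,
            List.prod_nil, mul_one]
          rw [← e1, e3]
    have hi : Function.Injective e := by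
      intro a b h
      have hab : wval lpsu (cw a) = wval lpsu (cw b) := congrArg Subtype.val h
      have hlt : ∀ l ∈ cw a ++ (cw b).reverse, l < CentreCert.cert.ng := fun l hl => by
        rw [cert_facts.1]
        rcases List.mem_append.1 hl with hl | hl
        exacts [(hcw a.isLt).1 l hl, (hcw b.isLt).1 l (List.mem_reverse.1 hl)]
      obtain ⟨hk, hk'⟩ := hsat.go_zero hlt
      rw [cert_facts.2.1] at hk
      have hk0 : row (cw a ++ (cw b).reverse) = 0 := h0 _ hk (by
        rw [(hsat.go_zero (w := cw (row (cw a ++ (cw b).reverse)))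
          (by rw [cert_facts.1]; exact (hcw hk).1)).2, show go CentreCert.cert 0 (cw (row (cw a ++ (cw b).reverse))) =
            row (cw a ++ (cw b).reverse) from (hcw hk).2, row, ← hk', wval, List.map_append, List.prod_append]
        have := wval_reverse lpsu (w := cw b) fun l hl => hsat.inv l (by rw [cert_facts.1]; exact (hcw b.isLt).1 l hl)
        rw [wval] at this hab
        rw [this, hab]
        exact mul_inv_cancel _)
      apply Fin.ext
      have hrev : ∀ (w : List ℕ) (p : ℕ), p < 1152 → (∀ l ∈ w, l < 9) →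
          go CentreCert.cert (go CentreCert.cert p w.reverse) w = p := by
        intro w
        induction w with
        | nil => intro p _ _; rfl
        | cons a w ih =>
          intro p hp hw
          have hlt := (hsat.go_rep w.reverse (p := p) (by rw [cert_facts.2.1]; exact hp) fun l hl => by
            rw [cert_facts.1]; exact hw l (by simp [List.mem_reverse.mp hl])).1
          rw [cert_facts.2.1] at hlt
          change List.foldl CentreCert.cert.ttgt p w.reverse < 1152 at hlt
          rw [go, go, List.reverse_cons, List.foldl_append, List.foldl_cons, List.foldl_cons, List.foldl_nil,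
            invol _ hlt a (hw a (by simp))]
          exact ih p hp fun l hl => hw l (by simp [hl])
      have h1 := hrev (cw b) a a.isLt (hcw b.isLt).1
      rw [show go CentreCert.cert a (cw b).reverse = row (cw a ++ (cw b).reverse) by
        rw [row, go, go, List.foldl_append, show List.foldl CentreCert.cert.ttgt 0 (cw a) = a from (hcw a.isLt).2],
        hk0] at h1
      exact h1.symm.trans (hcw b.isLt).2
    have : Nat.card L = 1152 := by
      rw [← Nat.card_eq_of_bijective e ⟨hi, hs⟩, Nat.card_eq_fintype_card, Fintype.card_fin]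
    exact this ▸ Subgroup.card_dvd_of_le hLR
  have h5 := hpr [9, 7] (p := 5) (by norm_num) (by simp) wmat_primes.1 wmat_primes.2.1
  have h7 := hpr [9, 7, 8] (p := 7) (by norm_num) (by simp) wmat_primes.2.2.1 wmat_primes.2.2.2
  have hbig : 40320 ∣ Nat.card R := by
    have a : 1152 * 5 ∣ Nat.card R := Nat.Coprime.mul_dvd_of_dvd_of_dvd (by norm_num) h1152 h5
    exact Nat.Coprime.mul_dvd_of_dvd_of_dvd (m := 1152 * 5) (n := 7) (by norm_num) a h7
  have htop : R = ⊤ := by
    by_contra hne
    have h := min_index (H := R) hne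
    have hmul := R.card_mul_index
    rw [card_psu] at hmul
    have := Nat.le_of_dvd (Nat.card_pos) hbig
    nlinarith
  have hsurj : Function.Surjective f := MonoidHom.range_eq_top.1 htop
  exact ⟨MulEquiv.ofBijective f ((Nat.bijective_iff_surjective_and_card f).2 ⟨hsurj,
    le_antisymm (card_pres.2.trans card_psu.ge) (Nat.card_le_card_of_surjective f hsurj)⟩), hf⟩

/-- The identification. -/
theorem pres_equiv : Nonempty (Pres ≃* Cfsg.PSU 4 K 3) :=
  ⟨pres_equiv_letters.choose⟩

/-- A word with scalar matrix is trivial in the presented group. -/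
theorem pres_scalar {w : List ℕ} (hw : ∀ l ∈ w, l < 10) (h : scalarW (wmat w) = true) : wval pim w = 1 := by
  obtain ⟨e, he⟩ := pres_equiv_letters
  refine e.injective ?_
  rw [map_one, ← MulEquiv.coe_toMonoidHom, wval_map, ← lpsu_scalar hw h]
  exact wval_congr fun l hl => he l (hw l hl)

end Cfsg.Lib.UFourThreeType
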