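import Cfsg.Agent.UFourThreeType.ThreeLocal
import Cfsg.Agent.UFourThreeType.Model
import Cfsg.Agent.UFourThreeType.OneClass

/-!
The group generated by the ten letters contains the centraliser and fuses its involutions.
-/

set_option autoImplicit false
set_option maxRecDepth 100000
set_option maxHeartbeats 1000000
set_option linter.style.haveILetI false
set_option linter.unusedSectionVars false

namespace Cfsg.Lib.UFourThreeType

open Subgroup Cfsg.Lib.CosetCert
open Cfsg.Lib.UFourThreeCover (K card_K card_psu)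

universe u

/-- Conjugators for the involutions of the centraliser. -/
def invWit : List (ℕ × ℕ × ℕ) :=
  [(1, 0, 0), (2, 0, 1), (3, 164, 1), (4, 138, 1), (5, 521, 1), (6, 0, 5), (7, 0, 6), (8, 50, 6), (9, 46, 5), (10,
  5, 1), (11, 50, 1), (12, 46, 1), (13, 525, 1), (14, 34, 5), (15, 27, 6), (16, 223, 6), (17, 202, 5), (18, 8, 1),
  (19, 9, 1), (21, 7, 5), (22, 6, 6), (26, 229, 1), (27, 5, 5), (29, 118, 6), (32, 211, 1), (34, 5, 6), (36, 116,
  5), (40, 229, 6), (41, 211, 5), (62, 35, 1), (63, 30, 1), (64, 4, 5), (65, 3, 6), (68, 233, 1), (69, 8, 5), (71,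
  201, 6), (73, 206, 1), (75, 9, 6), (77, 210, 5), (80, 164, 6), (81, 138, 5), (104, 32, 5), (108, 26, 6), (135,
  368, 6), (157, 363, 5), (209, 9, 5), (228, 8, 6), (276, 35, 5), (278, 30, 6), (287, 394, 6), (295, 387, 5),
  (319, 51, 5), (331, 45, 6), (362, 61, 1), (367, 56, 1), (508, 24, 5), (513, 61, 5), (557, 23, 6), (563, 56, 6),
  (603, 54, 6), (609, 35, 6), (643, 60, 5), (648, 30, 5), (908, 105, 5), (953, 109, 6), (1046, 127, 5), (1053,
  123, 6)]

theorem invWit_ok : ((List.range 1152).all fun i => i == 0 || !(row (cw i ++ cw i) == 0) ||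
    invWit.any fun e => e.1 == i && [0, 1, 5, 6].contains e.2.2 && decide (e.2.1 < 1152) &&
      row (cw e.2.1 ++ [e.2.2] ++ (cw e.2.1).reverse) == i) = true := by
  decide +kernel

theorem basis_wit : row (cw 164 ++ [1] ++ (cw 164).reverse) = row [2] ∧
    row (cw 138 ++ [1] ++ (cw 138).reverse) = row [3] := by decide +kernel

variable {G : Type u} [Group G] [Finite G] {z : G}

theorem Sys.exists_big (S : Sys z) : Nonempty (Big z) := by
  obtain ⟨k, hk⟩ := S.exists_norm
  obtain ⟨f, hf⟩ := exists_hom (S.imK k) (S.group_rels hk)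
  obtain ⟨e⟩ := pres_equiv
  haveI := Cfsg.Agent.S0283.result (F := K) (q := 3) card_K 4 (by norm_num) (by norm_num)
  haveI : IsSimpleGroup Pres := e.isSimpleGroup
  have z1 : z ≠ 1 := (two_iff.mp S.c.hz).2
  have f0 : f (pim 0) = z := by rw [hf 0 (by norm_num)]; rfl
  have hinj : Function.Injective f := by
    rw [← MonoidHom.ker_eq_bot_iff]
    refine (IsSimpleGroup.eq_bot_or_eq_top_of_normal _ (MonoidHom.normal_ker f)).resolve_right fun h => z1 ?_
    rw [← f0]
    exact MonoidHom.mem_ker.mp (h ▸ Subgroup.mem_top _)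
  have hP : ∀ {w : List ℕ}, (∀ l ∈ w, l < 9) → S.ev w ∈ f.range := fun {w} hw => ⟨wval pim w, by
    rw [wval_map, ← S.imK_im k hw]
    exact wval_congr fun l hl => hf l (by have := hw l hl; omega)⟩
  have hC : centralizer ({z} : Set G) ≤ f.range := fun g hg => by
    obtain ⟨i, hi, rfl⟩ := S.mem_C (mem_centralizer_singleton_iff.mp hg)
    exact hP (Sys.cw_lt hi).1
  have hkP : k ∈ f.range := ⟨pim 9, by rw [hf 9 (by norm_num)]; simp [Sys.imK]⟩
  have ki : k⁻¹ = k := inv_eq_of_mul_eq_one_left hk.kk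
  have hwl : ∀ {j l : ℕ}, j < 1152 → l < 9 → ∀ m ∈ cw j ++ [l] ++ (cw j).reverse, m < 9 := by
    intro j l hj hl m hm
    simp only [List.mem_append, List.mem_reverse, List.mem_singleton] at hm
    rcases hm with (hm | rfl) | hm
    exacts [(Sys.cw_lt hj).1 m hm, hl, (Sys.cw_lt hj).1 m hm]
  have hwit : ∀ {j l : ℕ} {v : List ℕ}, j < 1152 → l < 9 → (∀ m ∈ v, m < 9) →
      row (cw j ++ [l] ++ (cw j).reverse) = row v → S.ev (cw j) * S.im l * (S.ev (cw j))⁻¹ = S.ev v := by
    intro j l v hj hl hv h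
    rw [← S.ev_eq (hwl hj hl) hv h, Sys.ev_append, Sys.ev_append, S.ev_reverse (Sys.cw_lt hj).1, Sys.ev_single]
  have hs : ∃ p ∈ f.range, p * z * p⁻¹ = S.im 1 := ⟨k, hkP, by rw [ki]; exact hk.kz⟩
  have hpair : ∀ {j : ℕ} {g h : G}, j < 1152 → S.ev (cw j) * S.im 1 * (S.ev (cw j))⁻¹ = g → k * g * k = h →
      ∃ p ∈ f.range, p * z * p⁻¹ = h := by
    intro j g h hj hg hh
    obtain ⟨p, hp, ep⟩ := hs
    refine ⟨k * S.ev (cw j) * p, mul_mem (mul_mem hkP (hP (Sys.cw_lt hj).1)) hp, ?_⟩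
    rw [← hh, ← hg, ← ep]
    have e : ∀ q : G, k * q * k = k * q * k⁻¹ := fun q => by rw [ki]
    rw [e]
    group
  have hreps : ∀ l ∈ [0, 1, 5, 6], ∃ p ∈ f.range, p * z * p⁻¹ = S.im l := by
    intro l hl
    simp only [List.mem_cons, List.not_mem_nil, or_false] at hl
    rcases hl with rfl | rfl | rfl | rfl
    · exact ⟨1, one_mem _, by simp [Sys.im]⟩
    · exact hs
    · exact hpair (by norm_num) (hwit (v := [2]) (by norm_num) (by norm_num) (by simp) basis_wit.1)
        (by rw [Sys.ev_single]; exact hk.ka)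
    · exact hpair (by norm_num) (hwit (v := [3]) (by norm_num) (by norm_num) (by simp) basis_wit.2)
        (by rw [Sys.ev_single]; exact hk.kb)
  refine ⟨{ P := f.range
            hz := S.c.hz
            cardC := S.c.cardC
            iso := ⟨(MonoidHom.ofInjective hinj).symm.trans e⟩
            mem := ⟨pim 0, f0⟩
            C_le := hC
            conj := ?_ }⟩
  intro y hy hyz
  obtain ⟨i, hi, rfl⟩ := S.mem_C hyz
  obtain ⟨yy, y1⟩ := two_iff.mp hy
  obtain ⟨hwi, hri⟩ := Sys.cw_lt hi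
  have hsq : row (cw i ++ cw i) = 0 :=
    (S.ev_iff (w := cw i ++ cw i) (v := []) (fun l hl => (List.mem_append.1 hl).elim (hwi l) (hwi l)) (by simp)).1
      (by rw [Sys.ev_append, yy, Sys.ev_one])
  have hne : i ≠ 0 := fun h => y1 (by
    rw [← S.ev_one]
    exact S.ev_eq hwi (by simp) (hri.trans h))
  have hw := List.all_eq_true.1 invWit_ok i (List.mem_range.2 hi)
  simp only [hsq, beq_self_eq_true, Bool.not_true, Bool.or_false, Bool.or_eq_true, beq_iff_eq] at hw
  obtain ⟨⟨a, j, l⟩, -, hjl⟩ := List.any_eq_true.1 (hw.resolve_left hne)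
  simp only [Bool.and_eq_true, beq_iff_eq, decide_eq_true_eq, List.contains_iff_mem] at hjl
  obtain ⟨⟨⟨-, hl⟩, hj⟩, hrow⟩ := hjl
  obtain ⟨p, hp, ep⟩ := hreps l hl
  have hl9 : l < 9 := by simp at hl; omega
  refine ⟨S.ev (cw j) * p, mul_mem (hP (Sys.cw_lt hj).1) hp, ?_⟩
  rw [← hwit hj hl9 hwi (hrow.trans hri.symm), ← ep]
  group

end Cfsg.Lib.UFourThreeType
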