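import Cfsg.Agent.UFourThreeType.Pairs
import Cfsg.Agent.LargeExtra.FittingSetting
import Cfsg.Agent.LargeExtra.Symmetry
import Cfsg.Prelude.Def_Solvable

/-!
The hypotheses on an involution centraliser with two normal special linear groups, in elementwise form.
-/

set_option autoImplicit false
set_option maxRecDepth 100000
set_option maxHeartbeats 1000000
set_option linter.style.haveILetI false
set_option linter.unusedSectionVars false

namespace Cfsg.Lib.UFourThreeType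

open Subgroup Pairs
open Cfsg.Lib.LargeExtra (X2)
open scoped commutatorElement

universe u

variable {G : Type u} [Group G]

/-- An optional factor. -/
def pw (g : G) (b : Bool) : G := if b then g else 1

/-- Four involutions generating the extraspecial group with the standard commutators. -/
structure Basis (z : G) (Q : Subgroup G) where
  s : G
  x : G
  a : G
  b : G
  hs : s ∈ Q
  hx : x ∈ Q
  ha : a ∈ Q
  hb : b ∈ Q
  ss : s * s = 1
  xx : x * x = 1
  aa : a * a = 1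
  bb : b * b = 1
  sx : s * x * s * x = z
  ab : a * b * a * b = z
  sa : Commute s a
  sb : Commute s b
  xa : Commute x a
  xb : Commute x b
  spans : ∀ q ∈ Q, ∃ e i j k l, q = pw z e * pw s i * pw a j * pw x k * pw b l

/-- The elementwise hypotheses. -/
structure Ctx (z : G) where
  Q : Subgroup G
  hz : orderOf z = 2
  X : X2 Q z
  cQ : centralizer (Q : Set G) ≤ Q
  nQ : centralizer ({z} : Set G) ≤ normalizer (Q : Set G)
  cardC : Nat.card (centralizer ({z} : Set G)) = 1152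
  cardQ : Nat.card Q = 32
  basis : Basis z Q
  trans : ∀ y ∈ Q, y * y = 1 → y ≠ 1 → y ≠ z → ∃ c, Commute c z ∧ c * basis.s * c⁻¹ = y
  odd : ∀ u v : G, Commute u z → Commute v z → Odd (orderOf u) → Odd (orderOf v) →
    u * v * u⁻¹ * v⁻¹ ∈ Q
  nwc : ∃ g : G, g * z * g⁻¹ ∈ Q ∧ g * z * g⁻¹ ≠ z
  meet : ∀ g : G, g * z * g⁻¹ ∈ Q → g * z * g⁻¹ ≠ z →
    Nat.card ↥(Q ⊓ Q.map (MulAut.conj g).toMonoidHom) = 4

theorem quat_span : ∀ p q : S, InQ p → InQ q → ∃ e i j k l : Bool, ∃ t : Bool,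
    (p * (if t then m else 1), q * (if t then m else 1)) =
      pw ((1 : S), m) e * pw (I, I) i * pw (Kq, J) j * pw (J, I) k * pw (Kq, Kq) l := by
  decide +kernel

theorem quat_code_inj : ∀ c d : Bool × Bool × Bool × Bool × Bool,
    (pw ((1 : S), m) c.1 * pw (I, I) c.2.1 * pw (Kq, J) c.2.2.1 * pw (J, I) c.2.2.2.1 * pw (Kq, Kq) c.2.2.2.2 =
      pw ((1 : S), m) d.1 * pw (I, I) d.2.1 * pw (Kq, J) d.2.2.1 * pw (J, I) d.2.2.2.1 * pw (Kq, Kq) d.2.2.2.2 ∨
    pw ((1 : S), m) c.1 * pw (I, I) c.2.1 * pw (Kq, J) c.2.2.1 * pw (J, I) c.2.2.2.1 * pw (Kq, Kq) c.2.2.2.2 =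
      (pw ((1 : S), m) d.1 * pw (I, I) d.2.1 * pw (Kq, J) d.2.2.1 * pw (J, I) d.2.2.2.1 * pw (Kq, Kq) d.2.2.2.2) *
        (m, m)) → c = d := by
  decide +kernel

theorem pair_cases {u v : S} (h : (u, v) = (1 : S × S) ∨ (u, v) = (m, m)) :
    (u = 1 ∧ v = 1) ∨ (u = m ∧ v = m) :=
  h.imp (fun e => ⟨congrArg Prod.fst e, congrArg Prod.snd e⟩) (fun e => ⟨congrArg Prod.fst e, congrArg Prod.snd e⟩)

/-- Pairs of quaternions. -/
def quatPairs : Subgroup (S × S) where
  carrier := {p | InQ p.1 ∧ InQ p.2}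
  one_mem' := ⟨by decide, by decide⟩
  mul_mem' := fun ⟨a, b⟩ ⟨c, d⟩ => ⟨inQ_mul _ _ a c, inQ_mul _ _ b d⟩
  inv_mem' := fun ⟨a, b⟩ => ⟨inQ_inv _ a, inQ_inv _ b⟩

theorem exists_ctx [Finite G] {z : G} (hz : orderOf z = 2)
    (H₁ H₂ : Subgroup (centralizer ({z} : Set G)))
    (hK : H₁ ⊔ H₂ = closure {x : centralizer ({z} : Set G) | Odd (orderOf x)})
    (hn₁ : (H₁.subgroupOf (H₁ ⊔ H₂)).Normal) (hn₂ : (H₂.subgroupOf (H₁ ⊔ H₂)).Normal)
    (e₁ : H₁ ≃* S) (e₂ : H₂ ≃* S)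
    (hmeet : (H₁ ⊓ H₂).map (centralizer ({z} : Set G)).subtype = zpowers z)
    (Q : Subgroup (centralizer ({z} : Set G))) [Q.Normal]
    (hQ : Q = (Cfsg.pCore 2 ↥(H₁ ⊔ H₂)).map (H₁ ⊔ H₂).subtype)
    (hF : Cfsg.generalizedFittingSubgroup (centralizer ({z} : Set G)) = Q)
    (hnwc : ∃ g : G, (∃ hq : g * z * g⁻¹ ∈ centralizer ({z} : Set G),
      (⟨g * z * g⁻¹, hq⟩ : centralizer ({z} : Set G)) ∈ Q) ∧ g * z * g⁻¹ ≠ z)
    (hH : Nat.card ↥(centralizer ({z} : Set G)) = 2 ^ 7 * 3 ^ 2)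
    (hQQg : ∀ g : G, g * z * g⁻¹ ∈ Q.map (centralizer ({z} : Set G)).subtype → g * z * g⁻¹ ≠ z →
      Nat.card ↥((Q.map (centralizer ({z} : Set G)).subtype) ⊓
        (Q.map (centralizer ({z} : Set G)).subtype).map (MulAut.conj g).toMonoidHom) = 4) :
    Nonempty (Ctx z) := by
  classical
  have hz1 : z ≠ 1 := fun e => by simp [e] at hz
  have hzz : z * z = 1 := by rw [← pow_two, ← hz, pow_orderOf_eq_one]
  set zC : centralizer ({z} : Set G) := ⟨z, mem_centralizer_singleton_iff.mpr rfl⟩ with hzC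
  have hzcen : ∀ c : centralizer ({z} : Set G), c * zC = zC * c := fun c =>
    Subtype.ext (mem_centralizer_singleton_iff.mp c.2)
  have hzM : zC ∈ H₁ ⊓ H₂ := by
    obtain ⟨c, hc, e⟩ := (hmeet.symm ▸ mem_zpowers z : z ∈ (H₁ ⊓ H₂).map (centralizer ({z} : Set G)).subtype)
    rwa [show zC = c from Subtype.ext e.symm]
  have hmem : ∀ c ∈ H₁ ⊓ H₂, c = 1 ∨ c = zC := fun c hc => by
    have : (c : G) ∈ zpowers z := hmeet ▸ ⟨c, hc, rfl⟩
    rcases (Cfsg.Lib.LargeExtra.mem_zpowers_two hzz).mp this with e | e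
    exacts [Or.inl (Subtype.ext e), Or.inr (Subtype.ext e)]
  have hzC1 : zC ≠ 1 := fun e => hz1 (congrArg Subtype.val e)
  have hzC2 : zC * zC = 1 := Subtype.ext hzz
  have hm1 : ((e₁.symm m : H₁) : centralizer ({z} : Set G)) = zC := by
    have h1 : (e₁ ⟨zC, hzM.1⟩) * e₁ ⟨zC, hzM.1⟩ = 1 := by
      rw [← map_mul, show (⟨zC, hzM.1⟩ : H₁) * ⟨zC, hzM.1⟩ = 1 from Subtype.ext hzC2, map_one]
    rcases m_only _ h1 with e | e
    · exact absurd (congrArg Subtype.val (e₁.injective (e.trans e₁.map_one.symm))) hzC1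
    · rw [← e, MulEquiv.symm_apply_apply]
  have hm2 : ((e₂.symm m : H₂) : centralizer ({z} : Set G)) = zC := by
    have h1 : (e₂ ⟨zC, hzM.2⟩) * e₂ ⟨zC, hzM.2⟩ = 1 := by
      rw [← map_mul, show (⟨zC, hzM.2⟩ : H₂) * ⟨zC, hzM.2⟩ = 1 from Subtype.ext hzC2, map_one]
    rcases m_only _ h1 with e | e
    · exact absurd (congrArg Subtype.val (e₂.injective (e.trans e₂.map_one.symm))) hzC1
    · rw [← e, MulEquiv.symm_apply_apply]
  let f₁ : S →* centralizer ({z} : Set G) := H₁.subtype.comp e₁.symm.toMonoidHom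
  let f₂ : S →* centralizer ({z} : Set G) := H₂.subtype.comp e₂.symm.toMonoidHom
  have f₁mem : ∀ p, f₁ p ∈ H₁ := fun p => (e₁.symm p).2
  have f₂mem : ∀ p, f₂ p ∈ H₂ := fun p => (e₂.symm p).2
  have hmult : ∀ p q, ⁅f₁ p, f₂ q⁆ ∈ H₁ ⊓ H₂ := fun p q => by
    refine ⟨?_, ?_⟩
    · have h := hn₁.conj_mem ⟨(f₁ p)⁻¹, mem_sup_left (inv_mem (f₁mem p))⟩ (inv_mem (f₁mem p))
        ⟨f₂ q, mem_sup_right (f₂mem q)⟩
      have h' := mul_mem (f₁mem p) (mem_subgroupOf.mp h)
      simpa [commutatorElement_def, mul_assoc] using h'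
    · have h := hn₂.conj_mem ⟨f₂ q, mem_sup_right (f₂mem q)⟩ (f₂mem q)
        ⟨f₁ p, mem_sup_left (f₁mem p)⟩
      exact H₂.mul_mem (mem_subgroupOf.mp h) (H₂.inv_mem (f₂mem q))
  have hcomm : ∀ p q, Commute (f₁ p) (f₂ q) := by
    intro p q
    rw [← commutatorElement_eq_one_iff_commute]
    let g : S → Fin 2 := fun q => if ⁅f₁ p, f₂ q⁆ = 1 then 0 else 1
    have hg : ∀ a b, g (a * b) = g a + g b := fun a b => by
      have e : ⁅f₁ p, f₂ (a * b)⁆ = ⁅f₁ p, f₂ a⁆ * (f₂ a * ⁅f₁ p, f₂ b⁆ * (f₂ a)⁻¹) := by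
        rw [map_mul]; simp only [commutatorElement_def]; group
      have hc : f₂ a * ⁅f₁ p, f₂ b⁆ * (f₂ a)⁻¹ = ⁅f₁ p, f₂ b⁆ := by
        rcases hmem _ (hmult p b) with e | e <;> rw [e]
        · simp
        · rw [hzcen, mul_inv_cancel_right]
      rw [hc] at e
      simp only [g, e]
      rcases hmem _ (hmult p a) with ea | ea <;> rcases hmem _ (hmult p b) with eb | eb <;>
        simp [ea, eb, hzC1, hzC2]
    have := no_index_two g hg q
    simp only [g] at this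
    by_contra h
    rw [if_neg h] at this
    exact absurd this (by decide)
  let Φc : S × S →* centralizer ({z} : Set G) := MonoidHom.noncommCoprod f₁ f₂ hcomm
  have Φc_def : ∀ p : S × S, Φc p = f₁ p.1 * f₂ p.2 := fun p => rfl
  have hKle : ∀ p, Φc p ∈ H₁ ⊔ H₂ := fun p => mul_mem (mem_sup_left (f₁mem _)) (mem_sup_right (f₂mem _))
  have hrange : ∀ c ∈ H₁ ⊔ H₂, ∃ p, Φc p = c := by
    have : H₁ ⊔ H₂ ≤ Φc.range := sup_le
      (fun c hc => ⟨(e₁ ⟨c, hc⟩, 1), by simp [Φc_def, f₁]⟩)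
      (fun c hc => ⟨(1, e₂ ⟨c, hc⟩), by simp [Φc_def, f₂]⟩)
    exact fun c hc => this hc
  let Φ : S × S →* G := (centralizer ({z} : Set G)).subtype.comp Φc
  have hΦz : Φ (1, m) = z := by
    show ((Φc (1, m) : centralizer ({z} : Set G)) : G) = z
    rw [Φc_def, map_one, one_mul]
    exact congrArg Subtype.val hm2
  have hker : ∀ p, Φ p = 1 → p = 1 ∨ p = (m, m) := fun p hp => by
    have h : f₁ p.1 * f₂ p.2 = 1 := Subtype.ext hp
    have h1 : f₁ p.1 ∈ H₁ ⊓ H₂ := ⟨f₁mem _, by rw [eq_inv_of_mul_eq_one_left h]; exact H₂.inv_mem (f₂mem _)⟩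
    have inj₁ : Function.Injective f₁ := H₁.subtype_injective.comp e₁.symm.injective
    have inj₂ : Function.Injective f₂ := H₂.subtype_injective.comp e₂.symm.injective
    rcases hmem _ h1 with e | e
    · rw [e, one_mul] at h
      exact Or.inl (Prod.ext (inj₁ (e.trans f₁.map_one.symm)) (inj₂ (h.trans f₂.map_one.symm)))
    · rw [e] at h
      refine Or.inr (Prod.ext (inj₁ (e.trans hm1.symm)) (inj₂ ?_))
      rw [show f₂ m = zC from hm2, eq_inv_of_mul_eq_one_right h]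
      exact inv_eq_of_mul_eq_one_right hzC2
  have hmm : Φ (m, m) = 1 := by
    show ((Φc (m, m) : centralizer ({z} : Set G)) : G) = 1
    rw [Φc_def, show f₁ m = zC from hm1, show f₂ m = zC from hm2, hzC2]; rfl
  have hΦeq : ∀ p q, Φ p = Φ q → p = q ∨ p = q * (m, m) := fun p q h => by
    rcases hker (q⁻¹ * p) (by rw [map_mul, map_inv, h, inv_mul_cancel]) with e | e
    · exact Or.inl (inv_mul_eq_one.mp e).symm
    · exact Or.inr (inv_mul_eq_iff_eq_mul.mp e)
  -- the two-core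
  let QQ : Subgroup ↥(H₁ ⊔ H₂) := (quatPairs.map Φc).subgroupOf (H₁ ⊔ H₂)
  haveI : QQ.Normal := ⟨fun c hc d => by
    obtain ⟨p, ⟨p1, p2⟩, e⟩ := hc
    obtain ⟨q, hq⟩ := hrange _ d.2
    refine ⟨q * p * q⁻¹, ⟨inQ_conj _ _ p1, inQ_conj _ _ p2⟩, ?_⟩
    rw [map_mul, map_mul, map_inv, e, hq]
    rfl⟩
  have four : ∀ p : S × S, InQ p.1 → InQ p.2 → p ^ 2 ^ 2 = 1 := fun p p1 p2 => by
    have h : ∀ a : S, InQ a → a ^ 2 ^ 2 = 1 := by decide +kernel
    exact Prod.ext (by rw [Prod.pow_fst]; exact h _ p1) (by rw [Prod.pow_snd]; exact h _ p2)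
  have hQQp : IsPGroup 2 QQ := by
    intro c
    obtain ⟨p, ⟨p1, p2⟩, e⟩ := c.2
    refine ⟨2, Subtype.ext (Subtype.ext ?_)⟩
    show (((c : ↥(H₁ ⊔ H₂)) ^ 2 ^ 2 : ↥(H₁ ⊔ H₂)) : centralizer ({z} : Set G)) = 1
    rw [SubmonoidClass.coe_pow, show ((c : ↥(H₁ ⊔ H₂)) : centralizer ({z} : Set G)) = Φc p from e.symm, ← map_pow,
      four p p1 p2, map_one]
  have hcore : Cfsg.pCore 2 ↥(H₁ ⊔ H₂) = QQ := by
    refine le_antisymm (sSup_le ?_) (le_sSup ⟨inferInstance, hQQp⟩)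
    rintro N ⟨-, hN⟩ c hc
    obtain ⟨p, hp⟩ := hrange _ c.2
    obtain ⟨n, hn⟩ := hN ⟨c, hc⟩
    have hn' : (Φ p) ^ 2 ^ n = 1 := by
      show (((Φc p : centralizer ({z} : Set G))) : G) ^ 2 ^ n = 1
      rw [hp]
      exact congrArg (fun w : N => (((w : ↥(H₁ ⊔ H₂)) : centralizer ({z} : Set G)) : G)) hn
    have hd : orderOf (Φ p) ∣ 1152 := by
      show orderOf (((Φc p : centralizer ({z} : Set G))) : G) ∣ 1152
      rw [Subgroup.orderOf_coe]
      have := orderOf_dvd_natCard (Φc p)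
      rwa [hH] at this
    obtain ⟨i, hi, he⟩ := (Nat.dvd_prime_pow Nat.prime_two).mp (orderOf_dvd_of_pow_eq_one hn')
    have hi5 : i ≤ 7 := by
      by_contra h
      rw [he] at hd
      have : 2 ^ 8 ∣ 1152 := (pow_dvd_pow 2 (by omega : 8 ≤ i)).trans hd
      norm_num at this
    have h128 : Φ (p ^ 128) = 1 := by
      rw [map_pow, ← orderOf_dvd_iff_pow_eq_one, he]
      exact pow_dvd_pow 2 hi5
    have key : ∀ a : S, a ^ 128 = a ^ 32 := by decide +kernel
    rcases pair_cases (hker _ h128) with ⟨r1, r2⟩ | ⟨r1, r2⟩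
    · exact ⟨p, ⟨two_power _ (Or.inl ((key _).symm.trans r1)), two_power _ (Or.inl ((key _).symm.trans r2))⟩, hp⟩
    · exact ⟨p, ⟨two_power _ (Or.inr ((key _).symm.trans r1)), two_power _ (Or.inr ((key _).symm.trans r2))⟩, hp⟩
  set Qg := Q.map (centralizer ({z} : Set G)).subtype with hQg
  have hQmem : ∀ g, g ∈ Qg ↔ ∃ p : S × S, InQ p.1 ∧ InQ p.2 ∧ Φ p = g := by
    intro g
    rw [hQg, hQ, hcore]
    constructor
    · rintro ⟨_, ⟨c, ⟨p, ⟨p1, p2⟩, e⟩, rfl⟩, rfl⟩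
      exact ⟨p, p1, p2, congrArg Subtype.val e⟩
    · rintro ⟨p, p1, p2, e⟩
      exact ⟨Φc p, ⟨⟨Φc p, hKle p⟩, ⟨p, ⟨p1, p2⟩, rfl⟩, rfl⟩, e⟩
  have mem : ∀ p : S × S, InQ p.1 → InQ p.2 → Φ p ∈ Qg := fun p h1 h2 => (hQmem _).mpr ⟨p, h1, h2, rfl⟩
  have one_or_z : ∀ u v : S, (u = 1 ∨ u = m) → (v = 1 ∨ v = m) → Φ (u, v) = 1 ∨ Φ (u, v) = z := by
    rintro u v (rfl | rfl) (rfl | rfl)
    · exact Or.inl (map_one Φ)
    · exact Or.inr hΦz
    · right
      rw [show ((m, 1) : S × S) = (m, m) * (1, m) by simp [m_sq.1], map_mul, hmm, one_mul, hΦz]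
    · exact Or.inl hmm
  have hX : X2 Qg z :=
    { mem := hΦz ▸ mem _ (by decide) (by decide)
      ne := hz1
      zz := hzz
      isP := by
        intro w
        obtain ⟨p, p1, p2, e⟩ := (hQmem _).mp w.2
        exact ⟨2, Subtype.ext (by
          rw [SubmonoidClass.coe_pow, ← e, ← map_pow,
            four p p1 p2, map_one]; rfl)⟩
      central := fun q hq => by
        obtain ⟨c, -, rfl⟩ := hq
        exact mem_centralizer_singleton_iff.mp c.2
      comm := fun a ha b hb => by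
        obtain ⟨p, p1, p2, rfl⟩ := (hQmem a).mp ha
        obtain ⟨q, q1, q2, rfl⟩ := (hQmem b).mp hb
        rw [← map_commutatorElement, commutatorElement_def]
        exact one_or_z _ _ (inQ_comm' _ _ p1 q1) (inQ_comm' _ _ p2 q2)
      sq := fun a ha => by
        obtain ⟨p, p1, p2, rfl⟩ := (hQmem a).mp ha
        rw [← map_mul]
        exact one_or_z _ _ ((inQ_sq _ p1).imp And.left id) ((inQ_sq _ p2).imp And.left id)
      cen := fun c hc hall => by
        obtain ⟨p, p1, p2, rfl⟩ := (hQmem c).mp hc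
        have get : ∀ q : S × S, InQ q.1 → InQ q.2 → q.1 = 1 ∨ q.2 = 1 →
            q.1 * p.1 = p.1 * q.1 ∧ q.2 * p.2 = p.2 * q.2 := fun q q1 q2 h1 => by
          have h := hall _ (mem q q1 q2)
          rw [commute_iff_eq, ← map_mul, ← map_mul] at h
          rcases hΦeq _ _ h with e | e
          · exact ⟨congrArg Prod.fst e, congrArg Prod.snd e⟩
          · exfalso
            rcases h1 with h1 | h1
            · have := congrArg Prod.fst e
              simp [h1] at this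
              exact m_sq.2.1 this
            · have := congrArg Prod.snd e
              simp [h1] at this
              exact m_sq.2.1 this
        have a1 := (get (I, 1) gens.1 (by decide) (Or.inr rfl)).1
        have a2 := (get (J, 1) gens.2.1 (by decide) (Or.inr rfl)).1
        have b1 := (get (1, I) (by decide) gens.1 (Or.inl rfl)).2
        have b2 := (get (1, J) (by decide) gens.2.1 (Or.inl rfl)).2
        exact one_or_z _ _ (cen_Q _ p1 a1.symm a2.symm) (cen_Q _ p2 b1.symm b2.symm) }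
  have hnQ : centralizer ({z} : Set G) ≤ normalizer (Qg : Set G) := fun c hc => by
    have key : ∀ c : centralizer ({z} : Set G), ∀ a ∈ Qg, (c : G) * a * (c : G)⁻¹ ∈ Qg := fun c a ha => by
      obtain ⟨b, hb, rfl⟩ := ha
      exact ⟨c * b * c⁻¹, Normal.conj_mem inferInstance b hb _, rfl⟩
    exact Cfsg.Lib.Coprime.mem_normalizer_of_conj_mem (key ⟨c, hc⟩)
      fun a ha => by simpa using key ⟨c, hc⟩⁻¹ a ha
  have hcQ : centralizer (Qg : Set G) ≤ Qg := fun c hc => by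
    have hcC : c ∈ centralizer ({z} : Set G) :=
      mem_centralizer_singleton_iff.mpr (mem_centralizer_iff.mp hc z hX.mem).symm
    have hFC := Cfsg.Lib.Components.centralizer_genFitting_le (G := ↥(centralizer ({z} : Set G)))
    rw [hF] at hFC
    exact ⟨⟨c, hcC⟩, hFC (mem_centralizer_iff.mpr fun q hq => Subtype.ext
      (mem_centralizer_iff.mp hc (q : G) ⟨q, hq, rfl⟩)), rfl⟩
  have sq1 : ∀ p : S × S, p * p = 1 ∨ p * p = (m, m) → Φ p * Φ p = 1 := fun p h => by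
    rw [← map_mul]
    rcases h with e | e <;> rw [e]
    · exact map_one Φ
    · exact hmm
  have com1 : ∀ p q : S × S, p * q = q * p ∨ p * q = q * p * (m, m) → Commute (Φ p) (Φ q) := fun p q h => by
    rw [commute_iff_eq, ← map_mul, ← map_mul]
    rcases h with e | e <;> rw [e]
    rw [map_mul _ _ (m, m), hmm, mul_one]
  have z1 : ∀ p q : S × S, p * q * p * q = (1, m) ∨ p * q * p * q = (m, 1) → Φ p * Φ q * Φ p * Φ q = z := by
    intro p q h
    rw [← map_mul, ← map_mul, ← map_mul]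
    rcases h with e | e <;> rw [e]
    · exact hΦz
    · rw [show ((m, 1) : S × S) = (m, m) * (1, m) by simp [m_sq.1], map_mul, hmm, one_mul, hΦz]
  have hpw : ∀ (p : S × S) (b : Bool), Φ (pw p b) = pw (Φ p) b := fun p b => by cases b <;> simp [pw]
  let B : Basis z Qg :=
    { s := Φ (I, I), x := Φ (J, I), a := Φ (Kq, J), b := Φ (Kq, Kq)
      hs := mem _ gens.1 gens.1, hx := mem _ gens.2.1 gens.1, ha := mem _ gens.2.2.1 gens.2.1
      hb := mem _ gens.2.2.1 gens.2.2.1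
      ss := sq1 _ (by decide +kernel), xx := sq1 _ (by decide +kernel)
      aa := sq1 _ (by decide +kernel), bb := sq1 _ (by decide +kernel)
      sx := z1 _ _ (by decide +kernel), ab := z1 _ _ (by decide +kernel)
      sa := com1 _ _ (by decide +kernel), sb := com1 _ _ (by decide +kernel)
      xa := com1 _ _ (by decide +kernel), xb := com1 _ _ (by decide +kernel)
      spans := fun q hq => by
        obtain ⟨p, p1, p2, rfl⟩ := (hQmem q).mp hq
        obtain ⟨e, i, j, k, l, t, h⟩ := quat_span _ _ p1 p2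
        refine ⟨e, i, j, k, l, ?_⟩
        rw [← hΦz, ← hpw, ← hpw, ← hpw, ← hpw, ← hpw, ← map_mul, ← map_mul, ← map_mul, ← map_mul, ← h]
        cases t
        · simp
        · show _ = Φ (p * (m, m))
          rw [map_mul, hmm, mul_one] }
  refine ⟨{ Q := Qg, hz := hz, X := hX, cQ := hcQ, nQ := hnQ, cardC := by rw [hH]; norm_num
            cardQ := ?_, basis := B, trans := ?_, odd := ?_, nwc := ?_, meet := hQQg }⟩
  · let f : Bool × Bool × Bool × Bool × Bool → Qg := fun c =>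
      ⟨Φ (pw ((1 : S), m) c.1 * pw (I, I) c.2.1 * pw (Kq, J) c.2.2.1 * pw (J, I) c.2.2.2.1 *
        pw (Kq, Kq) c.2.2.2.2), by
        simp only [map_mul, hpw]
        have hp : ∀ {g : G}, g ∈ Qg → ∀ b, pw g b ∈ Qg := fun h b => by
          cases b
          · exact one_mem _
          · exact h
        exact mul_mem (mul_mem (mul_mem (mul_mem (hp (hΦz ▸ hX.mem) _) (hp B.hs _)) (hp B.ha _)) (hp B.hx _))
          (hp B.hb _)⟩
    have hf : Function.Bijective f := by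
      refine ⟨fun c d h => quat_code_inj c d (hΦeq _ _ (congrArg (fun w : Qg => (w : G)) h)), fun q => ?_⟩
      obtain ⟨e, i, j, k, l, h⟩ := B.spans q q.2
      refine ⟨(e, i, j, k, l), Subtype.ext ?_⟩
      show Φ _ = (q : G)
      rw [h]
      simp only [map_mul, hpw, hΦz]
      rfl
    rw [← Nat.card_eq_of_bijective f hf]
    simp
  · intro y hy hyy hy1 hyz
    obtain ⟨p, p1, p2, rfl⟩ := (hQmem y).mp hy
    have h2 : p.1 * p.1 = m ∧ p.2 * p.2 = m := by
      rcases pair_cases (hker (p * p) (by rw [map_mul, hyy])) with h | h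
      · exfalso
        rcases inQ_sq _ p1 with ⟨-, u⟩ | u
        · rcases inQ_sq _ p2 with ⟨-, v⟩ | v
          · rcases one_or_z _ _ u v with e | e
            exacts [hy1 e, hyz e]
          · exact m_sq.2.1 (v.symm.trans h.2)
        · exact m_sq.2.1 (u.symm.trans h.1)
      · exact h
    obtain ⟨u, hu⟩ := conj_I _ h2.1 p1
    obtain ⟨v, hv⟩ := conj_I _ h2.2 p2
    refine ⟨Φ (u, v), mem_centralizer_singleton_iff.mp (Φc (u, v)).2, ?_⟩
    show Φ (u, v) * Φ (I, I) * (Φ (u, v))⁻¹ = _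
    rw [← map_inv, ← map_mul, ← map_mul]
    exact congrArg Φ (Prod.ext hu hv)
  · intro u v hu hv hou hov
    have get : ∀ w : G, Commute w z → Odd (orderOf w) → ∃ p, Φ p = w := fun w hw ho => by
      have hwK : (⟨w, mem_centralizer_singleton_iff.mpr hw⟩ : centralizer ({z} : Set G)) ∈ H₁ ⊔ H₂ := by
        rw [hK]
        exact subset_closure (by simpa [Subgroup.orderOf_mk] using ho)
      obtain ⟨p, hp⟩ := hrange _ hwK
      exact ⟨p, congrArg Subtype.val hp⟩
    obtain ⟨p, rfl⟩ := get u hu hou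
    obtain ⟨q, rfl⟩ := get v hv hov
    rw [← map_inv, ← map_inv, ← map_mul, ← map_mul, ← map_mul]
    exact mem _ (inQ_comm _ _) (inQ_comm _ _)
  · obtain ⟨g, ⟨hq, h⟩, hne⟩ := hnwc
    exact ⟨g, ⟨_, h, rfl⟩, hne⟩

end Cfsg.Lib.UFourThreeType
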