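import Cfsg.Agent.UFourThreeType.Gens
import Cfsg.Agent.UFourThreeType.CentreWords

/-!
The centraliser is generated by the nine letters and its multiplication is the one of the table.
-/

set_option autoImplicit false
set_option maxRecDepth 100000
set_option maxHeartbeats 1000000
set_option linter.style.haveILetI false
set_option linter.unusedSectionVars false

namespace Cfsg.Lib.UFourThreeType

open Subgroup Cfsg.Lib.CosetCert

universe u

/-- The row of a word. -/
def row (w : List ℕ) : ℕ := go CentreCert.cert 0 w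

/-- The word of an element of the extraspecial group. -/
def qw (n : ℕ) : List ℕ :=
  (if n.testBit 0 then [0] else []) ++ (if n.testBit 1 then [1] else []) ++ (if n.testBit 2 then [2] else []) ++
    (if n.testBit 3 then [4] else []) ++ (if n.testBit 4 then [3] else [])

theorem cw_ok : ((List.range 1152).all fun i => (cw i).all (fun l => decide (l < 9)) && (row (cw i) == i)) = true := by
  decide +kernel

theorem cert_facts : CentreCert.cert.ng = 9 ∧ CentreCert.cert.m = 1152 ∧ CentreCert.cert.subs = [] ∧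
    (CentreCert.rels.all fun r => r.all fun l => decide (l < 9)) = true := by decide +kernel

/-- A row is one of the extraspecial group, or moves one of its generators modulo the centre. -/
theorem moves : ((List.range 1152).all fun i => ((List.range 32).any fun n => row (qw n) == i) ||
    [1, 2, 3, 4].any fun p => (List.range 32).any fun n =>
      row (cw i ++ [p] ++ (cw i).reverse) == row (qw n) && !(row (qw n) == row [p])) = true := by
  decide +kernel

theorem invol : ∀ q < 1152, ∀ x < 9, CentreCert.cert.ttgt (CentreCert.cert.ttgt q x) x = q := by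
  decide +kernel

theorem bits_inj (a : ℕ) (ha : a < 32) (b : ℕ) (hb : b < 32)
    (h : (a.testBit 0, a.testBit 1, a.testBit 2, a.testBit 3, a.testBit 4) =
      (b.testBit 0, b.testBit 1, b.testBit 2, b.testBit 3, b.testBit 4)) : a = b := by
  simp only [Prod.mk.injEq] at h
  refine Nat.eq_of_testBit_eq fun i => ?_
  rcases lt_or_ge i 5 with hi | hi
  · interval_cases i
    exacts [h.1, h.2.1, h.2.2.1, h.2.2.2.1, h.2.2.2.2]
  · have h32 : 32 ≤ 2 ^ i := le_trans (by norm_num) (Nat.pow_le_pow_right two_pos hi)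
    rw [Nat.testBit_eq_false_of_lt (ha.trans_le h32), Nat.testBit_eq_false_of_lt (hb.trans_le h32)]

theorem qw_ok : ((List.range 32).all fun n => (qw n).all fun l => decide (l < 9)) = true := by decide +kernel

variable {G : Type u} [Group G] {z : G}

namespace Sys

variable (S : Sys z)

theorem inv_letters : ∀ l, l < 10 → l < 9 → S.im l * S.im l = 1 := by
  intro l _ hl
  interval_cases l
  exacts [S.c.zz, S.B.ss, S.B.aa, S.B.bb, S.B.xx, S.rp.rr, S.rp.tt, S.uu, S.vv]

theorem sat : Sat CentreCert.cert S.im (⊥ : Subgroup G) CentreCert.rels where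
  valid := CentreCert.valid
  inv := fun l hl => by rw [cert_facts.1] at hl; exact S.inv_letters l (by omega) hl
  rel := S.centre_rels
  lets := fun r hr l hl => by
    rw [cert_facts.1]
    exact decide_eq_true_eq.mp (List.all_eq_true.1 (List.all_eq_true.1 cert_facts.2.2.2 r hr) l hl)
  sub := fun s hs => by rw [cert_facts.2.2.1] at hs; simp at hs

/-- The value of a word in the letters. -/
def ev (w : List ℕ) : G := wval S.im w

theorem ev_append (a b : List ℕ) : S.ev (a ++ b) = S.ev a * S.ev b := by
  simp [ev, wval, List.map_append, List.prod_append]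

theorem ev_eq {w v : List ℕ} (hw : ∀ l ∈ w, l < 9) (hv : ∀ l ∈ v, l < 9) (h : row w = row v) : S.ev w = S.ev v :=
  S.sat.word_eq (by rw [cert_facts.1]; exact hw) (by rw [cert_facts.1]; exact hv) h

theorem ev_reverse {w : List ℕ} (hw : ∀ l ∈ w, l < 9) : S.ev w.reverse = (S.ev w)⁻¹ :=
  wval_reverse S.im fun l hl => S.inv_letters l (by have := hw l hl; omega) (hw l hl)

theorem letter_comm {l : ℕ} (hl : l < 9) : Commute (S.im l) z := by
  interval_cases l
  exacts [Commute.refl z, S.c.z_comm S.B.hs, S.c.z_comm S.B.ha, S.c.z_comm S.B.hb, S.c.z_comm S.B.hx, S.rp.rz,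
    S.rp.tz, S.uz, S.vz]

theorem ev_comm {w : List ℕ} (hw : ∀ l ∈ w, l < 9) : Commute (S.ev w) z := by
  induction w with
  | nil => simp [ev, wval]
  | cons a w ih =>
    rw [ev, wval, List.map_cons, List.prod_cons]
    exact (S.letter_comm (hw a (by simp))).mul_left (ih fun l hl => hw l (by simp [hl]))

theorem cw_lt {i : ℕ} (hi : i < 1152) : (∀ l ∈ cw i, l < 9) ∧ row (cw i) = i := by
  have h := List.all_eq_true.1 cw_ok i (List.mem_range.2 hi)
  simp only [Bool.and_eq_true, List.all_eq_true, decide_eq_true_eq, beq_iff_eq] at h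
  exact h

theorem qw_lt {n : ℕ} (hn : n < 32) : ∀ l ∈ qw n, l < 9 := fun l hl =>
  decide_eq_true_eq.mp (List.all_eq_true.1 (List.all_eq_true.1 qw_ok n (List.mem_range.2 hn)) l hl)

theorem ev_qw (n : ℕ) : S.ev (qw n) =
    S.B.nf (n.testBit 0) (n.testBit 1) (n.testBit 2) (n.testBit 3) (n.testBit 4) := by
  have hp : ∀ (l : ℕ) (b : Bool), S.ev (if b then [l] else []) = pw (S.im l) b := fun l b => by
    cases b <;> simp [ev, wval, pw]
  rw [qw, ev_append, ev_append, ev_append, ev_append, hp, hp, hp, hp, hp]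
  rfl

theorem qw_inj [Finite G] {m n : ℕ} (hm : m < 32) (hn : n < 32) (h : S.ev (qw m) = S.ev (qw n)) : m = n := by
  classical
  let code : Bool × Bool × Bool × Bool × Bool → S.c.Q := fun b =>
    ⟨S.B.nf b.1 b.2.1 b.2.2.1 b.2.2.2.1 b.2.2.2.2, by
      refine mul_mem (mul_mem (mul_mem (mul_mem ?_ ?_) ?_) ?_) ?_
      exacts [Basis.pw_mem S.c.X.mem _, Basis.pw_mem S.B.hs _, Basis.pw_mem S.B.ha _, Basis.pw_mem S.B.hx _,
        Basis.pw_mem S.B.hb _]⟩
  have hs : Function.Surjective code := fun q => by
    obtain ⟨e, i, j, k, l, hq⟩ := S.B.spans q q.2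
    exact ⟨(e, i, j, k, l), Subtype.ext hq.symm⟩
  have hb : Function.Bijective code := (Nat.bijective_iff_surjective_and_card code).2 ⟨hs, by
    rw [S.c.cardQ]; simp⟩
  rw [ev_qw, ev_qw] at h
  have e := hb.1 (a₁ := (m.testBit 0, m.testBit 1, m.testBit 2, m.testBit 3, m.testBit 4))
    (a₂ := (n.testBit 0, n.testBit 1, n.testBit 2, n.testBit 3, n.testBit 4)) (Subtype.ext h)
  exact bits_inj m hm n hn e

theorem ker_one [Finite G] {i : ℕ} (hi : i < 1152) (h : S.ev (cw i) = 1) : i = 0 := by
  obtain ⟨hw, hr⟩ := cw_lt hi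
  have hm := List.all_eq_true.1 moves i (List.mem_range.2 hi)
  simp only [Bool.or_eq_true, List.any_eq_true, List.mem_range, beq_iff_eq, Bool.and_eq_true,
    Bool.not_eq_true', beq_eq_false_iff_ne] at hm
  rcases hm with ⟨n, hn, hn'⟩ | ⟨p, hp, n, hn, h1, h2⟩
  · have h1 : S.ev (qw n) = 1 := by rw [S.ev_eq (qw_lt hn) hw (hn'.trans hr.symm), h]
    have h0 : S.ev (qw 0) = 1 := by simp [qw, ev, wval]
    have := S.qw_inj hn (by norm_num) (h1.trans h0.symm)
    subst this
    rw [← hn']; rfl
  · exfalso
    have hp9 : p < 9 := by simp at hp; omega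
    have hl : ∀ l ∈ cw i ++ [p] ++ (cw i).reverse, l < 9 := by
      intro l hl
      simp only [List.mem_append, List.mem_reverse, List.mem_singleton] at hl
      rcases hl with (hl | rfl) | hl
      exacts [hw l hl, hp9, hw l hl]
    have e1 := S.ev_eq hl (qw_lt hn) h1
    rw [ev_append, ev_append, S.ev_reverse hw, h, one_mul, inv_one, mul_one] at e1
    have hq : ∀ p ∈ [1, 2, 3, 4], ∃ m < 32, row (qw m) = row [p] := by decide +kernel
    obtain ⟨m, hm, hm'⟩ := hq p hp
    have := S.qw_inj hn hm (by rw [← e1, S.ev_eq (qw_lt hm) (by simpa using hp9) hm'])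
    subst this
    exact h2 hm'

theorem cw_inj [Finite G] {i j : ℕ} (hi : i < 1152) (hj : j < 1152) (h : S.ev (cw i) = S.ev (cw j)) : i = j := by
  obtain ⟨hwi, hri⟩ := cw_lt hi
  obtain ⟨hwj, hrj⟩ := cw_lt hj
  have hl : ∀ l ∈ cw i ++ (cw j).reverse, l < 9 := by
    intro l hl
    simp only [List.mem_append, List.mem_reverse] at hl
    rcases hl with hl | hl
    exacts [hwi l hl, hwj l hl]
  obtain ⟨hk, hk'⟩ := S.sat.go_zero (w := cw i ++ (cw j).reverse) (by rw [cert_facts.1]; exact hl)
  rw [cert_facts.2.1] at hk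
  change row (cw i ++ (cw j).reverse) < 1152 at hk
  obtain ⟨hwk, hrk⟩ := cw_lt hk
  have h0 : row (cw i ++ (cw j).reverse) = 0 := S.ker_one hk (by
    rw [S.ev_eq hwk hl hrk, ev_append, S.ev_reverse hwj, h, mul_inv_cancel])
  have e : S.ev (cw i ++ (cw j).reverse) = S.ev [] := S.ev_eq hl (by simp) (h0.trans rfl)
  have back : row (cw i ++ (cw j).reverse ++ cw j) = row ([] ++ cw j) := by
    rw [row, row, go, List.foldl_append, go, List.nil_append]
    exact congrArg (fun r => List.foldl CentreCert.cert.ttgt r (cw j)) h0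
  have cancel : ∀ k < 1152, row (cw k ++ [] ) = k := fun k hk => by rw [List.append_nil]; exact (cw_lt hk).2
  have hrev : row (cw i ++ (cw j).reverse ++ cw j) = i := by
    have hinv : ∀ (w : List ℕ) (p : ℕ), p < 1152 → (∀ l ∈ w, l < 9) →
        go CentreCert.cert (go CentreCert.cert p w.reverse) w = p := by
      intro w
      induction w with
      | nil => intro p _ _; rfl
      | cons a w ih =>
        intro p hp hw
        have hrev : ∀ l ∈ w.reverse, l < CentreCert.cert.ng := fun l hl => by
          rw [cert_facts.1]; exact hw l (by simp [List.mem_reverse.mp hl])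
        have hlt := (S.sat.go_rep w.reverse (p := p) (by rw [cert_facts.2.1]; exact hp) hrev).1
        rw [cert_facts.2.1] at hlt
        rw [go, go, List.reverse_cons, List.foldl_append, List.foldl_cons, List.foldl_cons, List.foldl_nil]
        have hx : ∀ q < 1152, ∀ x < 9, CentreCert.cert.ttgt (CentreCert.cert.ttgt q x) x = q := invol
        rw [show CentreCert.cert.ttgt (CentreCert.cert.ttgt (List.foldl CentreCert.cert.ttgt p w.reverse) a) a =
          List.foldl CentreCert.cert.ttgt p w.reverse from hx _ hlt a (hw a (by simp))]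
        exact ih p hp fun l hl => hw l (by simp [hl])
    rw [row, go, List.foldl_append, List.foldl_append]
    have := hinv (cw j) i hi hwj
    rw [show List.foldl CentreCert.cert.ttgt 0 (cw i) = i from hri]
    exact this
  rw [hrev, List.nil_append, hrj] at back
  exact back

theorem mem_C [Finite G] {g : G} (hg : Commute g z) : ∃ i < 1152, g = S.ev (cw i) := by
  classical
  let f : Fin 1152 → centralizer ({z} : Set G) := fun i =>
    ⟨S.ev (cw i.val), mem_centralizer_singleton_iff.mpr (S.ev_comm (cw_lt i.isLt).1).eq⟩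
  have hf : Function.Bijective f := (Nat.bijective_iff_injective_and_card f).2
    ⟨fun i j h => Fin.ext (S.cw_inj i.isLt j.isLt (congrArg Subtype.val h)), by rw [S.c.cardC]; simp⟩
  obtain ⟨i, hi⟩ := hf.2 ⟨g, mem_centralizer_singleton_iff.mpr hg.eq⟩
  exact ⟨i.val, i.isLt, (congrArg Subtype.val hi).symm⟩

theorem ev_iff [Finite G] {w v : List ℕ} (hw : ∀ l ∈ w, l < 9) (hv : ∀ l ∈ v, l < 9) :
    S.ev w = S.ev v ↔ row w = row v := by
  refine ⟨fun h => ?_, S.ev_eq hw hv⟩
  have h1 := (S.sat.go_zero (w := w) (by rw [cert_facts.1]; exact hw)).1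
  have h2 := (S.sat.go_zero (w := v) (by rw [cert_facts.1]; exact hv)).1
  rw [cert_facts.2.1] at h1 h2
  change row w < 1152 at h1
  change row v < 1152 at h2
  exact S.cw_inj h1 h2 (by rw [S.ev_eq (cw_lt h1).1 hw (cw_lt h1).2, h, S.ev_eq (cw_lt h2).1 hv (cw_lt h2).2])

end Sys

end Cfsg.Lib.UFourThreeType
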