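import Cfsg.Agent.CosetCert.Basic

/-!
Following words through the table of a coset certificate.
-/

set_option autoImplicit false

namespace Cfsg.Lib.UFourThreeType

open Cfsg.Lib.CosetCert

/-- The coset reached by a word. -/
def go (C : Cert) (p : ℕ) (w : List ℕ) : ℕ := w.foldl C.ttgt p

variable {G : Type*} [Group G] (C : Cert) (im : ℕ → G)

/-- The hypotheses on a certificate and an assignment. -/
structure Sat (K : Subgroup G) (R : List (List ℕ)) : Prop where
  valid : C.Valid R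
  inv : ∀ l, l < C.ng → im l * im l = 1
  rel : ∀ r ∈ R, wval im r = 1
  lets : ∀ r ∈ R, ∀ l ∈ r, l < C.ng
  sub : ∀ s ∈ C.subs, im s ∈ K

variable {C im} {K : Subgroup G} {R : List (List ℕ)}

theorem Sat.step (h : Sat C im K R) {p x : ℕ} (hp : p < C.m) (hx : x < C.ng) :
    C.ttgt p x < C.m ∧ C.rep im (C.fn p) * im x * (C.rep im (C.fn (C.ttgt p x)))⁻¹ ∈ K := by
  obtain ⟨spec, js, hrot, hsteps, hb, htab⟩ := h.valid.data
  have hold := steps_sound C im h.valid.small h.inv hrot h.rel (fun r hr l hl => h.inv l (h.lets r hr l hl))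
    h.sub js 0 hsteps hb (by omega)
  simp only [Cert.tabOK, Bool.and_eq_true, beq_iff_eq, List.all_eq_true, List.mem_range,
    decide_eq_true_eq] at htab
  obtain ⟨⟨⟨hr, hl⟩, hj⟩, he⟩ := htab.2 p hp x hx
  have hi := hold (C.tref p x / 2) (by omega)
  rw [Cert.Holds, hl, lval, if_pos hx] at hi
  refine ⟨hj, ?_⟩
  split_ifs at he with hodd
  · simp only [Bool.and_eq_true, beq_iff_eq] at he
    rwa [he.1, he.2] at hi
  · simp only [Bool.and_eq_true, beq_iff_eq] at he
    rw [he.1, he.2] at hi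
    have := K.inv_mem hi
    rwa [mul_inv_rev, mul_inv_rev, inv_inv, inv_eq_of_mul_eq_one_left (h.inv x hx), ← mul_assoc] at this

theorem Sat.zero (h : Sat C im K R) : 0 < C.m ∧ C.rep im (C.fn 0) = 1 := by
  obtain ⟨spec, js, -, -, -, htab⟩ := h.valid.data
  simp only [Cert.tabOK, Bool.and_eq_true, beq_iff_eq, decide_eq_true_eq] at htab
  exact ⟨htab.1.1, by rw [htab.1.2, Cert.rep, dif_neg (by omega)]⟩

theorem Sat.go_rep (h : Sat C im K R) : ∀ (w : List ℕ) {p : ℕ}, p < C.m → (∀ l ∈ w, l < C.ng) →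
    go C p w < C.m ∧ C.rep im (C.fn p) * wval im w * (C.rep im (C.fn (go C p w)))⁻¹ ∈ K
  | [], p, hp, _ => ⟨hp, by simp [go, wval]⟩
  | x :: w, p, hp, hw => by
    obtain ⟨h1, h2⟩ := h.step hp (hw x List.mem_cons_self)
    obtain ⟨h3, h4⟩ := Sat.go_rep h w h1 fun l hl => hw l (List.mem_cons_of_mem x hl)
    refine ⟨h3, ?_⟩
    have := K.mul_mem h2 h4
    rw [go, List.foldl_cons]
    convert this using 1
    simp only [wval, List.map_cons, List.prod_cons, go]
    group

theorem Sat.go_zero (h : Sat C im ⊥ R) {w : List ℕ} (hw : ∀ l ∈ w, l < C.ng) :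
    go C 0 w < C.m ∧ wval im w = C.rep im (C.fn (go C 0 w)) := by
  obtain ⟨h1, h2⟩ := h.go_rep w h.zero.1 hw
  rw [h.zero.2, one_mul, Subgroup.mem_bot] at h2
  exact ⟨h1, mul_inv_eq_one.mp h2⟩

theorem Sat.word_eq (h : Sat C im ⊥ R) {w u : List ℕ} (hw : ∀ l ∈ w, l < C.ng) (hu : ∀ l ∈ u, l < C.ng)
    (e : go C 0 w = go C 0 u) : wval im w = wval im u := by
  rw [(h.go_zero hw).2, (h.go_zero hu).2, e]

end Cfsg.Lib.UFourThreeType
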