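import Cfsg.Agent.UFourThreeType.Point
import Cfsg.Agent.UFourThreeType.CentreCertCheck
import Cfsg.Agent.UFourThreeType.Table

/-!
The nine generators of the centraliser and their relations.
-/

set_option autoImplicit false
set_option maxRecDepth 100000
set_option maxHeartbeats 1000000
set_option linter.style.haveILetI false
set_option linter.unusedSectionVars false

namespace Cfsg.Lib.UFourThreeType

open Subgroup

universe u

variable {G : Type u} [Group G] {z : G}

namespace Basis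

variable {c : Ctx z} (B : Basis z c.Q)

/-- Exchanging the first hyperbolic pair. -/
def swapSX : Basis z c.Q where
  s := B.x
  x := B.s
  a := B.a
  b := B.b
  hs := B.hx
  hx := B.hs
  ha := B.ha
  hb := B.hb
  ss := B.xx
  xx := B.ss
  aa := B.aa
  bb := B.bb
  sx := by
    rw [B.xs, show z * (B.s * B.x) * B.x * B.s = z * B.s * (B.x * B.x) * B.s by group, B.xx, mul_one, mul_assoc,
      B.ss, mul_one]
  ab := B.ab
  sa := B.xa
  sb := B.xb
  xa := B.sa
  xb := B.sb
  spans := fun q hq => by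
    obtain ⟨e, i, j, k, l, rfl⟩ := B.spans q hq
    refine ⟨xor e (i && k), k, j, i, l, ?_⟩
    have hsx : B.s * B.x = z * (B.x * B.s) := by rw [B.xs, ← mul_assoc, c.zz, one_mul]
    have h3 : pw B.s i * pw B.a j * pw B.x k = pw z (i && k) * (pw B.x k * pw B.a j * pw B.s i) := by
      rw [(pw_comm B.sa i j).eq, mul_assoc (pw B.a j),
        show pw B.s i * pw B.x k = pw z (i && k) * (pw B.x k * pw B.s i) by
          cases i <;> cases k <;> simp [pw, hsx],
        ← mul_assoc, ((pw_comm (c.z_comm B.ha) j (i && k))).eq, mul_assoc, ← mul_assoc (pw B.a j),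
        (pw_comm B.xa.symm j k).eq]
    rw [show pw z e * pw B.s i * pw B.a j * pw B.x k * pw B.b l =
      pw z e * (pw B.s i * pw B.a j * pw B.x k) * pw B.b l by group, h3, ← mul_assoc, pw_add c.zz]
    simp only [mul_assoc]

/-- Generators at a point, normalised. -/
structure Pair (k r t : G) : Prop where
  rz : Commute r z
  tz : Commute t z
  rs : Commute r B.s
  ts : Commute t B.s
  rr : r * r = 1
  tt : t * t = 1
  rt : r * t * r * t = B.s
  ra : r * B.a * r = B.a
  rb : r * B.b * r = z * B.s * B.b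
  rx : r * B.x * r = B.x * B.a
  ta : t * B.a * t = z * B.s * B.a
  tb : t * B.b * t = B.b
  tx : t * B.x * t = B.x * B.b
  conj : (r = k * B.a * k⁻¹ ∧ t = k * B.b * k⁻¹) ∨ (r = k * B.b * k⁻¹ ∧ t = k * B.a * k⁻¹)

theorem shift_x {r y : G} (hrs : Commute r B.s) (hys : Commute y B.s) (h : B.x * r * B.x * r = y) :
    B.x * (B.s * r) * B.x * (B.s * r) = z * y := by
  calc B.x * (B.s * r) * B.x * (B.s * r) = B.x * B.s * r * B.x * (B.s * r) := by group
    _ = z * (B.s * B.x) * r * B.x * (r * B.s) := by rw [B.xs, hrs.eq]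
    _ = z * B.s * (B.x * r * B.x * r) * B.s := by group
    _ = z * y * (B.s * B.s) := by rw [h, mul_assoc z B.s y, ← hys.eq]; group
    _ = z * y := by rw [B.ss, mul_one]

theorem fix_sign [Finite G] {k : G} (kz : k * z * k⁻¹ = B.s) (ks : k * B.s * k⁻¹ = z) :
    ∃ k', k' * z * k'⁻¹ = B.s ∧ k' * B.s * k'⁻¹ = z ∧
      ((B.x * (k' * B.a * k'⁻¹) * B.x * (k' * B.a * k'⁻¹) = B.a ∧
          B.x * (k' * B.b * k'⁻¹) * B.x * (k' * B.b * k'⁻¹) = B.b) ∨
        (B.x * (k' * B.a * k'⁻¹) * B.x * (k' * B.a * k'⁻¹) = B.b ∧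
          B.x * (k' * B.b * k'⁻¹) * B.x * (k' * B.b * k'⁻¹) = B.a)) := by
  have step : ∀ {A : Basis z c.Q}, A.s = B.s → A.x = B.x → ∀ {k : G}, k * z * k⁻¹ = B.s → k * B.s * k⁻¹ = z →
      ∀ y : G, Commute y B.s → Commute (k * A.a * k⁻¹) B.s →
      (A.x * (k * A.a * k⁻¹) * A.x * (k * A.a * k⁻¹) = y ∨ A.x * (k * A.a * k⁻¹) * A.x * (k * A.a * k⁻¹) = z * y) →
      ∃ k', k' * z * k'⁻¹ = B.s ∧ k' * B.s * k'⁻¹ = z ∧
        A.x * (k' * A.a * k'⁻¹) * A.x * (k' * A.a * k'⁻¹) = y ∧ k' * A.b * k'⁻¹ = k * A.b * k⁻¹ := by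
    intro A hs hx k kz ks y hy hr h
    rcases h with h | h
    · exact ⟨k, kz, ks, h, rfl⟩
    · have hw := A.kmul_zs (hs.symm ▸ kz) (hs.symm ▸ ks) (w := A.b) ⟨A.hb, A.sb.symm⟩
      rw [hs] at hw
      obtain ⟨h1, h2⟩ := A.conj_ab (hs.symm ▸ kz) (hs.symm ▸ ks)
      refine ⟨_, hw.1, hw.2, ?_, h2⟩
      rw [h1, A.shift_x (by rw [hs]; exact hr) ((c.z_comm A.hs).symm.mul_left (by rw [hs]; exact hy)) h, ← mul_assoc,
        c.zz, one_mul]
  have hcs : ∀ {k : G}, k * z * k⁻¹ = B.s → k * B.s * k⁻¹ = z →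
      Commute (k * B.a * k⁻¹) B.s ∧ Commute (k * B.b * k⁻¹) B.s := fun {k} kz ks =>
    ⟨(B.mover kz ks (Or.inl rfl)).rs, (B.mover kz ks (Or.inr rfl)).rs⟩
  rcases B.two_kinds kz ks with ⟨⟨-, -, h1⟩, ⟨-, -, h2⟩⟩ | ⟨⟨-, -, h1⟩, ⟨-, -, h2⟩⟩
  · obtain ⟨k1, kz1, ks1, e1, f1⟩ := step (A := B) rfl rfl kz ks B.a B.sa.symm (hcs kz ks).1 h1
    obtain ⟨k2, kz2, ks2, e2, f2⟩ := step (A := B.swapAB) rfl rfl kz1 ks1 B.b B.sb.symm (hcs kz1 ks1).2 (by
      show B.x * (k1 * B.b * k1⁻¹) * B.x * (k1 * B.b * k1⁻¹) = _ ∨ B.x * (k1 * B.b * k1⁻¹) * B.x * (k1 * B.b * k1⁻¹) = _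
      rw [f1]; exact h2)
    exact ⟨k2, kz2, ks2, Or.inl ⟨by
      rw [show k2 * B.a * k2⁻¹ = k1 * B.a * k1⁻¹ from f2]; exact e1, e2⟩⟩
  · obtain ⟨k1, kz1, ks1, e1, f1⟩ := step (A := B) rfl rfl kz ks B.b B.sb.symm (hcs kz ks).1 h1
    obtain ⟨k2, kz2, ks2, e2, f2⟩ := step (A := B.swapAB) rfl rfl kz1 ks1 B.a B.sa.symm (hcs kz1 ks1).2 (by
      show B.x * (k1 * B.b * k1⁻¹) * B.x * (k1 * B.b * k1⁻¹) = _ ∨ B.x * (k1 * B.b * k1⁻¹) * B.x * (k1 * B.b * k1⁻¹) = _
      rw [f1]; exact h2)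
    exact ⟨k2, kz2, ks2, Or.inr ⟨by
      rw [show k2 * B.a * k2⁻¹ = k1 * B.a * k1⁻¹ from f2]; exact e1, e2⟩⟩

theorem exists_pair [Finite G] {k : G} (kz : k * z * k⁻¹ = B.s) (ks : k * B.s * k⁻¹ = z) :
    ∃ k' r t, k' * z * k'⁻¹ = B.s ∧ k' * B.s * k'⁻¹ = z ∧ B.Pair k' r t := by
  obtain ⟨k, kz, ks, hsign⟩ := B.fix_sign kz ks
  have hne : B.a ≠ B.b := fun e => B.ab_ne (by rw [e])
  have hza : B.a ≠ z * B.b := fun e => B.ab_ne (by
    rw [e, mul_assoc, ← mul_assoc B.b z, (c.z_comm B.hb).eq, mul_assoc])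
  have mr := B.mover kz ks (q := B.a) (Or.inl rfl)
  have mt := B.mover kz ks (q := B.b) (Or.inr rfl)
  have hab : k * B.a * k⁻¹ * (k * B.b * k⁻¹) * (k * B.a * k⁻¹) * (k * B.b * k⁻¹) = B.s := by
    rw [show k * B.a * k⁻¹ * (k * B.b * k⁻¹) * (k * B.a * k⁻¹) * (k * B.b * k⁻¹) =
      k * (B.a * B.b * B.a * B.b) * k⁻¹ by group, B.ab, kz]
  have hba : k * B.b * k⁻¹ * (k * B.a * k⁻¹) * (k * B.b * k⁻¹) * (k * B.a * k⁻¹) = B.s := by
    rw [show k * B.b * k⁻¹ * (k * B.a * k⁻¹) * (k * B.b * k⁻¹) * (k * B.a * k⁻¹) =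
      k * (B.swapAB.a * B.swapAB.b * B.swapAB.a * B.swapAB.b) * k⁻¹ from by
        show _ = k * (B.b * B.a * B.b * B.a) * k⁻¹
        group, B.swapAB.ab, kz]
  have xr : ∀ {r y : G}, r * r = 1 → B.x * r * B.x * r = y → r * B.x * r = B.x * y := fun {r y} _ h => by
    rw [← h]; simp [← mul_assoc, B.xx]
  have build : ∀ {r t : G}, B.Mover k r → B.Mover k t → r * t * r * t = B.s → B.IsA r → B.swapAB.IsA t →
      B.x * r * B.x * r = B.a → B.x * t * B.x * t = B.b →
      ((r = k * B.a * k⁻¹ ∧ t = k * B.b * k⁻¹) ∨ (r = k * B.b * k⁻¹ ∧ t = k * B.a * k⁻¹)) → B.Pair k r t :=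
    fun hr ht hrt h1 h2 e1 e2 hc => ⟨hr.rz, ht.rz, hr.rs, ht.rs, hr.rr, ht.rr, hrt, h1.1, h1.2.1, xr hr.rr e1,
      h2.2.1, h2.1, xr ht.rr e2, hc⟩
  rcases hsign with ⟨e1, e2⟩ | ⟨e1, e2⟩
  · rcases B.two_kinds kz ks with ⟨h1, h2⟩ | ⟨h1, -⟩
    · exact ⟨k, _, _, kz, ks, build mr mt hab h1 h2 e1 e2 (Or.inl ⟨rfl, rfl⟩)⟩
    · exfalso
      rcases h1.2.2 with e | e
      · exact hne (e1.symm.trans e)
      · exact hza (e1.symm.trans e)
  · rcases B.two_kinds kz ks with ⟨-, h2⟩ | ⟨h1, h2⟩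
    · exfalso
      rcases h2.2.2 with e | e
      · exact hne (e2.symm.trans e)
      · exact hza (e2.symm.trans e)
    · exact ⟨k, _, _, kz, ks, build mt mr hba h2 h1 e2 e1 (Or.inr ⟨rfl, rfl⟩)⟩

end Basis

/-- The nine generators with the relations of the centraliser. -/
structure Sys (z : G) where
  c : Ctx z
  B : Basis z c.Q
  k : G
  kz : k * z * k⁻¹ = B.s
  ks : k * B.s * k⁻¹ = z
  r : G
  t : G
  u : G
  v : G
  uz : Commute u z
  vz : Commute v z
  ux : Commute u B.x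
  vx : Commute v B.x
  uu : u * u = 1
  vv : v * v = 1
  rp : B.Pair k r t
  uv : u * v * u * v = B.x
  us : u * B.s * u = B.s * B.a
  ua : u * B.a * u = B.a
  ub : u * B.b * u = z * B.x * B.b
  vs : v * B.s * v = B.s * B.b
  va : v * B.a * v = z * B.x * B.a
  vb : v * B.b * v = B.b
  rv : r * v * r * v * r * v = 1
  tu : t * u * t * u * t * u = 1
  ru : r * u * r * u = z * B.a
  tv : t * v * t * v = z * B.b

theorem commute_sandwich {r p : G} (hr : r * r = 1) (h : Commute r p) : r * p * r = p := by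
  rw [h.eq, mul_assoc, hr, mul_one]

theorem cube_case [Finite G] {c : Ctx z} (B : Basis z c.Q) {r v : G} (rz : Commute r z) (rs : Commute r B.s)
    (rr : r * r = 1) (ra : r * B.a * r = B.a) (rb : r * B.b * r = z * B.s * B.b) (rx : r * B.x * r = B.x * B.a)
    (vz : Commute v z) (vx : Commute v B.x) (vv : v * v = 1) (vs : v * B.s * v = B.s * B.b)
    (va : v * B.a * v = z * B.x * B.a) (vb : v * B.b * v = B.b) :
    r * v * r * v * r * v = 1 ∨ r * v * r * v * r * v = z := by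
  set g := r * v with hg
  have gi : g⁻¹ = v * r := by rw [hg, mul_inv_rev, inv_self rr, inv_self vv]
  obtain ⟨f, hf⟩ : ∃ f : G →* G, ∀ p, f p = g * p * g⁻¹ := ⟨(MulAut.conj g).toMonoidHom, fun p => rfl⟩
  have one : ∀ {p y : G}, v * p * v = y → f p = r * y * r := fun {p y} h => by
    rw [hf, gi, hg, show r * v * p * (v * r) = r * (v * p * v) * r by group, h]
  have rmul : ∀ p q, r * (p * q) * r = r * p * r * (r * q * r) := fun p q => by
    rw [show r * p * r * (r * q * r) = r * p * (r * r) * q * r by group, rr]; group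
  have gz : f z = z := by rw [one (commute_sandwich vv vz), commute_sandwich rr rz]
  have gx : f B.x = B.x * B.a := by rw [one (commute_sandwich vv vx), rx]
  have gb : f B.b = z * B.s * B.b := by rw [one vb, rb]
  have gs : f B.s = z * B.b := by
    rw [one vs, rmul, commute_sandwich rr rs, rb, ← mul_assoc, ← mul_assoc, (c.z_comm B.hs).eq,
      mul_assoc z B.s B.s, B.ss, mul_one]
  have ga : f B.a = z * B.x := by
    rw [one va, rmul, rmul, commute_sandwich rr rz, rx, ra, mul_assoc, mul_assoc, B.aa, mul_one]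
  have bzsb : B.b * (z * B.s * B.b) = z * B.s := by
    rw [← mul_assoc, ← mul_assoc, (c.z_comm B.hb).eq, mul_assoc z B.b, ← B.sb.eq, mul_assoc, mul_assoc, B.bb,
      mul_one]
  have zin : ∀ w : G, z * (z * w) = w := fun w => by rw [← mul_assoc, c.zz, one_mul]
  have three : ∀ p : G, f (f (f p)) = p → Commute (g * g * g) p := fun p h => by
    show g * g * g * p = p * (g * g * g)
    calc g * g * g * p = g * (g * (g * p * g⁻¹) * g⁻¹) * g⁻¹ * (g * g * g) := by group
      _ = _ := by rw [← hf, ← hf, ← hf, h]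
  have hs3 : f (f (f B.s)) = B.s := by
    rw [gs, map_mul, gz, gb, mul_assoc z B.s, zin, map_mul, gs, gb, mul_assoc z B.b, bzsb, zin]
  have hb3 : f (f (f B.b)) = B.b := by
    have h1 : f (z * B.s * B.b) = z * B.s := by rw [map_mul, map_mul, gz, gs, gb, zin, bzsb]
    rw [gb, h1, map_mul, gz, gs, zin]
  have hx3 : f (f (f B.x)) = B.x := by
    have h2 : B.x * B.a * (z * B.x) = z * B.a := by
      rw [mul_assoc, ← mul_assoc B.a z, (c.z_comm B.ha).eq, mul_assoc z B.a, ← B.xa.eq, ← mul_assoc B.x z,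
        (c.z_comm B.hx).eq, mul_assoc, ← mul_assoc B.x B.x, B.xx, one_mul]
    rw [gx, map_mul, gx, ga, h2, map_mul, gz, ga, zin]
  have ha3 : f (f (f B.a)) = B.a := by
    rw [ga, map_mul, gz, gx, map_mul, gz, map_mul, gx, ga, mul_assoc B.x, ← mul_assoc B.a z, (c.z_comm B.ha).eq,
      mul_assoc z B.a, ← mul_assoc B.x z, (c.z_comm B.hx).eq, mul_assoc z B.x, zin, ← mul_assoc, B.xa.eq, mul_assoc,
      B.xx, mul_one]
  have hzc : Commute (g * g * g) z :=
    ((rz.mul_left vz).mul_left (rz.mul_left vz)).mul_left (rz.mul_left vz)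
  have hall : ∀ w ∈ c.Q, Commute (g * g * g) w := fun w hw => by
    obtain ⟨e, i, j, k, l, rfl⟩ := B.spans w hw
    have cp : ∀ {p : G}, Commute (g * g * g) p → ∀ b, Commute (g * g * g) (pw p b) := fun h b => by
      cases b <;> simp [pw, h]
    exact ((((cp hzc e).mul_right (cp (three _ hs3) i)).mul_right (cp (three _ ha3) j)).mul_right
      (cp (three _ hx3) k)).mul_right (cp (three _ hb3) l)
  have hm : g * g * g ∈ c.Q := c.cQ (mem_centralizer_iff.mpr fun w hw => (hall w hw).symm)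
  rw [show r * v * r * v * r * v = g * g * g by rw [hg]; group]
  exact c.X.cen _ hm fun w hw => (hall w hw).symm

theorem square_case [Finite G] {c : Ctx z} (B : Basis z c.Q) {r t u : G} (rz : Commute r z) (rs : Commute r B.s)
    (rr : r * r = 1) (ra : r * B.a * r = B.a) (rb : r * B.b * r = z * B.s * B.b) (rx : r * B.x * r = B.x * B.a)
    (tz : Commute t z) (ts : Commute t B.s) (tt : t * t = 1) (ta : t * B.a * t = z * B.s * B.a)
    (rt : r * t * r * t = B.s) (uz : Commute u z) (ux : Commute u B.x) (uu : u * u = 1)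
    (us : u * B.s * u = B.s * B.a) (ua : u * B.a * u = B.a) (ub : u * B.b * u = z * B.x * B.b)
    (tu : t * u * t * u * t * u = 1) : r * u * r * u = z * B.a := by
  set g := r * u with hg
  have gi : g⁻¹ = u * r := by rw [hg, mul_inv_rev, inv_self rr, inv_self uu]
  obtain ⟨f, hf⟩ : ∃ f : G →* G, ∀ p, f p = g * p * g⁻¹ := ⟨(MulAut.conj g).toMonoidHom, fun p => rfl⟩
  have one : ∀ {p y : G}, u * p * u = y → f p = r * y * r := fun {p y} h => by
    rw [hf, gi, hg, show r * u * p * (u * r) = r * (u * p * u) * r by group, h]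
  have rmul : ∀ p q, r * (p * q) * r = r * p * r * (r * q * r) := fun p q => by
    rw [show r * p * r * (r * q * r) = r * p * (r * r) * q * r by group, rr]; group
  have gz : f z = z := by rw [one (commute_sandwich uu uz), commute_sandwich rr rz]
  have gx : f B.x = B.x * B.a := by rw [one (commute_sandwich uu ux), rx]
  have ga : f B.a = B.a := by rw [one ua, ra]
  have gs : f B.s = B.s * B.a := by rw [one us, rmul, commute_sandwich rr rs, ra]
  have zin : ∀ w : G, z * (z * w) = w := fun w => by rw [← mul_assoc, c.zz, one_mul]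
  have gb : f B.b = B.x * B.a * B.s * B.b := by
    rw [one ub, rmul, rmul, commute_sandwich rr rz, rx, rb,
      show z * (B.x * B.a) * (z * B.s * B.b) = z * ((B.x * B.a) * z) * B.s * B.b by group,
      (c.z_comm (mul_mem B.hx B.ha)).eq, zin]
  set m := g * g * B.a with hm
  have fin : ∀ p, f (f (B.a * p * B.a⁻¹)) = p → Commute m p := fun p h => by
    show m * p = p * m
    calc m * p = g * (g * (B.a * p * B.a⁻¹) * g⁻¹) * g⁻¹ * m := by rw [hm]; group
      _ = _ := by rw [← hf, ← hf, h]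
  have ai := inv_self B.aa
  have hma : f (f (B.a * B.a * B.a⁻¹)) = B.a := by rw [mul_inv_cancel_right, ga, ga]
  have hms : f (f (B.a * B.s * B.a⁻¹)) = B.s := by
    rw [← B.sa.eq, mul_inv_cancel_right, gs, map_mul, gs, ga, mul_assoc, B.aa, mul_one]
  have hmx : f (f (B.a * B.x * B.a⁻¹)) = B.x := by
    rw [← B.xa.eq, mul_inv_cancel_right, gx, map_mul, gx, ga, mul_assoc, B.aa, mul_one]
  have hmb : f (f (B.a * B.b * B.a⁻¹)) = B.b := by
    have hab : B.a * B.b * B.a⁻¹ = z * B.b := by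
      rw [ai, mul_assoc, B.ba, ← mul_assoc, (c.z_comm B.ha).eq, mul_assoc, ← mul_assoc B.a, B.aa, one_mul]
    rw [hab, map_mul, gz, gb, map_mul, map_mul, map_mul, map_mul, gz, gx, ga, gs, gb]
    calc z * (B.x * B.a * B.a * (B.s * B.a) * (B.x * B.a * B.s * B.b))
        = z * (B.x * (B.a * B.a) * B.s * (B.a * B.x) * (B.a * B.s) * B.b) := by group
      _ = z * (B.x * B.s * (B.x * B.a) * (B.s * B.a) * B.b) := by rw [B.aa, ← B.xa.eq, ← B.sa.eq, mul_one]
      _ = z * (B.x * B.s * B.x * (B.a * B.s) * B.a * B.b) := by group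
      _ = z * (B.x * B.s * B.x * B.s * (B.a * B.a) * B.b) := by rw [← B.sa.eq]; group
      _ = B.b := by
        rw [B.aa, mul_one, B.xs, show z * (B.s * B.x) * B.x * B.s = z * B.s * (B.x * B.x) * B.s by group, B.xx,
          mul_one, mul_assoc z B.s B.s, B.ss, mul_one, zin]
  have hzc : Commute m z := ((rz.mul_left uz).mul_left (rz.mul_left uz)).mul_left (c.z_comm B.ha)
  have hall : ∀ w ∈ c.Q, Commute m w := fun w hw => by
    obtain ⟨e, i, j, k, l, rfl⟩ := B.spans w hw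
    have cp : ∀ {p : G}, Commute m p → ∀ b, Commute m (pw p b) := fun h b => by
      cases b <;> simp [pw, h]
    exact ((((cp hzc e).mul_right (cp (fin _ hms) i)).mul_right (cp (fin _ hma) j)).mul_right
      (cp (fin _ hmx) k)).mul_right (cp (fin _ hmb) l)
  have hmQ : m ∈ c.Q := c.cQ (mem_centralizer_iff.mpr fun w hw => (hall w hw).symm)
  have hgg : r * u * r * u = g * g := by rw [hg]; group
  have hge : g * g = m * B.a := by rw [hm, mul_assoc (g * g), B.aa, mul_one]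
  rcases c.X.cen _ hmQ (fun w hw => (hall w hw).symm) with e | e
  swap
  · rw [hgg, hge, e]
  exfalso
  rw [e, one_mul] at hge
  have hP : u * r * u = r * B.a := by
    calc u * r * u = r * (r * u * r * u) := by rw [← mul_assoc, ← mul_assoc, ← mul_assoc, rr, one_mul]
      _ = r * B.a := by rw [hgg, hge]
  have htut : u * t * u = t * u * t := by
    have := eq_inv_of_mul_eq_one_left (show t * u * t * (u * t * u) = 1 by rw [← tu]; group)
    rw [mul_inv_rev, mul_inv_rev, inv_self tt, inv_self uu] at this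
    rw [this]; group
  have htr : t * r * t = r * B.s := by
    rw [← rt, show r * (r * t * r * t) = r * r * t * r * t by group, rr, one_mul]
  have h1 : r * B.a * (t * u * t) * (r * B.a) * (t * u * t) = B.s * B.a := by
    rw [← htut, ← hP, show u * r * u * (u * t * u) * (u * r * u) * (u * t * u) =
      u * r * (u * u) * t * (u * u) * r * (u * u) * t * u by group, uu, mul_one, mul_one, mul_one,
      show u * r * t * r * t * u = u * (r * t * r * t) * u by group, rt, us]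
  have h2 : r * z * B.a * u * (r * z * B.a) * u = t * (B.s * B.a) * t := by
    have hr : r * z * B.a = t * (r * B.a) * t := by
      calc r * z * B.a = r * (B.s * B.s) * z * B.a := by rw [B.ss, mul_one]
        _ = r * B.s * (B.s * z) * B.a := by group
        _ = r * B.s * (z * B.s) * B.a := by rw [(c.z_comm B.hs).eq]
        _ = r * B.s * (z * B.s * B.a) := by group
        _ = t * r * t * (t * B.a * t) := by rw [htr, ta]
        _ = t * r * (t * t) * B.a * t := by group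
        _ = _ := by rw [tt]; group
    rw [hr, ← h1]
    calc t * (r * B.a) * t * u * (t * (r * B.a) * t) * u
        = t * (r * B.a * (t * u * t) * (r * B.a) * t * u) * 1 := by group
      _ = t * (r * B.a * (t * u * t) * (r * B.a) * t * u) * (t * t) := by rw [tt]
      _ = _ := by group
  have h3 : t * (B.s * B.a) * t = z * B.a := by
    rw [show t * (B.s * B.a) * t = t * B.s * (t * t) * B.a * t by rw [tt]; group,
      show t * B.s * (t * t) * B.a * t = t * B.s * t * (t * B.a * t) by group, commute_sandwich tt ts, ta,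
      ← mul_assoc, ← mul_assoc, (c.z_comm B.hs).eq, mul_assoc z, B.ss, mul_one]
  have h4 : r * z * B.a * u * (r * z * B.a) * u = B.a := by
    have hw : r * z * B.a * u * r = z * (r * B.a * u * r) := by rw [rz.eq]; group
    calc r * z * B.a * u * (r * z * B.a) * u = r * z * B.a * u * r * (z * B.a) * u := by group
      _ = z * (r * B.a * u * r * z) * B.a * u := by rw [hw]; group
      _ = z * z * (r * B.a * u * r) * B.a * u := by
        rw [(((rz.mul_left (c.z_comm B.ha)).mul_left uz).mul_left rz).eq]; group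
      _ = r * B.a * u * r * (u * u) * B.a * u := by rw [c.zz, uu]; group
      _ = r * B.a * (u * r * u) * (u * B.a * u) := by group
      _ = r * B.a * r * (B.a * B.a) := by rw [hP, ua]; group
      _ = B.a := by rw [B.aa, mul_one, ra]
  rw [h3, h4] at h2
  exact c.X.ne (right_eq_mul.mp h2)

theorem exists_sys [Finite G] (c : Ctx z) : Nonempty (Sys z) := by
  classical
  have hc8 : 8 < Nat.card c.Q := by rw [c.cardQ]; norm_num
  obtain ⟨g, hgQ, hgz⟩ := c.nwc
  set B := c.basis with hB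
  have hconjinv : ∀ w : G, w * z * w⁻¹ * (w * z * w⁻¹) = 1 := fun w => by
    rw [show w * z * w⁻¹ * (w * z * w⁻¹) = w * (z * z) * w⁻¹ by group, c.zz, mul_one, mul_inv_cancel]
  have hconjne : ∀ w : G, w * z * w⁻¹ ≠ 1 := fun w e => c.X.ne (conj_eq_one_iff.mp e)
  obtain ⟨d, hd, hde⟩ := c.trans _ hgQ (hconjinv g) (hconjne g) hgz
  set g' := d⁻¹ * g with hg'
  have hg's : g' * z * g'⁻¹ = B.s := by
    rw [hg', show d⁻¹ * g * z * (d⁻¹ * g)⁻¹ = d⁻¹ * (g * z * g⁻¹) * d by group]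
    exact kinv_z hde
  have hgi := Cfsg.Lib.LargeExtra.mem_conj_of_mem c.X c.cQ c.nQ hc8 (g := g') (by rw [hg's]; exact B.hs)
    (by rw [hg's]; exact B.s_ne.2.1)
  have hne : g'⁻¹ * z * g' ≠ z := fun e => B.s_ne.2.1 (by
    have h : g' * (g'⁻¹ * z * g') * g'⁻¹ = g' * z * g'⁻¹ := by rw [e]
    rw [hg's] at h
    exact h.symm.trans (by group))
  have e0 : g'⁻¹ * z * g'⁻¹⁻¹ = g'⁻¹ * z * g' := by rw [inv_inv]
  obtain ⟨d', hd', hde'⟩ := c.trans _ hgi (e0 ▸ hconjinv g'⁻¹) (e0 ▸ hconjne g'⁻¹) hne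
  set k := g' * d' with hk
  have kz : k * z * k⁻¹ = B.s := by
    rw [hk, show g' * d' * z * (g' * d')⁻¹ = g' * (d' * z) * d'⁻¹ * g'⁻¹ by group, hd'.eq,
      show g' * (z * d') * d'⁻¹ * g'⁻¹ = g' * z * g'⁻¹ by group, hg's]
  have ks : k * B.s * k⁻¹ = z := by
    rw [hk, show g' * d' * B.s * (g' * d')⁻¹ = g' * (d' * B.s * d'⁻¹) * g'⁻¹ by group, hde']; group
  have hx1 : B.x ≠ 1 ∧ B.x ≠ z := ⟨B.swapSX.s_ne.1, B.swapSX.s_ne.2.1⟩
  obtain ⟨dx, hdx, hdxe⟩ := c.trans _ B.hx B.xx hx1.1 hx1.2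
  have kxz : dx * k * dx⁻¹ * z * (dx * k * dx⁻¹)⁻¹ = B.x := by
    rw [show dx * k * dx⁻¹ * z * (dx * k * dx⁻¹)⁻¹ = dx * k * (dx⁻¹ * z * dx) * k⁻¹ * dx⁻¹ by group,
      show dx⁻¹ * z * dx = z by rw [mul_assoc, ← hdx.eq]; group,
      show dx * k * z * k⁻¹ * dx⁻¹ = dx * (k * z * k⁻¹) * dx⁻¹ by group, kz, hdxe]
  have kxx : dx * k * dx⁻¹ * B.x * (dx * k * dx⁻¹)⁻¹ = z := by
    rw [show dx * k * dx⁻¹ * B.x * (dx * k * dx⁻¹)⁻¹ = dx * k * (dx⁻¹ * B.x * dx) * k⁻¹ * dx⁻¹ by group,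
      show dx⁻¹ * B.x * dx = B.s from kinv_z hdxe,
      show dx * k * B.s * k⁻¹ * dx⁻¹ = dx * (k * B.s * k⁻¹) * dx⁻¹ by group, ks, hdx.eq, mul_inv_cancel_right]
  obtain ⟨k1, r, t, kz1, ks1, hp⟩ := B.exists_pair kz ks
  obtain ⟨k2, u0, v0, -, -, hq⟩ := B.swapSX.exists_pair kxz kxx
  have adj : ∀ {r v : G}, Commute r z → Commute v z → (r * v * r * v * r * v = 1 ∨ r * v * r * v * r * v = z) →
      ∃ e : Bool, r * (v * pw z e) * r * (v * pw z e) * r * (v * pw z e) = 1 := by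
    intro r v hr hv h
    rcases h with h | h
    · exact ⟨false, by simpa [pw] using h⟩
    · refine ⟨true, ?_⟩
      simp only [pw, if_true]
      have hzc : ∀ w : G, Commute w z → w * z = z * w := fun w h => h.eq
      calc r * (v * z) * r * (v * z) * r * (v * z) = r * v * (z * (r * v)) * z * r * v * z := by group
        _ = r * v * (r * v) * (z * z) * r * v * z := by rw [← (hr.mul_left hv).eq]; group
        _ = r * v * r * v * r * v * z := by rw [c.zz]; group
        _ = _ := by rw [h, c.zz]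
  have flip : ∀ {v p w : G}, Commute v z → Commute p z → v * p * v = w → ∀ e : Bool,
      v * pw z e * p * (v * pw z e) = w := by
    intro v p w hv hp h e
    cases e
    · simpa [pw] using h
    · simp only [pw, if_true]
      calc v * z * p * (v * z) = v * (z * (p * v)) * z := by group
        _ = v * p * v * (z * z) := by rw [← (hp.mul_left hv).eq]; group
        _ = w := by rw [c.zz, mul_one, h]
  have flipsq : ∀ {v : G}, Commute v z → v * v = 1 → ∀ e : Bool, v * pw z e * (v * pw z e) = 1 := fun hv h e => by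
    have := flip hv (Commute.one_left z) (show _ * (1 : G) * _ = (1 : G) by rw [mul_one]; exact h) e
    rwa [mul_one] at this
  obtain ⟨ev, hev⟩ := adj hp.rz hq.tz
    (cube_case B hp.rz hp.rs hp.rr hp.ra hp.rb hp.rx hq.tz hq.ts hq.tt hq.tx hq.ta hq.tb)
  obtain ⟨eu, heu⟩ := adj hp.tz hq.rz
    (cube_case B.swapAB hp.tz hp.ts hp.tt hp.tb hp.ta hp.tx hq.rz hq.rs hq.rr hq.rx hq.rb hq.ra)
  set u := u0 * pw z eu with hu
  set v := v0 * pw z ev with hv
  have cz : ∀ e, Commute (pw z e) z := fun e => by cases e <;> simp [pw]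
  have cx : ∀ e, Commute (pw z e) B.x := fun e => by cases e <;> simp [pw, (c.z_comm B.hx).symm]
  have uz : Commute u z := hq.rz.mul_left (cz _)
  have vz : Commute v z := hq.tz.mul_left (cz _)
  have ux : Commute u B.x := Commute.mul_left hq.rs (cx _)
  have vx : Commute v B.x := Commute.mul_left hq.ts (cx _)
  have uu : u * u = 1 := flipsq hq.rz hq.rr _
  have vv : v * v = 1 := flipsq hq.tz hq.tt _
  have us : u * B.s * u = B.s * B.a := flip hq.rz (c.z_comm B.hs) hq.rx _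
  have ua : u * B.a * u = B.a := flip hq.rz (c.z_comm B.ha) hq.ra _
  have ub : u * B.b * u = z * B.x * B.b := flip hq.rz (c.z_comm B.hb) hq.rb _
  have vs : v * B.s * v = B.s * B.b := flip hq.tz (c.z_comm B.hs) hq.tx _
  have va : v * B.a * v = z * B.x * B.a := flip hq.tz (c.z_comm B.ha) hq.ta _
  have vb : v * B.b * v = B.b := flip hq.tz (c.z_comm B.hb) hq.tb _
  have uv : u * v * u * v = B.x := by
    rw [show u * v * u * v = u * v * u * v0 * pw z ev by rw [hv]; group]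
    have h1 : u * v * u = u0 * v0 * u0 * pw z ev := by
      have := flip hq.rz vz (w := u0 * v0 * u0 * pw z ev) (by
        rw [hv, show u0 * (v0 * pw z ev) * u0 = u0 * v0 * (pw z ev * u0) by group,
          show pw z ev * u0 = u0 * pw z ev by cases ev <;> simp [pw, hq.rz.eq]]
        group) eu
      exact this
    rw [h1, show u0 * v0 * u0 * pw z ev * v0 * pw z ev = u0 * v0 * u0 * (pw z ev * v0) * pw z ev by group,
      show pw z ev * v0 = v0 * pw z ev by cases ev <;> simp [pw, hq.tz.eq],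
      show u0 * v0 * u0 * (v0 * pw z ev) * pw z ev = u0 * v0 * u0 * v0 * (pw z ev * pw z ev) by group,
      Basis.pw_add c.zz, Bool.xor_self, hq.rt]
    show B.x * 1 = B.x
    rw [mul_one]
  exact ⟨{
    c := c, B := B, k := k1, kz := kz1, ks := ks1, r := r, t := t, u := u, v := v
    uz := uz, vz := vz, ux := ux, vx := vx, uu := uu, vv := vv, rp := hp, uv := uv
    us := us, ua := ua, ub := ub, vs := vs, va := va, vb := vb
    rv := hev, tu := heu
    ru := square_case B hp.rz hp.rs hp.rr hp.ra hp.rb hp.rx hp.tz hp.ts hp.tt hp.ta hp.rt uz ux uu us ua ub heu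
    tv := square_case B.swapAB hp.tz hp.ts hp.tt hp.tb hp.ta hp.tx hp.rz hp.rs hp.rr hp.rb
      (by
        show t * r * t * r = B.s
        have := congrArg (·⁻¹) hp.rt
        simpa [mul_inv_rev, inv_self hp.rr, inv_self hp.tt, inv_self B.ss, mul_assoc] using this)
      vz vx vv vs vb va hev }⟩

/-- The letters. -/
def Sys.im (S : Sys z) (n : ℕ) : G :=
  [z, S.B.s, S.B.a, S.B.b, S.B.x, S.r, S.t, S.u, S.v, S.k].getD n 1

theorem Sys.centre_rels (S : Sys z) : ∀ r ∈ CentreCert.rels, Cfsg.Lib.CosetCert.wval S.im r = 1 := by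
  have c := S.c
  have p := S.rp
  have sq : ∀ {g h : G}, g * g = 1 → h * h = 1 → Commute g h → g * h * g * h = 1 := fun hg hh hc => by
    rw [commute_sandwich hg hc, hh]
  have sw : ∀ {g h w : G}, g * h * g = w → g * h * g * w⁻¹ = 1 := fun h => by rw [h, mul_inv_cancel]
  have zz := S.c.zz
  have zi := inv_self zz
  have si := inv_self S.B.ss
  have xi := inv_self S.B.xx
  have ai := inv_self S.B.aa
  have bi := inv_self S.B.bb
  simp only [CentreCert.rels, List.forall_mem_cons, Cfsg.Lib.CosetCert.wval, List.map_cons, List.map_nil, List.prod_cons, List.prod_nil, mul_one,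
    Sys.im, List.getD_cons_zero, List.getD_cons_succ]
  refine ⟨zz, S.B.ss, S.B.aa, S.B.bb, S.B.xx, p.rr, p.tt, S.uu, S.vv, ?_⟩
  simp only [← mul_assoc]
  have zpq : ∀ {p q : G}, p * p = 1 → q * q = 1 → Commute p z → Commute q z → z * p * q * z * q * p = 1 :=
    fun {p q} hp hq hpz hqz => by
      rw [show z * p * q * z * q * p = z * (p * q * z) * (q * p) by group, (hpz.mul_left hqz).eq, ← mul_assoc z z, zz,
        one_mul, show p * q * (q * p) = p * (q * q) * p by group, hq, mul_one, hp]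
  have pqqp : ∀ {p q : G}, p * p = 1 → q * q = 1 → p * q * q * p = 1 := fun {p q} hp hq => by
    rw [mul_assoc p, hq, mul_one, hp]
  have cs := S.c.z_comm S.B.hs
  have ca := S.c.z_comm S.B.ha
  have cb := S.c.z_comm S.B.hb
  have cx := S.c.z_comm S.B.hx
  refine ⟨sq zz S.B.ss cs.symm, sq zz S.B.aa ca.symm,
    sq zz S.B.bb cb.symm, sq zz S.B.xx cx.symm, sq zz p.rr p.rz.symm,
    sq zz p.tt p.tz.symm, sq zz S.uu S.uz.symm, sq zz S.vv S.vz.symm, sq S.B.ss S.B.aa S.B.sa,
    sq S.B.ss S.B.bb S.B.sb, by rw [S.B.sx, zz], by rw [S.B.ab, zz], sq S.B.aa S.B.xx S.B.xa.symm,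
    sq S.B.bb S.B.xx S.B.xb.symm, sq p.rr S.B.ss p.rs, by rw [p.ra, S.B.aa], ?_, ?_, sq p.tt S.B.ss p.ts, ?_,
    by rw [p.tb, S.B.bb], ?_, ?_, by rw [S.ua, S.B.aa], ?_, sq S.uu S.B.xx S.ux, ?_, ?_, by rw [S.vb, S.B.bb],
    sq S.vv S.B.xx S.vx, by rw [p.rt, S.B.ss], by rw [S.uv, S.B.xx], S.rv, S.tu, ?_, ?_, by simp⟩
  · rw [p.rb]; exact zpq S.B.ss S.B.bb cs cb
  · rw [p.rx]; exact sq S.B.xx S.B.aa S.B.xa
  · rw [p.ta]; exact zpq S.B.ss S.B.aa cs ca
  · rw [p.tx]; exact pqqp S.B.xx S.B.bb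
  · rw [S.us]; exact pqqp S.B.ss S.B.aa
  · rw [S.ub]; exact zpq S.B.xx S.B.bb cx cb
  · rw [S.vs]; exact pqqp S.B.ss S.B.bb
  · rw [S.va, show z * S.B.x * S.B.a * z * S.B.x * S.B.a = z * (S.B.x * S.B.a * z) * (S.B.x * S.B.a) by group,
      (cx.mul_left ca).eq, ← mul_assoc z z, zz, one_mul, ← mul_assoc, sq S.B.xx S.B.aa S.B.xa]
  · rw [S.ru, mul_assoc z, S.B.aa, mul_one, zz]
  · rw [S.tv, mul_assoc z, S.B.bb, mul_one, zz]

end Cfsg.Lib.UFourThreeType
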