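import Cfsg.Agent.UFourThreeType.Setting

/-!
The conjugate of the extraspecial group at a commuting conjugate of the central involution.
-/

set_option autoImplicit false
set_option maxRecDepth 100000
set_option maxHeartbeats 1000000
set_option linter.style.haveILetI false
set_option linter.unusedSectionVars false

namespace Cfsg.Lib.UFourThreeType

open Subgroup
open scoped commutatorElement
open Cfsg.Lib.LargeExtra (X2 mem_map_conj mem_zpowers_two)

universe u

variable {G : Type u} [Group G] {z : G}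

theorem inv_self {g : G} (h : g * g = 1) : g⁻¹ = g := inv_eq_of_mul_eq_one_right h

theorem conj_mul' (g p q : G) : g * (p * q) * g⁻¹ = g * p * g⁻¹ * (g * q * g⁻¹) := by group

theorem conj_conj' (g h p : G) : g * (h * p * h⁻¹) * g⁻¹ = g * h * p * (g * h)⁻¹ := by group

theorem kinv_z {k p q : G} (h : k * p * k⁻¹ = q) : k⁻¹ * q * k = p := by
  rw [← h]; group

/-- Two elements are equal up to the central involution. -/
def Eqz (w p q : G) : Prop := p = q ∨ p = w * q

namespace Ctx

variable (c : Ctx z)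

include c in
theorem zz : z * z = 1 := c.X.zz

theorem z_comm {q : G} (hq : q ∈ c.Q) : Commute q z := c.X.central q hq

theorem norm {g q : G} (hg : Commute g z) (hq : q ∈ c.Q) : g * q * g⁻¹ ∈ c.Q :=
  (mem_normalizer_iff.mp (c.nQ (mem_centralizer_singleton_iff.mpr hg)) q).mp hq

end Ctx

namespace Basis

variable {c : Ctx z} (B : Basis z c.Q)

/-- The normal form. -/
def nf (e i j k l : Bool) : G := pw z e * pw B.s i * pw B.a j * pw B.x k * pw B.b l

theorem pw_mem {g : G} (h : g ∈ c.Q) (b : Bool) : pw g b ∈ c.Q := by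
  cases b
  · exact one_mem _
  · exact h

theorem pw_comm {g h : G} (hc : Commute g h) (b b' : Bool) : Commute (pw g b) (pw h b') := by
  cases b <;> cases b' <;> simp [pw, hc]

theorem pw_add {g : G} (h : g * g = 1) (b b' : Bool) : pw g b * pw g b' = pw g (xor b b') := by
  cases b <;> cases b' <;> simp [pw, h]

include B in
theorem z_ne : z ≠ 1 := c.X.ne

theorem xs : B.x * B.s = z * (B.s * B.x) := by
  have h := B.sx
  calc B.x * B.s = (B.s * B.s) * (B.x * B.s) * (B.x * B.x) := by rw [B.ss, B.xx, one_mul, mul_one]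
    _ = B.s * (B.s * B.x * B.s * B.x) * B.x := by group
    _ = z * (B.s * B.x) := by rw [h, (c.z_comm B.hs).eq, mul_assoc]

theorem ba : B.b * B.a = z * (B.a * B.b) := by
  have h := B.ab
  calc B.b * B.a = (B.a * B.a) * (B.b * B.a) * (B.b * B.b) := by rw [B.aa, B.bb, one_mul, mul_one]
    _ = B.a * (B.a * B.b * B.a * B.b) * B.b := by group
    _ = z * (B.a * B.b) := by rw [h, (c.z_comm B.ha).eq, mul_assoc]

theorem s_ne : B.s ≠ 1 ∧ B.s ≠ z ∧ B.s ≠ z * 1 ∧ z * B.s ≠ 1 := by
  have hx := B.sx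
  have key : ∀ g : G, g = 1 ∨ g = z → g * B.x * g * B.x = 1 := by
    rintro g (e | e) <;> rw [e]
    · simp [B.xx]
    · rw [← (c.z_comm B.hx).eq, mul_assoc B.x z z, c.zz, mul_one, B.xx]
  have h1 : B.s ≠ 1 ∧ B.s ≠ z := by
    constructor <;> intro e <;> refine c.X.ne ?_
    · rw [← hx]; exact key _ (Or.inl e)
    · rw [← hx]; exact key _ (Or.inr e)
  refine ⟨h1.1, h1.2, by rw [mul_one]; exact h1.2, fun e => h1.2 ?_⟩
  rw [eq_inv_of_mul_eq_one_right e]; exact inv_self c.zz

/-- The four-group. -/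
def InE (g : G) : Prop := g = 1 ∨ g = z ∨ g = B.s ∨ g = z * B.s

/-- Being in the extraspecial group and fixing the point. -/
def InA (g : G) : Prop := g ∈ c.Q ∧ Commute g B.s

theorem InE.inA {g : G} (h : B.InE g) : B.InA g := by
  rcases h with rfl | rfl | rfl | rfl
  exacts [⟨one_mem _, Commute.one_left _⟩, ⟨c.X.mem, (c.z_comm B.hs).symm⟩, ⟨B.hs, Commute.refl _⟩,
    ⟨mul_mem c.X.mem B.hs, (c.z_comm B.hs).symm.mul_left (Commute.refl _)⟩]

theorem inA_form {g : G} (hg : B.InA g) : ∃ e i j l, g = B.nf e i j false l := by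
  obtain ⟨e, i, j, k, l, rfl⟩ := B.spans g hg.1
  cases k with
  | false => exact ⟨e, i, j, l, rfl⟩
  | true =>
    exfalso
    have h1 : Commute (pw z e * pw B.s i * pw B.a j) B.s := by
      refine ((Commute.mul_left ?_ ?_).mul_left ?_)
      · cases e <;> simp [pw, (c.z_comm B.hs).symm]
      · cases i <;> simp [pw]
      · cases j <;> simp [pw, B.sa.symm]
    have h3 : Commute (pw B.b l) B.s := by cases l <;> simp [pw, B.sb.symm]
    have h := hg.2
    have h2 : Commute (pw B.x true) B.s := by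
      have := (h1.inv_left.mul_left h).mul_left h3.inv_left
      simpa [mul_assoc] using this
    have h4 : B.x * B.s = B.s * B.x := h2
    rw [B.xs] at h4
    exact c.X.ne (mul_eq_right.mp h4)

theorem act_trivial [Finite G] {g : G} (hg : Commute g z) (hs : Eqz z (g * B.s * g⁻¹) B.s) (hx : Eqz z (g * B.x * g⁻¹) B.x)
    (ha : Eqz z (g * B.a * g⁻¹) B.a) (hb : Eqz z (g * B.b * g⁻¹) B.b) : g ∈ c.Q := by
  classical
  let d : ∀ {p : G}, Eqz z (g * p * g⁻¹) p → Bool := fun {p} _ => decide (g * p * g⁻¹ ≠ p)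
  set q := pw B.s (d hx) * pw B.x (d hs) * pw B.a (d hb) * pw B.b (d ha) with hq
  have hqQ : q ∈ c.Q :=
    mul_mem (mul_mem (mul_mem (pw_mem B.hs _) (pw_mem B.hx _)) (pw_mem B.ha _)) (pw_mem B.hb _)
  have step : ∀ {p : G} (h : Eqz z (g * p * g⁻¹) p), g * p * g⁻¹ = pw z (d h) * p := by
    intro p h
    by_cases e : g * p * g⁻¹ = p
    · simp [d, e, pw]
    · simp [d, e, pw, h.resolve_left e]
  have com : ∀ {f p : G}, Commute f p → ∀ b, pw f b * p = p * pw f b := fun h b => by
    cases b <;> simp [pw, h.eq]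
  have anti : ∀ {f p : G}, f * p = z * (p * f) → ∀ b, pw f b * p = pw z b * (p * pw f b) := fun h b => by
    cases b <;> simp [pw, h]
  have zc : ∀ {p : G}, p ∈ c.Q → ∀ b (w : G), p * (pw z b * w) = pw z b * (p * w) := fun hp b w => by
    rw [← mul_assoc, ← mul_assoc]
    congr 1
    cases b <;> simp [pw, (c.z_comm hp).eq]
  have sxz : B.s * B.x = z * (B.x * B.s) := by rw [B.xs, ← mul_assoc, c.zz, one_mul]
  have abz : B.a * B.b = z * (B.b * B.a) := by rw [B.ba, ← mul_assoc, c.zz, one_mul]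
  have qs : q * B.s = pw z (d hs) * (B.s * q) := by
    simp only [hq, mul_assoc]
    rw [com B.sb.symm, ← mul_assoc (pw B.a _) B.s, com B.sa.symm, mul_assoc,
      ← mul_assoc (pw B.x _) B.s, anti B.xs, mul_assoc, zc (pw_mem B.hs _), mul_assoc,
      ← mul_assoc (pw B.s _) B.s, com (Commute.refl B.s), mul_assoc]
  have qx : q * B.x = pw z (d hx) * (B.x * q) := by
    simp only [hq, mul_assoc]
    rw [com B.xb.symm, ← mul_assoc (pw B.a _) B.x, com B.xa.symm, mul_assoc,
      ← mul_assoc (pw B.x _) B.x, com (Commute.refl B.x), mul_assoc,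
      ← mul_assoc (pw B.s _) B.x, anti sxz, mul_assoc, mul_assoc]
  have qa : q * B.a = pw z (d ha) * (B.a * q) := by
    simp only [hq, mul_assoc]
    rw [anti B.ba, zc (pw_mem B.ha _), zc (pw_mem B.hx _), zc (pw_mem B.hs _),
      ← mul_assoc (pw B.a _) B.a, com (Commute.refl B.a), mul_assoc,
      ← mul_assoc (pw B.x _) B.a, com B.xa, mul_assoc, ← mul_assoc (pw B.s _) B.a, com B.sa, mul_assoc]
  have qb : q * B.b = pw z (d hb) * (B.b * q) := by
    simp only [hq, mul_assoc]
    rw [com (Commute.refl B.b), ← mul_assoc (pw B.a _) B.b, anti abz, mul_assoc, zc (pw_mem B.hx _),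
      zc (pw_mem B.hs _), mul_assoc, ← mul_assoc (pw B.x _) B.b, com B.xb, mul_assoc,
      ← mul_assoc (pw B.s _) B.b, com B.sb, mul_assoc]
  have fix : ∀ {p : G} (h : Eqz z (g * p * g⁻¹) p), q * p = pw z (d h) * (p * q) → Commute (q⁻¹ * g) p := by
    intro p h e
    show q⁻¹ * g * p = p * (q⁻¹ * g)
    calc q⁻¹ * g * p = q⁻¹ * (g * p * g⁻¹) * g := by group
      _ = q⁻¹ * (pw z (d h) * (p * q)) * (q⁻¹ * g) := by rw [step h]; group
      _ = p * (q⁻¹ * g) := by rw [← e]; group
  have hm : q⁻¹ * g ∈ centralizer (c.Q : Set G) := by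
    refine mem_centralizer_iff.mpr fun w hw => ?_
    obtain ⟨e, i, j, k, l, rfl⟩ := B.spans w hw
    have hzc : Commute (q⁻¹ * g) z := (c.z_comm hqQ).inv_left.mul_left hg
    have cp : ∀ {p : G}, Commute (q⁻¹ * g) p → ∀ b, Commute (q⁻¹ * g) (pw p b) := fun h b => by
      cases b <;> simp [pw, h]
    exact (((((cp hzc e).mul_right (cp (fix hs qs) i)).mul_right (cp (fix ha qa) j)).mul_right
      (cp (fix hx qx) k)).mul_right (cp (fix hb qb) l)).symm
  have : q * (q⁻¹ * g) ∈ c.Q := mul_mem hqQ (c.cQ hm)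
  simpa using this

variable {k : G}

/-- The four-group as the intersection. -/
theorem meet_cases [Finite G] (kz : k * z * k⁻¹ = B.s) (ks : k * B.s * k⁻¹ = z) {g : G} (hg : g ∈ c.Q)
    (hg' : k⁻¹ * g * k ∈ c.Q) : B.InE g := by
  classical
  set M := c.Q ⊓ c.Q.map (MulAut.conj k).toMonoidHom with hM
  have h4 : Nat.card M = 4 := c.meet k (by rw [kz]; exact B.hs) (by rw [kz]; exact B.s_ne.2.1)
  have hz : z ∈ M := ⟨c.X.mem, mem_map_conj.mpr (by
    rw [kinv_z ks]; exact B.hs)⟩
  have hs : B.s ∈ M := ⟨B.hs, mem_map_conj.mpr (by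
    rw [kinv_z kz]; exact c.X.mem)⟩
  have hsub : ({1, z, B.s, z * B.s} : Set G) ⊆ (M : Set G) := by
    rintro w (rfl | rfl | rfl | rfl)
    exacts [one_mem _, hz, hs, mul_mem hz hs]
  obtain ⟨hs1, hsz, -, hzs⟩ := B.s_ne
  have hn : ({1, z, B.s, z * B.s} : Set G).ncard = 4 := by
    rw [Set.ncard_insert_of_notMem, Set.ncard_eq_three.mpr]
    · exact ⟨z, B.s, z * B.s, hsz.symm, fun e => hs1 (left_eq_mul.mp e), fun e => c.X.ne (right_eq_mul.mp e), rfl⟩
    · simp only [Set.mem_insert_iff, Set.mem_singleton_iff, not_or]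
      exact ⟨c.X.ne.symm, hs1.symm, hzs.symm⟩
  have heq := Set.eq_of_subset_of_ncard_le hsub (by
    rw [hn, ← Nat.card_coe_set_eq]; exact h4.le) (Set.toFinite _)
  have : g ∈ ({1, z, B.s, z * B.s} : Set G) := heq ▸ (⟨hg, mem_map_conj.mpr hg'⟩ : g ∈ M)
  simpa [InE] using this

theorem k_inE (kz : k * z * k⁻¹ = B.s) (ks : k * B.s * k⁻¹ = z) {g : G} (h : B.InE (k * g * k⁻¹)) : B.InE g := by
  have hz : k⁻¹ * z * k = B.s := kinv_z ks
  have hs : k⁻¹ * B.s * k = z := kinv_z kz
  rcases h with e | e | e | e <;>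
    rw [show g = k⁻¹ * (k * g * k⁻¹) * k by group, e]
  · exact Or.inl (by group)
  · exact Or.inr (Or.inr (Or.inl hz))
  · exact Or.inr (Or.inl hs)
  · refine Or.inr (Or.inr (Or.inr ?_))
    rw [show k⁻¹ * (z * B.s) * k = (k⁻¹ * z * k) * (k⁻¹ * B.s * k) by group, hz, hs, (c.z_comm B.hs).eq]

theorem nf_outside {j l : Bool} (h : j = true ∨ l = true) (e i : Bool) : ¬ B.InE (B.nf e i j false l) := by
  intro hE
  have hzs : ∀ w : G, B.InE w → Commute w B.a ∧ Commute w B.b := by
    rintro w (rfl | rfl | rfl | rfl)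
    exacts [⟨Commute.one_left _, Commute.one_left _⟩, ⟨(c.z_comm B.ha).symm, (c.z_comm B.hb).symm⟩, ⟨B.sa, B.sb⟩,
      ⟨(c.z_comm B.ha).symm.mul_left B.sa, (c.z_comm B.hb).symm.mul_left B.sb⟩]
  have hab : B.b * B.a ≠ B.a * B.b := fun he => c.X.ne (by rw [B.ba] at he; exact mul_eq_right.mp he)
  have h1 : Commute (pw z e * pw B.s i) B.a ∧ Commute (pw z e * pw B.s i) B.b := by
    cases e <;> cases i <;> simp [pw, B.sa, B.sb, (c.z_comm B.ha).symm, (c.z_comm B.hb).symm, Commute.mul_left]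
  obtain ⟨ca, cb⟩ := hzs _ hE
  obtain ⟨c1, c2⟩ := h1
  rw [nf] at ca cb
  generalize pw z e * pw B.s i = w at ca cb c1 c2
  cases j <;> cases l <;> simp [pw] at h ca cb
  · have := c1.inv_left.mul_left ca
    rw [inv_mul_cancel_left] at this
    exact hab this.eq
  · have := c2.inv_left.mul_left cb
    rw [inv_mul_cancel_left] at this
    exact hab this.eq.symm
  · have := c1.inv_left.mul_left ca
    rw [mul_assoc w, inv_mul_cancel_left] at this
    refine hab ?_
    have h2 : B.a * B.b * B.a = B.a * (B.a * B.b) := this.eq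
    rw [mul_assoc] at h2
    exact mul_left_cancel h2

theorem inA_cases {g : G} (hg : B.InA g) : B.InE g ∨ ∃ e, B.InE e ∧ (g = B.a * e ∨ g = B.b * e ∨ g = B.a * B.b * e) := by
  obtain ⟨e, i, j, l, rfl⟩ := B.inA_form hg
  have hE : B.InE (pw z e * pw B.s i) := by cases e <;> cases i <;> simp [pw, InE]
  have hca : Commute (pw z e * pw B.s i) B.a ∧ Commute (pw z e * pw B.s i) B.b := by
    cases e <;> cases i <;> simp [pw, B.sa, B.sb, (c.z_comm B.ha).symm, (c.z_comm B.hb).symm, Commute.mul_left]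
  rw [nf]
  generalize pw z e * pw B.s i = w at hE hca
  cases j <;> cases l <;> simp only [pw, mul_one, if_true, if_false, Bool.false_eq_true]
  · exact Or.inl hE
  · exact Or.inr ⟨_, hE, Or.inr (Or.inl hca.2.eq)⟩
  · exact Or.inr ⟨_, hE, Or.inl hca.1.eq⟩
  · refine Or.inr ⟨_, hE, Or.inr (Or.inr ?_)⟩
    rw [mul_assoc w]
    exact (hca.1.mul_right hca.2).eq

theorem ab_sq {e : G} (he : B.InE e) : B.a * B.b * e * (B.a * B.b * e) = z := by
  have hc : Commute e (B.a * B.b) ∧ e * e = 1 := by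
    rcases he with rfl | rfl | rfl | rfl
    · simp
    · exact ⟨(c.z_comm B.ha).symm.mul_right (c.z_comm B.hb).symm, c.zz⟩
    · exact ⟨B.sa.mul_right B.sb, B.ss⟩
    · refine ⟨((c.z_comm B.ha).symm.mul_right (c.z_comm B.hb).symm).mul_left (B.sa.mul_right B.sb), ?_⟩
      rw [mul_assoc, ← mul_assoc B.s, (c.z_comm B.hs).eq, mul_assoc, B.ss, mul_one, c.zz]
  calc B.a * B.b * e * (B.a * B.b * e) = B.a * B.b * (e * (B.a * B.b)) * e := by group
    _ = B.a * B.b * B.a * B.b * (e * e) := by rw [hc.1.eq]; group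
    _ = z := by rw [hc.2, mul_one, B.ab]

/-- A conjugate of a noncentral involution of `A`. -/
structure Mover (k : G) (r : G) : Prop where
  rz : Commute r z
  rs : Commute r B.s
  rr : r * r = 1
  mem : k⁻¹ * r * k ∈ c.Q
  out : ¬ B.InE r

theorem mover (kz : k * z * k⁻¹ = B.s) (ks : k * B.s * k⁻¹ = z) {q : G} (hq : q = B.a ∨ q = B.b) :
    B.Mover k (k * q * k⁻¹) := by
  obtain ⟨hA, hq2, hout⟩ : B.InA q ∧ q * q = 1 ∧ ¬ B.InE q := by
    rcases hq with rfl | rfl
    · refine ⟨⟨B.ha, B.sa.symm⟩, B.aa, ?_⟩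
      simpa [nf, pw] using B.nf_outside (j := true) (l := false) (Or.inl rfl) false false
    · refine ⟨⟨B.hb, B.sb.symm⟩, B.bb, ?_⟩
      simpa [nf, pw] using B.nf_outside (j := false) (l := true) (Or.inr rfl) false false
  refine ⟨?_, ?_, by rw [show k * q * k⁻¹ * (k * q * k⁻¹) = k * (q * q) * k⁻¹ by group, hq2]; group,
    by simpa [mul_assoc] using hA.1, fun h => hout (B.k_inE kz ks h)⟩
  · have := (Commute.conj_iff k).mpr hA.2
    rwa [ks] at this
  · have := (Commute.conj_iff k).mpr (c.z_comm hA.1)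
    rwa [kz] at this

theorem k_sq_Q (kz : k * z * k⁻¹ = B.s) (ks : k * B.s * k⁻¹ = z) :
    Commute (k * k) z ∧ Commute (k * k) B.s := by
  constructor
  · show k * k * z = z * (k * k)
    calc k * k * z = k * (k * z * k⁻¹) * k⁻¹ * (k * k) := by group
      _ = _ := by rw [kz, ks]
  · show k * k * B.s = B.s * (k * k)
    calc k * k * B.s = k * (k * B.s * k⁻¹) * k⁻¹ * (k * k) := by group
      _ = _ := by rw [ks, kz]

theorem noncomm {r p y e : G} (hp : p ∈ c.Q) (hrr : r * r = 1) (hxp : Commute B.x p) (hrx : r * B.x * r = B.x * y)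
    (hy : y = 1 ∨ y = z) (hre : r * p * r = e * p) (he : e = B.s ∨ e = z * B.s) : z = 1 := by
  have h : B.x * y * (e * p) = e * p * (B.x * y) := by
    rw [← hrx, ← hre, show r * B.x * r * (r * p * r) = r * B.x * (r * r) * p * r by group,
      show r * p * r * (r * B.x * r) = r * p * (r * r) * B.x * r by group, hrr, mul_one, mul_one,
      mul_assoc r B.x p, hxp.eq, ← mul_assoc]
  have hzc : ∀ w ∈ c.Q, Commute z w := fun w hw => (c.z_comm hw).symm
  have h2 : B.x * e * p = e * B.x * p := by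
    rcases hy with ey | ey <;> rw [ey] at h
    · rw [mul_one, ← mul_assoc] at h
      rw [h, mul_assoc, ← hxp.eq, ← mul_assoc]
    · have he' : Commute z e := by
        rcases he with e1 | e1 <;> rw [e1]
        exacts [hzc _ B.hs, (Commute.refl z).mul_right (hzc _ B.hs)]
      rw [mul_assoc B.x, ← mul_assoc z, he'.eq, show B.x * (e * z * p) = B.x * e * (z * p) by group,
        show e * p * (B.x * z) = e * (p * B.x) * z by group, ← hxp.eq,
        show e * (B.x * p) * z = e * B.x * (p * z) by group] at h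
      rw [(hzc _ hp).eq] at h
      simpa [← mul_assoc] using h
  have h3 : B.x * B.s = B.s * B.x := by
    rcases he with rfl | rfl
    · exact mul_right_cancel h2
    · have := mul_right_cancel h2
      rw [← mul_assoc, (c.z_comm B.hx).eq, mul_assoc, mul_assoc] at this
      exact mul_left_cancel this
  rw [B.xs] at h3
  exact mul_eq_right.mp h3

variable [Finite G] (kz : k * z * k⁻¹ = B.s) (ks : k * B.s * k⁻¹ = z)
include kz ks

theorem comm_inE {r p : G} (hr : B.Mover k r) (hp : B.InA p) : B.InE (r * p * r * p⁻¹) := by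
  have hri := inv_self hr.rr
  have h1 : r * p * r⁻¹ ∈ c.Q := c.norm hr.rz hp.1
  rw [hri] at h1
  refine B.meet_cases kz ks (mul_mem h1 (inv_mem hp.1)) ?_
  have hs' : k⁻¹ * B.s * k = z := kinv_z kz
  have hpz : Commute (k⁻¹ * p * k) z := by
    have h := (Commute.conj_iff k⁻¹).mpr hp.2
    rw [inv_inv, hs'] at h
    exact h
  rw [show k⁻¹ * (r * p * r * p⁻¹) * k = k⁻¹ * r * k * (k⁻¹ * p * k * (k⁻¹ * r * k) * (k⁻¹ * p * k)⁻¹) by group]
  exact mul_mem hr.mem (c.norm hpz hr.mem)

theorem conj_inA {r p : G} (hr : B.Mover k r) (hp : B.InA p) : ∃ e, B.InE e ∧ r * p * r = e * p :=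
  ⟨_, B.comm_inE kz ks hr hp, by group⟩

theorem mover_shift {r : G} (hr : B.Mover k r) :
    B.InA (B.x * r * B.x * r) ∧ ¬ B.InE (B.x * r * B.x * r) ∧
      B.x * r * B.x * r * (B.x * (B.x * r * B.x * r)) = B.x⁻¹ := by
  have hri := inv_self hr.rr
  have hmem : B.x * r * B.x * r ∈ c.Q := by
    have := mul_mem B.hx (c.norm hr.rz B.hx)
    rwa [hri, show B.x * (r * B.x * r) = B.x * r * B.x * r by group] at this
  have hxs' : r * B.x * r * B.s = z * (B.s * (r * B.x * r)) := by
    calc r * B.x * r * B.s = r * B.x * (r * B.s) := by group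
      _ = r * (B.x * B.s) * r := by rw [hr.rs.eq]; group
      _ = r * z * (B.s * B.x) * r := by rw [B.xs]; group
      _ = z * (r * B.s) * B.x * r := by rw [hr.rz.eq]; group
      _ = z * (B.s * (r * B.x * r)) := by rw [hr.rs.eq]; group
  have hcom : Commute (B.x * r * B.x * r) B.s := by
    show B.x * r * B.x * r * B.s = B.s * (B.x * r * B.x * r)
    calc B.x * r * B.x * r * B.s = B.x * (r * B.x * r * B.s) := by group
      _ = B.x * z * B.s * (r * B.x * r) := by rw [hxs']; group
      _ = z * (B.x * B.s) * (r * B.x * r) := by rw [(c.z_comm B.hx).eq]; group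
      _ = z * z * (B.s * B.x * (r * B.x * r)) := by rw [B.xs]; group
      _ = _ := by rw [c.zz]; group
  have hsq : B.x * r * B.x * r * (B.x * (B.x * r * B.x * r)) = B.x⁻¹ := by
    rw [show B.x * (B.x * r * B.x * r) = B.x * B.x * (r * B.x * r) by group, B.xx, one_mul,
      show B.x * r * B.x * r * (r * B.x * r) = B.x * r * B.x * (r * r) * B.x * r by group, hr.rr, mul_one,
      mul_assoc (B.x * r), B.xx, mul_one, mul_assoc, hr.rr, mul_one, inv_self B.xx]
  refine ⟨⟨hmem, hcom⟩, fun hE => ?_, hsq⟩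
  have hyx : B.x * r * B.x * r = 1 ∨ B.x * r * B.x * r = z := by
    have hxx' : r * B.x * r * (r * B.x * r) = 1 := by
      rw [show r * B.x * r * (r * B.x * r) = r * B.x * (r * r) * B.x * r by group, hr.rr, mul_one,
        mul_assoc r, B.xx, mul_one, hr.rr]
    rcases hE with e | e | e | e
    · exact Or.inl e
    · exact Or.inr e
    all_goals
      exfalso
      have hw : r * B.x * r = B.x * (B.x * r * B.x * r) := by simp [← mul_assoc, B.xx]
      rw [hw, e] at hxx'
      refine c.X.ne ?_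
    · rw [← hxx', show B.x * B.s * (B.x * B.s) = B.x * B.s * B.x * B.s by group, B.xs,
        show z * (B.s * B.x) * B.x * B.s = z * (B.s * (B.x * B.x) * B.s) by group, B.xx, mul_one, B.ss, mul_one]
    · rw [← hxx', show B.x * (z * B.s) * (B.x * (z * B.s)) = (B.x * z) * B.s * (B.x * z) * B.s by group,
        (c.z_comm B.hx).eq, show z * B.x * B.s * (z * B.x) * B.s = z * ((B.x * B.s) * z) * B.x * B.s by group,
        (c.z_comm (mul_mem B.hx B.hs)).eq, show z * (z * (B.x * B.s)) * B.x * B.s = z * z * ((B.x * B.s) * B.x * B.s) by group,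
        c.zz, one_mul, B.xs, show z * (B.s * B.x) * B.x * B.s = z * (B.s * (B.x * B.x) * B.s) by group, B.xx, mul_one,
        B.ss, mul_one]
  have hrx : r * B.x * r = B.x * (B.x * r * B.x * r) := by simp [← mul_assoc, B.xx]
  refine hr.out ?_
  refine B.meet_cases kz ks (B.act_trivial hr.rz (Or.inl (by rw [hr.rs.eq]; group)) ?_ ?_ ?_) hr.mem
  · rw [hri, hrx]
    rcases hyx with e | e <;> rw [e]
    · exact Or.inl (mul_one _)
    · exact Or.inr (c.z_comm B.hx).eq
  all_goals rw [hri]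
  on_goal 1 => obtain ⟨e, he, hre⟩ := B.conj_inA kz ks hr (show B.InA B.a from ⟨B.ha, B.sa.symm⟩)
  on_goal 2 => obtain ⟨e, he, hre⟩ := B.conj_inA kz ks hr (show B.InA B.b from ⟨B.hb, B.sb.symm⟩)
  all_goals
    rw [hre]
    rcases he with rfl | rfl | rfl | rfl
    · exact Or.inl (one_mul _)
    · exact Or.inr rfl
    all_goals exfalso
  all_goals
    refine c.X.ne ?_
  all_goals
    first
      | exact B.noncomm B.ha hr.rr B.xa hrx hyx hre (Or.inl rfl)
      | exact B.noncomm B.ha hr.rr B.xa hrx hyx hre (Or.inr rfl)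
      | exact B.noncomm B.hb hr.rr B.xb hrx hyx hre (Or.inl rfl)
      | exact B.noncomm B.hb hr.rr B.xb hrx hyx hre (Or.inr rfl)

end Basis

end Cfsg.Lib.UFourThreeType
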