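import Cfsg.Agent.UFourThreeCover.Field
import Cfsg.Agent.S2150
import Cfsg.Agent.S0283
import Cfsg.Agent.S5513
import Mathlib.GroupTheory.FixedPointFree
import Mathlib.GroupTheory.Transfer

/-!
Subgroups of odd order and at least 2835 elements with an involutory automorphism inverting as many.
-/

set_option autoImplicit false
set_option linter.style.haveILetI false

namespace Cfsg.Lib.UFourThreeType

open Subgroup
open Cfsg.Lib.UFourThreeCover (K card_K card_psu)

/-- The inverted elements and the fixed ones fit in the group. -/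
theorem inverted_fixed {D : Type*} [Group D] [Finite D] (hodd : Odd (Nat.card D)) (ψ : D →* D) :
    Nat.card {d : D // ψ d = d⁻¹} * Nat.card {d : D // ψ d = d} ≤ Nat.card D := by
  rw [← Nat.card_prod]
  refine Nat.card_le_card_of_injective (fun p => p.1.1 * p.2.1) ?_
  rintro ⟨⟨i, hi⟩, ⟨c, hc⟩⟩ ⟨⟨j, hj⟩, ⟨e, he⟩⟩ h
  simp only at h
  have h1 : j⁻¹ * i = e * c⁻¹ := by rw [eq_mul_inv_iff_mul_eq, mul_assoc, h, inv_mul_cancel_left]
  have h2 : j * i⁻¹ = j⁻¹ * i := by
    have := congrArg ψ h1
    rw [map_mul, map_mul, map_inv, map_inv, hi, hj, hc, he, inv_inv] at this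
    exact this.trans h1.symm
  have h3 : j ^ 2 = i ^ 2 := by
    calc j ^ 2 = j * (j * i⁻¹) * i := by rw [sq]; group
      _ = j * (j⁻¹ * i) * i := by rw [h2]
      _ = i ^ 2 := by rw [sq]; group
  have h4 : j = i := (powCoprime (Nat.Coprime.symm (Nat.coprime_two_left.mpr hodd))).injective h3
  subst h4
  have : c = e := mul_left_cancel h
  subst this
  rfl

/-- The count of the subgroups of order seven. -/
theorem seven_count (D : Subgroup (Cfsg.PSU 4 K 3)) (X : Subgroup (Cfsg.PSU 4 K 3)) (hX : Nat.card X = 7)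
    (hXD : X ≤ D) : ∃ N, (N = 7 ∨ N = 21) ∧ N ∣ Nat.card D ∧ Nat.card D / N % 7 = 1 := by
  haveI : Fact (Nat.Prime 7) := ⟨by norm_num⟩
  haveI : Finite (Cfsg.PSU 4 K 3) := Nat.finite_of_card_ne_zero (by rw [card_psu]; norm_num)
  have hD : Nat.card D ∣ 3265920 := card_psu ▸ card_subgroup_dvd_card D
  have hc : Nat.card (X.subgroupOf D) = 7 := by rw [Nat.card_congr (subgroupOfEquivOfLe hXD).toEquiv, hX]
  have hv : (Nat.card D).factorization 7 = 1 := by
    have h7 : 7 ∣ Nat.card D := hX ▸ card_dvd_of_le hXD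
    have h49 : ¬ 7 ^ 2 ∣ Nat.card D := fun h => by
      have := h.trans hD
      norm_num at this
    refine le_antisymm ?_ ((Nat.Prime.dvd_iff_one_le_factorization (by norm_num) Nat.card_pos.ne').1 h7)
    by_contra hlt
    exact h49 (((Nat.Prime.pow_dvd_iff_le_factorization (by norm_num) Nat.card_pos.ne').2 (by omega)))
  let S : Sylow 7 D := Sylow.ofCard (X.subgroupOf D) (by rw [hc, hv, pow_one])
  set N := Nat.card (normalizer (S : Set D)) with hN
  have hidx : N * Nat.card (Sylow 7 D) = Nat.card D := by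
    rw [S.card_eq_index_normalizer]; exact card_mul_index _
  refine ⟨N, ?_, Dvd.intro _ hidx, ?_⟩
  · have h7 : 7 ∣ N := by
      rw [← hc]
      exact card_dvd_of_le (H := X.subgroupOf D) le_normalizer
    have hle : (normalizer (S : Set D)).map D.subtype ≤ normalizer (X : Set (Cfsg.PSU 4 K 3)) := by
      refine le_trans (le_normalizer_map (H := (S : Subgroup D)) D.subtype) ?_
      rw [show (S : Subgroup D) = X.subgroupOf D from rfl, subgroupOf_map_subtype, inf_eq_left.mpr hXD]
    have h21 := card_dvd_of_le hle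
    rw [card_map_of_injective D.subtype_injective, (Cfsg.Agent.S5513.result K card_K X hX).1] at h21
    have := Nat.le_of_dvd (by norm_num) h21
    obtain ⟨m, hm⟩ := h7
    have : m ≤ 3 := by omega
    rw [← hN, hm] at h21
    rw [hm]
    interval_cases m <;> revert h21 <;> decide
  · have := card_sylow_modEq_one 7 D
    rw [Nat.ModEq] at this
    rw [← hidx, Nat.mul_div_cancel_left _ Nat.card_pos, this]

/-- There is no commutative subgroup of order 3645. -/
theorem no_abelian (D : Subgroup (Cfsg.PSU 4 K 3)) (hD : Nat.card D = 3645) (hab : ∀ a b : D, a * b = b * a) :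
    False := by
  haveI : Fact (Nat.Prime 5) := ⟨by norm_num⟩
  haveI : Finite (Cfsg.PSU 4 K 3) := Nat.finite_of_card_ne_zero (by rw [card_psu]; norm_num)
  obtain ⟨⟨g, hgD⟩, hg⟩ := exists_prime_orderOf_dvd_card' 5 (show 5 ∣ Nat.card D by rw [hD]; norm_num)
  rw [Subgroup.orderOf_mk] at hg
  have hv : (Nat.card (Cfsg.PSU 4 K 3)).factorization 5 = 1 := by
    rw [card_psu, show 3265920 = 5 ^ 1 * 653184 by norm_num, Nat.factorization_mul (by norm_num) (by norm_num),
      Nat.Prime.factorization_pow (by norm_num)]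
    simp [Nat.factorization_eq_zero_of_not_dvd (show ¬ 5 ∣ 653184 by norm_num)]
  let Y : Sylow 5 (Cfsg.PSU 4 K 3) := Sylow.ofCard (zpowers g) (by rw [Nat.card_zpowers, hg, hv, pow_one])
  have hgen : ∀ y ∈ zpowers g, ∀ d ∈ D, d * y = y * d := fun y hy d hd =>
    congrArg Subtype.val (hab ⟨d, hd⟩ ⟨y, zpowers_le.mpr hgD hy⟩)
  have hDC : D ≤ centralizer (zpowers g : Set (Cfsg.PSU 4 K 3)) := fun d hd => by
    rw [mem_centralizer_iff]
    exact fun y hy => (hgen y hy d hd).symm
  have hDN : D ≤ normalizer (Y : Set (Cfsg.PSU 4 K 3)) :=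
    hDC.trans (Subgroup.centralizer_le_normalizer _)
  have hne : normalizer (Y : Set (Cfsg.PSU 4 K 3)) ≠ ⊤ := fun h => by
    haveI := Cfsg.Agent.S0283.result (F := K) (q := 3) card_K 4 (by norm_num) (by norm_num)
    have hn : (zpowers g).Normal := normalizer_eq_top_iff.1 h
    rcases IsSimpleGroup.eq_bot_or_eq_top_of_normal _ hn with e | e
    · have := congrArg (fun H : Subgroup _ => Nat.card H) e
      simp [Nat.card_zpowers, hg] at this
    · have := congrArg (fun H : Subgroup _ => Nat.card H) e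
      simp [Nat.card_zpowers, hg, card_psu] at this
  have hmul := card_mul_index (normalizer (Y : Set (Cfsg.PSU 4 K 3)))
  rw [card_psu, ← Y.card_eq_index_normalizer] at hmul
  have hmin : 112 ≤ Nat.card (Sylow 5 (Cfsg.PSU 4 K 3)) := by
    rw [Y.card_eq_index_normalizer]
    exact (Cfsg.Agent.S2150.result (F := K) 3 (by rw [card_K]; norm_num) (by norm_num)).1 _ hne
  obtain ⟨m, hm⟩ : 3645 ∣ Nat.card (normalizer (Y : Set (Cfsg.PSU 4 K 3))) := hD ▸ card_dvd_of_le hDN
  have hmod := card_sylow_modEq_one 5 (Cfsg.PSU 4 K 3)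
  rw [Nat.ModEq] at hmod
  rw [hm, show 3265920 = 3645 * 896 by norm_num, mul_assoc, mul_right_inj' (by norm_num : (3645 : ℕ) ≠ 0)] at hmul
  have hm8 : m ≤ 8 := by nlinarith
  have hm1 : m = 1 := by
    interval_cases m <;> omega
  have hN : normalizer (Y : Set (Cfsg.PSU 4 K 3)) = D := by
    refine (eq_of_le_of_card_ge hDN ?_).symm
    rw [hm, hm1, hD]
  have hNC : normalizer (Y : Set (Cfsg.PSU 4 K 3)) ≤ centralizer (Y : Set (Cfsg.PSU 4 K 3)) := by
    rw [hN]; exact hDC
  have hcomp := MonoidHom.ker_transferSylow_isComplement' Y hNC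
  haveI := Cfsg.Agent.S0283.result (F := K) (q := 3) card_K 4 (by norm_num) (by norm_num)
  rcases IsSimpleGroup.eq_bot_or_eq_top_of_normal _ (MonoidHom.normal_ker (MonoidHom.transferSylow Y hNC)) with e | e
  · have := hcomp.card_mul
    rw [e, card_bot, one_mul, card_psu, show (Y : Subgroup (Cfsg.PSU 4 K 3)) = zpowers g from rfl, Nat.card_zpowers,
      hg] at this
    norm_num at this
  · have := hcomp.card_mul
    rw [e, card_top, card_psu, show (Y : Subgroup (Cfsg.PSU 4 K 3)) = zpowers g from rfl, Nat.card_zpowers, hg] at this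
    norm_num at this

theorem not_big (D : Subgroup (Cfsg.PSU 4 K 3)) (hodd : Odd (Nat.card D)) (hbig : 2835 ≤ Nat.card D)
    (hab : Nat.card D < 8505 → ∀ a b : D, a * b = b * a) : False := by
  haveI : Finite (Cfsg.PSU 4 K 3) := Nat.finite_of_card_ne_zero (by rw [card_psu]; norm_num)
  haveI : Fact (Nat.Prime 7) := ⟨by norm_num⟩
  have hd : Nat.card D ∣ 25515 := by
    refine Nat.Coprime.dvd_of_dvd_mul_left (k := Nat.card D) (m := 128) ?_ ?_
    · exact Nat.Coprime.pow_right 7 (Nat.Coprime.symm (Nat.coprime_two_left.mpr hodd))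
    · have := card_psu ▸ card_subgroup_dvd_card D
      norm_num; exact this
  obtain ⟨e, he⟩ := hd
  have hcases : Nat.card D = 2835 ∨ Nat.card D = 3645 ∨ Nat.card D = 5103 ∨ Nat.card D = 8505 ∨
      Nat.card D = 25515 := by
    have : e ≤ 9 := by nlinarith
    interval_cases e <;> omega
  by_cases h45 : Nat.card D = 3645
  · exact no_abelian D h45 (hab (by omega))
  have h7 : 7 ∣ Nat.card D := by omega
  obtain ⟨⟨g, hgD⟩, hg⟩ := exists_prime_orderOf_dvd_card' 7 h7
  rw [Subgroup.orderOf_mk] at hg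
  have hX : Nat.card (zpowers g) = 7 := by rw [Nat.card_zpowers, hg]
  by_cases h03 : Nat.card D = 5103
  · have hDC : D ≤ centralizer (zpowers g : Set (Cfsg.PSU 4 K 3)) := fun d hd => by
      rw [mem_centralizer_iff]
      exact fun y hy => congrArg Subtype.val (hab (by omega) ⟨y, zpowers_le.mpr hgD hy⟩ ⟨d, hd⟩)
    rw [(Cfsg.Agent.S5513.result K card_K _ hX).2] at hDC
    have := card_le_of_le hDC
    omega
  obtain ⟨N, hN, -, h1⟩ := seven_count D _ hX (zpowers_le.mpr hgD)
  rcases hN with rfl | rfl <;> omega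

end Cfsg.Lib.UFourThreeType
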