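import Cfsg.Agent.UFourThreeType.Centre

/-!
The element exchanging the two commuting involutions, normalised.
-/

set_option autoImplicit false
set_option maxRecDepth 100000
set_option maxHeartbeats 1000000
set_option linter.style.haveILetI false
set_option linter.unusedSectionVars false

namespace Cfsg.Lib.UFourThreeType

open Subgroup Cfsg.Lib.CosetCert

universe u

/-- Two words commute in the table. -/
def commW (v w : List ℕ) : Bool := row (v ++ w) == row (w ++ v)

/-- The words of the four-group. -/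
def eW : List (List ℕ) := [[], [0], [1], [0, 1]]

/-- The rows fixing the point. -/
def rowsT : List ℕ := (List.range 1152).filter fun i => commW (cw i) [1]

/-- Substitution of words for letters. -/
def subst (σ : ℕ → List ℕ) (w : List ℕ) : List ℕ := (w.map σ).flatten

/-- The images of the letters under the element composed of the transvection and the exchange. -/
def sig (A R B T : List ℕ) (l : ℕ) : List ℕ :=
  if l = 0 then [0, 1] else if l = 1 then [0] else if l = 2 then A else if l = 5 then R else if l = 3 then B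
  else if l = 6 then T else []

/-- A candidate image of a letter is realised inside the point stabiliser. -/
def realised (σ : ℕ → List ℕ) (ls : List ℕ) : Bool :=
  rowsT.any fun i => ls.all fun l => row (cw i ++ [l]) == row (subst σ (subst σ (σ l)) ++ cw i)

theorem T_conj : (rowsT.all fun i => [2, 3, 5, 6].all fun l => eW.any fun e =>
    row (cw i ++ [l] ++ (cw i).reverse) == row ([l] ++ e)) = true := by decide +kernel

theorem sum_b : (eW.all fun e => eW.all fun e' =>
    !realised (sig [3, 6] ([3] ++ e) [2, 5] ([2] ++ e')) [2]) = true := by decide +kernel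

theorem sum_a : (eW.all fun e => eW.all fun e' =>
    (!realised (sig [2, 5] ([2] ++ e) [3, 6] ([3] ++ e')) [2, 5] || e == []) &&
    (!realised (sig [2, 5] ([2] ++ e) [3, 6] ([3] ++ e')) [3, 6] || e' == [])) = true := by decide +kernel

theorem cube_fix : ([2, 3, 5, 6].all fun l =>
    row (subst (sig [2, 5] [2] [3, 6] [3]) (subst (sig [2, 5] [2] [3, 6] [3]) (sig [2, 5] [2] [3, 6] [3] l))) ==
      row [l]) = true := by decide +kernel

theorem T_centre : ((List.range 1152).all fun i =>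
    !([1, 2, 3, 5, 6].all fun l => commW (cw i) [l]) || eW.any fun e => row e == i) = true := by decide +kernel

theorem eW_lt : (eW.all fun e => e.all fun l => decide (l < 9)) = true := by decide +kernel

variable {G : Type u} [Group G] [Finite G] {z : G}

namespace Sys

variable (S : Sys z)

theorem mem_T {g : G} (hz : Commute g z) (hs : Commute g S.B.s) : ∃ i ∈ rowsT, g = S.ev (cw i) := by
  obtain ⟨i, hi, rfl⟩ := S.mem_C hz
  refine ⟨i, List.mem_filter.2 ⟨List.mem_range.2 hi, ?_⟩, rfl⟩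
  have hw := (cw_lt hi).1
  rw [commW, beq_iff_eq, ← S.ev_iff (by simpa [or_imp, forall_and] using hw) (by simpa [or_imp, forall_and] using hw),
    ev_append, ev_append]
  have h1 : S.ev [1] = S.B.s := by simp [ev, wval, im]
  rw [h1]
  exact hs.eq

theorem eW_mem {e : List ℕ} (he : e ∈ eW) : ∀ l ∈ e, l < 9 := fun l hl =>
  decide_eq_true_eq.mp (List.all_eq_true.1 (List.all_eq_true.1 eW_lt e he) l hl)

theorem ev_one : S.ev [] = 1 := by simp [ev, wval]

theorem ev_single (l : ℕ) : S.ev [l] = S.im l := by simp [ev, wval]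

theorem T_image {g : G} (hz : Commute g z) (hs : Commute g S.B.s) {l : ℕ} (hl : l ∈ [2, 3, 5, 6]) :
    ∃ e ∈ eW, g * S.im l * g⁻¹ = S.ev ([l] ++ e) := by
  obtain ⟨i, hi, rfl⟩ := S.mem_T hz hs
  have h := List.all_eq_true.1 (List.all_eq_true.1 T_conj i hi) l hl
  obtain ⟨e, he, he'⟩ := List.any_eq_true.1 h
  refine ⟨e, he, ?_⟩
  have hw := (cw_lt (List.mem_range.1 (List.mem_filter.1 hi).1)).1
  have hl9 : l < 9 := by simp at hl; omega
  rw [← S.ev_single, ← S.ev_reverse hw, ← ev_append, ← ev_append]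
  refine S.ev_eq ?_ ?_ (beq_iff_eq.1 he') <;> intro m hm <;>
    simp only [List.mem_append, List.mem_reverse, List.mem_singleton] at hm
  · rcases hm with (hm | rfl) | hm
    exacts [hw m hm, hl9, hw m hm]
  · rcases hm with rfl | hm
    exacts [hl9, eW_mem he m hm]

variable {k : G}

theorem map_subst {f : G →* G} {σ : ℕ → List ℕ} : ∀ {w : List ℕ}, (∀ l ∈ w, f (S.im l) = S.ev (σ l)) →
    f (S.ev w) = S.ev (subst σ w)
  | [], _ => by simp [ev, wval, subst]
  | a :: w, h => by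
    have := map_subst (f := f) (σ := σ) (w := w) fun l hl => h l (by simp [hl])
    rw [show S.ev (a :: w) = S.im a * S.ev w by simp [ev, wval], map_mul, this, h a (by simp)]
    rw [show subst σ (a :: w) = σ a ++ subst σ w by simp [subst], ev_append]

theorem realised_of (kz : k * z * k⁻¹ = S.B.s) (ks : k * S.B.s * k⁻¹ = z) {A R B T : List ℕ}
    (hA : ∀ l ∈ A, l ∈ [0, 1, 2, 3, 5, 6]) (hR : ∀ l ∈ R, l ∈ [0, 1, 2, 3, 5, 6])
    (hB : ∀ l ∈ B, l ∈ [0, 1, 2, 3, 5, 6]) (hT : ∀ l ∈ T, l ∈ [0, 1, 2, 3, 5, 6])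
    (ha : S.B.x * (k * S.B.a * k⁻¹) * S.B.x⁻¹ = S.ev A) (hr : S.B.x * (k * S.r * k⁻¹) * S.B.x⁻¹ = S.ev R)
    (hb : S.B.x * (k * S.B.b * k⁻¹) * S.B.x⁻¹ = S.ev B) (ht : S.B.x * (k * S.t * k⁻¹) * S.B.x⁻¹ = S.ev T) :
    (∀ ls : List ℕ, (∀ l ∈ ls, l ∈ [2, 3, 5, 6]) → realised (sig A R B T) ls = true) ∧
      Commute (S.B.x * k * (S.B.x * k) * (S.B.x * k)) z ∧ Commute (S.B.x * k * (S.B.x * k) * (S.B.x * k)) S.B.s ∧
      ∀ l ∈ [2, 3, 5, 6], S.B.x * k * (S.B.x * k) * (S.B.x * k) * S.im l * (S.B.x * k * (S.B.x * k) * (S.B.x * k))⁻¹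
        = S.ev (subst (sig A R B T) (subst (sig A R B T) (sig A R B T l))) := by
  set w := S.B.x * k with hw
  obtain ⟨f, hf⟩ : ∃ f : G →* G, ∀ p, f p = w * p * w⁻¹ := ⟨(MulAut.conj w).toMonoidHom, fun p => rfl⟩
  have xi := inv_self S.B.xx
  have base : ∀ p : G, f p = S.B.x * (k * p * k⁻¹) * S.B.x⁻¹ := fun p => by rw [hf, hw]; group
  have fz : f z = S.ev [0, 1] := by
    rw [base, kz, xi, S.B.xs, mul_assoc z, mul_assoc S.B.s, S.B.xx, mul_one]
    simp [ev, wval, im]
  have fs : f S.B.s = S.ev [0] := by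
    rw [base, ks, (S.c.z_comm S.B.hx).eq, mul_inv_cancel_right]
    simp [ev, wval, im]
  have hall : ∀ l ∈ [0, 1, 2, 3, 5, 6], f (S.im l) = S.ev (sig A R B T l) := by
    intro l hl
    simp only [List.mem_cons, List.not_mem_nil, or_false] at hl
    rcases hl with rfl | rfl | rfl | rfl | rfl | rfl
    exacts [fz, fs, (base _).trans ha, (base _).trans hb, (base _).trans hr, (base _).trans ht]
  have hsig : ∀ m ∈ [0, 1, 2, 3, 5, 6], ∀ l ∈ sig A R B T m, l ∈ [0, 1, 2, 3, 5, 6] := by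
    intro m hm l hl
    simp only [List.mem_cons, List.not_mem_nil, or_false] at hm
    rcases hm with rfl | rfl | rfl | rfl | rfl | rfl <;> simp only [sig] at hl
    exacts [by simp at hl; rcases hl with rfl | rfl <;> simp, by simp at hl; simp [hl], hA l hl, hB l hl, hR l hl,
      hT l hl]
  have hsub : ∀ v : List ℕ, (∀ l ∈ v, l ∈ [0, 1, 2, 3, 5, 6]) →
      ∀ l ∈ subst (sig A R B T) v, l ∈ [0, 1, 2, 3, 5, 6] := by
    intro v hv l hl
    simp only [subst, List.mem_flatten, List.mem_map] at hl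
    obtain ⟨_, ⟨m, hm, rfl⟩, hl⟩ := hl
    exact hsig m (hv m hm) l hl
  have cube : ∀ p, w * w * w * p * (w * w * w)⁻¹ = f (f (f p)) := fun p => by rw [hf, hf, hf]; group
  have wz : w * w * w * z * (w * w * w)⁻¹ = z := by
    rw [cube, fz, show f (S.ev [0, 1]) = S.ev ([0, 1] ++ [0]) by
      rw [S.map_subst (σ := sig A R B T) (fun l hl => hall l (by simp at hl; rcases hl with rfl | rfl <;> simp))]
      rfl, S.map_subst (σ := sig A R B T) (fun l hl => hall l (by simp at hl; rcases hl with rfl | rfl | rfl <;> simp))]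
    rw [show subst (sig A R B T) ([0, 1] ++ [0]) = [0, 1, 0, 0, 1] from rfl]
    exact (S.ev_eq (v := [0]) (by simp) (by simp) (by decide +kernel)).trans (S.ev_single 0)
  have ws : w * w * w * S.B.s * (w * w * w)⁻¹ = S.B.s := by
    rw [cube, fs, show f (S.ev [0]) = S.ev [0, 1] by rw [S.ev_single]; exact fz,
      S.map_subst (σ := sig A R B T) (fun l hl => hall l (by simp at hl; rcases hl with rfl | rfl <;> simp))]
    rw [show subst (sig A R B T) [0, 1] = [0, 1, 0] from rfl, show S.B.s = S.ev [1] from (S.ev_single 1).symm]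
    exact S.ev_eq (by simp) (by simp) (by decide +kernel)
  have hz3 : Commute (w * w * w) z := mul_inv_eq_iff_eq_mul.mp wz
  have hs3 : Commute (w * w * w) S.B.s := mul_inv_eq_iff_eq_mul.mp ws
  have himg : ∀ l ∈ [2, 3, 5, 6], w * w * w * S.im l * (w * w * w)⁻¹ =
      S.ev (subst (sig A R B T) (subst (sig A R B T) (sig A R B T l))) := fun l hl => by
    have h6 : l ∈ [0, 1, 2, 3, 5, 6] := by simp at hl ⊢; omega
    rw [cube, hall l h6, S.map_subst fun m hm => hall m (hsig l h6 m hm),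
      S.map_subst fun m hm => hall m (hsub _ (hsig l h6) m hm)]
  refine ⟨fun ls hls => ?_, hz3, hs3, himg⟩
  obtain ⟨i, hi, he⟩ := S.mem_T hz3 hs3
  have hw9 := (cw_lt (List.mem_range.1 (List.mem_filter.1 hi).1)).1
  rw [realised, List.any_eq_true]
  refine ⟨i, hi, List.all_eq_true.2 fun l hls' => beq_iff_eq.2 ?_⟩
  have hl := hls l hls'
  have h6 : l ∈ [0, 1, 2, 3, 5, 6] := by simp at hl ⊢; omega
  have hl9 : l < 9 := by simp at hl; omega
  have hi2 := himg l hl
  rw [he, mul_inv_eq_iff_eq_mul, ← S.ev_single, ← ev_append, ← ev_append] at hi2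
  refine (S.ev_iff ?_ ?_).1 hi2 <;> intro m hm <;> simp only [List.mem_append, List.mem_singleton] at hm
  · rcases hm with hm | rfl
    exacts [hw9 m hm, hl9]
  · rcases hm with hm | hm
    · have := hsub _ (hsub _ (hsig l h6)) m hm
      simp at this; omega
    · exact hw9 m hm

/-- The normalised exchange. -/
structure Norm (S : Sys z) (k : G) : Prop where
  kk : k * k = 1
  kz : k * z * k = S.B.s
  ka : k * S.B.a * k = S.r
  kb : k * S.B.b * k = S.t
  cube : S.B.x * k * S.B.x * k * S.B.x * k = 1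

theorem exists_norm : ∃ k, Norm S k := by
  set k := S.k with hk
  have kz := S.kz
  have ks := S.ks
  obtain ⟨h2z, h2s⟩ := S.B.k_sq_Q kz ks
  have p := S.rp
  have xi := inv_self S.B.xx
  have xr : S.B.x * S.r * S.B.x⁻¹ = S.ev [2, 5] := by
    rw [xi, show S.B.x * S.r * S.B.x = S.B.a * S.r from ?_]
    · simp [ev, wval, im]
    calc S.B.x * S.r * S.B.x = S.B.x * (S.r * S.B.x * S.r) * S.r := by
          rw [show S.B.x * (S.r * S.B.x * S.r) * S.r = S.B.x * S.r * S.B.x * (S.r * S.r) by group, p.rr, mul_one]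
      _ = S.B.a * S.r := by rw [p.rx, ← mul_assoc, S.B.xx, one_mul]
  have xt : S.B.x * S.t * S.B.x⁻¹ = S.ev [3, 6] := by
    rw [xi, show S.B.x * S.t * S.B.x = S.B.b * S.t from ?_]
    · simp [ev, wval, im]
    calc S.B.x * S.t * S.B.x = S.B.x * (S.t * S.B.x * S.t) * S.t := by
          rw [show S.B.x * (S.t * S.B.x * S.t) * S.t = S.B.x * S.t * S.B.x * (S.t * S.t) by group, p.tt, mul_one]
      _ = S.B.b * S.t := by rw [p.tx, ← mul_assoc, S.B.xx, one_mul]
  have xlift : ∀ {g : G} {l : ℕ} {e : List ℕ}, (l = 2 ∨ l = 3) → e ∈ eW → g = S.ev ([l] ++ e) →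
      ∃ e' ∈ eW, S.B.x * g * S.B.x⁻¹ = S.ev ([l] ++ e') := by
    intro g l e hl he hg
    have key : ([2, 3].all fun l => eW.all fun e => eW.any fun e' =>
        row ([4] ++ ([l] ++ e) ++ [4]) == row ([l] ++ e')) = true := by decide +kernel
    obtain ⟨e', he', h⟩ := List.any_eq_true.1 (List.all_eq_true.1 (List.all_eq_true.1 key l (by
      rcases hl with rfl | rfl <;> simp)) e he)
    refine ⟨e', he', ?_⟩
    have h4 : S.ev [4] = S.B.x := S.ev_single 4
    rw [xi, hg, ← h4, ← ev_append, ← ev_append]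
    refine S.ev_eq ?_ ?_ (beq_iff_eq.1 h) <;> intro m hm <;>
      simp only [List.mem_append, List.mem_singleton] at hm
    · rcases hm with (rfl | (rfl | hm)) | rfl
      exacts [by omega, by omega, eW_mem he m hm, by omega]
    · rcases hm with rfl | hm
      exacts [by omega, eW_mem he' m hm]
  have mem6 : ∀ {e : List ℕ}, e ∈ eW → ∀ {l : ℕ}, (l = 2 ∨ l = 3) → ∀ m ∈ [l] ++ e, m ∈ [0, 1, 2, 3, 5, 6] := by
    intro e he l hl m hm
    simp only [eW, List.mem_cons, List.not_mem_nil, or_false] at he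
    rcases he with rfl | rfl | rfl | rfl <;> rcases hl with rfl | rfl <;> simp at hm ⊢ <;> omega
  have m25 : ∀ m ∈ [2, 5], m ∈ [0, 1, 2, 3, 5, 6] := by simp
  have m36 : ∀ m ∈ [3, 6], m ∈ [0, 1, 2, 3, 5, 6] := by simp
  obtain ⟨ea, hea, hka⟩ := S.T_image h2z h2s (l := 2) (by simp)
  obtain ⟨eb, heb, hkb⟩ := S.T_image h2z h2s (l := 3) (by simp)
  have kk2 : ∀ q : G, k * (k * q * k⁻¹) * k⁻¹ = k * k * q * (k * k)⁻¹ := fun q => by group
  rcases p.conj with ⟨hr, ht⟩ | ⟨hr, ht⟩
  swap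
  · exfalso
    obtain ⟨e1, he1, h1⟩ := xlift (g := k * S.r * k⁻¹) (Or.inr rfl) heb (by rw [hr, kk2]; exact hkb)
    obtain ⟨e2, he2, h2⟩ := xlift (g := k * S.t * k⁻¹) (Or.inl rfl) hea (by rw [ht, kk2]; exact hka)
    have h := (S.realised_of kz ks (A := [3, 6]) (R := [3] ++ e1) (B := [2, 5]) (T := [2] ++ e2) m36
      (mem6 he1 (Or.inr rfl)) m25 (mem6 he2 (Or.inl rfl)) (by rw [← ht]; exact xt) h1 (by rw [← hr]; exact xr) h2).1
      [2] (by simp)
    have h' := List.all_eq_true.1 (List.all_eq_true.1 sum_b e1 he1) e2 he2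
    rw [h] at h'
    simp at h'
  obtain ⟨e1, he1, h1⟩ := xlift (g := k * S.r * k⁻¹) (Or.inl rfl) hea (by rw [hr, kk2]; exact hka)
  obtain ⟨e2, he2, h2⟩ := xlift (g := k * S.t * k⁻¹) (Or.inr rfl) heb (by rw [ht, kk2]; exact hkb)
  obtain ⟨hreal, -, -, -⟩ := S.realised_of kz ks (A := [2, 5]) (R := [2] ++ e1) (B := [3, 6]) (T := [3] ++ e2) m25
    (mem6 he1 (Or.inl rfl)) m36 (mem6 he2 (Or.inr rfl)) (by rw [← hr]; exact xr) h1 (by rw [← ht]; exact xt) h2
  have h' := List.all_eq_true.1 (List.all_eq_true.1 sum_a e1 he1) e2 he2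
  rw [hreal [2, 5] (by simp), hreal [3, 6] (by simp)] at h'
  simp only [Bool.not_true, Bool.false_or, Bool.and_eq_true, beq_iff_eq] at h'
  obtain ⟨rfl, rfl⟩ := h'
  rw [List.append_nil, ev_single] at h1 h2
  have kr : k * S.r * k⁻¹ = S.B.a := by
    calc k * S.r * k⁻¹ = S.B.x⁻¹ * (S.B.x * (k * S.r * k⁻¹) * S.B.x⁻¹) * S.B.x := by group
      _ = S.B.x⁻¹ * S.B.a * S.B.x := by rw [h1]; rfl
      _ = S.B.a := by rw [xi, S.B.xa.eq, mul_assoc, S.B.xx, mul_one]
  have kt : k * S.t * k⁻¹ = S.B.b := by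
    calc k * S.t * k⁻¹ = S.B.x⁻¹ * (S.B.x * (k * S.t * k⁻¹) * S.B.x⁻¹) * S.B.x := by group
      _ = S.B.x⁻¹ * S.B.b * S.B.x := by rw [h2]; rfl
      _ = S.B.b := by rw [xi, S.B.xb.eq, mul_assoc, S.B.xx, mul_one]
  have central : ∀ g : G, Commute g z → Commute g S.B.s → Commute g S.B.a → Commute g S.B.b → Commute g S.r →
      Commute g S.t → g = 1 ∨ g = z ∨ g = S.B.s ∨ g = z * S.B.s := by
    intro g gz g1 g2 g3 g5 g6
    obtain ⟨i, hi, rfl⟩ := S.mem_C gz
    have hw := (cw_lt hi).1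
    have h := List.all_eq_true.1 T_centre i (List.mem_range.2 hi)
    rw [Bool.or_eq_true, Bool.not_eq_true'] at h
    rcases h with h | h
    · exfalso
      refine Bool.false_ne_true (h.symm.trans (List.all_eq_true.2 fun l hl => ?_))
      have hl9 : l < 9 := by simp at hl; omega
      have hc : Commute (S.ev (cw i)) (S.im l) := by
        simp only [List.mem_cons, List.not_mem_nil, or_false] at hl
        rcases hl with rfl | rfl | rfl | rfl | rfl
        exacts [g1, g2, g3, g5, g6]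
      rw [commW, beq_iff_eq, ← S.ev_iff, ev_append, ev_append, S.ev_single]
      · exact hc.eq
      all_goals intro m hm; simp only [List.mem_append, List.mem_singleton] at hm; rcases hm with hm | hm
      exacts [hw m hm, hm ▸ hl9, hm ▸ hl9, hw m hm]
    · obtain ⟨e, he, h⟩ := List.any_eq_true.1 h
      have : S.ev (cw i) = S.ev e := S.ev_eq hw (eW_mem he) ((cw_lt hi).2.trans (beq_iff_eq.1 h).symm)
      rw [this]
      simp only [eW, List.mem_cons, List.not_mem_nil, or_false] at he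
      rcases he with rfl | rfl | rfl | rfl <;> simp [ev, wval, im]
  have c2 : ∀ {q y : G}, k * q * k⁻¹ = y → k * y * k⁻¹ = q → Commute (k * k) q := fun {q y} h h' => by
    show k * k * q = q * (k * k)
    calc k * k * q = k * (k * q * k⁻¹) * k⁻¹ * (k * k) := by group
      _ = _ := by rw [h, h']
  have hk2 := central _ h2z h2s (c2 hr.symm kr) (c2 ht.symm kt) (c2 kr hr.symm) (c2 kt ht.symm)
  have kcomm : k * (k * k) * k⁻¹ = k * k := by group
  have hcases : k * k = 1 ∨ k * k = z * S.B.s := by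
    rcases hk2 with e | e | e | e
    · exact Or.inl e
    · rw [e, kz] at kcomm; exact absurd kcomm S.B.s_ne.2.1
    · rw [e, ks] at kcomm; exact absurd kcomm.symm S.B.s_ne.2.1
    · exact Or.inr e
  obtain ⟨k', hkk, hkz, hks, hka', hkb', hkr', hkt'⟩ : ∃ k' : G, k' * k' = 1 ∧ k' * z * k'⁻¹ = S.B.s ∧
      k' * S.B.s * k'⁻¹ = z ∧ k' * S.B.a * k'⁻¹ = S.r ∧ k' * S.B.b * k'⁻¹ = S.t ∧ k' * S.r * k'⁻¹ = S.B.a ∧
      k' * S.t * k'⁻¹ = S.B.b := by
    rcases hcases with e | e
    · exact ⟨k, e, kz, ks, hr.symm, ht.symm, kr, kt⟩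
    · have hz' : ∀ q : G, Commute q z → k * z * q * (k * z)⁻¹ = k * q * k⁻¹ := fun q hq => by
        rw [mul_assoc k z q, ← hq.eq]; group
      refine ⟨k * z, ?_, by rw [hz' _ (Commute.refl z), kz], by rw [hz' _ (S.c.z_comm S.B.hs), ks],
        by rw [hz' _ (S.c.z_comm S.B.ha), hr], by rw [hz' _ (S.c.z_comm S.B.hb), ht], by rw [hz' _ p.rz, kr],
        by rw [hz' _ p.tz, kt]⟩
      calc k * z * (k * z) = k * z * k⁻¹ * (k * k) * z := by group
        _ = S.B.s * (z * S.B.s) * z := by rw [kz, e]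
        _ = 1 := by
          rw [← (S.c.z_comm S.B.hs).eq, ← mul_assoc, S.B.ss, one_mul, S.c.zz]
  have ki := inv_self hkk
  obtain ⟨-, w3z, w3s, himg⟩ := S.realised_of hkz hks (A := [2, 5]) (R := [2]) (B := [3, 6]) (T := [3]) m25
    (by simp) m36 (by simp) (by rw [hka']; exact xr) (by rw [hkr', xi, S.B.xa.eq, mul_assoc, S.B.xx, mul_one, ev_single]; rfl)
    (by rw [hkb']; exact xt) (by rw [hkt', xi, S.B.xb.eq, mul_assoc, S.B.xx, mul_one, ev_single]; rfl)
  set w := S.B.x * k' * (S.B.x * k') * (S.B.x * k') with hw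
  have hc : ∀ l ∈ [2, 3, 5, 6], Commute w (S.im l) := fun l hl => by
    have e := himg l hl
    refine mul_inv_eq_iff_eq_mul.mp (e.trans ((S.ev_eq ?_ ?_ ?_).trans (S.ev_single l)))
    · simp only [List.mem_cons, List.not_mem_nil, or_false] at hl
      rcases hl with rfl | rfl | rfl | rfl <;> simp [sig, subst]
    · intro m hm; simp at hm hl; omega
    · exact beq_iff_eq.1 (List.all_eq_true.1 cube_fix l hl)
  have hw3 := central w w3z w3s (hc 2 (by simp)) (hc 3 (by simp)) (hc 5 (by simp)) (hc 6 (by simp))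
  have wcomm : S.B.x * k' * w * (S.B.x * k')⁻¹ = w := by rw [hw]; group
  have uz : S.B.x * k' * z * (S.B.x * k')⁻¹ = z * S.B.s := by
    rw [show S.B.x * k' * z * (S.B.x * k')⁻¹ = S.B.x * (k' * z * k'⁻¹) * S.B.x⁻¹ by group, hkz, xi, S.B.xs,
      mul_assoc z, mul_assoc S.B.s, S.B.xx, mul_one]
  have us : S.B.x * k' * S.B.s * (S.B.x * k')⁻¹ = z := by
    rw [show S.B.x * k' * S.B.s * (S.B.x * k')⁻¹ = S.B.x * (k' * S.B.s * k'⁻¹) * S.B.x⁻¹ by group, hks,
      (S.c.z_comm S.B.hx).eq, mul_inv_cancel_right]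
  refine ⟨k', hkk, ?_, ?_, ?_, ?_⟩
  · rwa [ki] at hkz
  · rwa [ki] at hka'
  · rwa [ki] at hkb'
  · obtain ⟨hs1, hsz, -, hzs⟩ := S.B.s_ne
    rw [show S.B.x * k' * S.B.x * k' * S.B.x * k' = w by rw [hw]; group]
    rcases hw3 with e | e | e | e
    · exact e
    all_goals exfalso; rw [e] at wcomm
    · rw [uz] at wcomm; exact hs1 (mul_eq_left.mp wcomm)
    · rw [us] at wcomm; exact hsz wcomm.symm
    · rw [conj_mul', uz, us] at wcomm
      rw [mul_assoc, (S.c.z_comm S.B.hs).eq, ← mul_assoc, S.c.zz, one_mul] at wcomm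
      exact S.c.X.ne (right_eq_mul.mp wcomm)

end Sys

end Cfsg.Lib.UFourThreeType
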