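import Mathlib.LinearAlgebra.Matrix.SpecialLinearGroup
import Mathlib.Data.ZMod.Basic
import Mathlib.Tactic

/-!
Computations in two copies of the special linear group of degree two over three elements, up to a common sign.
-/

set_option autoImplicit false
set_option maxRecDepth 100000
set_option maxHeartbeats 1000000

namespace Cfsg.Lib.UFourThreeType.Pairs

/-- The group `SL(2, 3)`. -/
abbrev S : Type := Matrix.SpecialLinearGroup (Fin 2) (ZMod 3)

/-- A quaternion. -/
def I : S := ⟨!![0, -1; 1, 0], by decide⟩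

/-- A second quaternion. -/
def J : S := ⟨!![1, 1; 1, -1], by decide⟩

/-- Their product. -/
def Kq : S := I * J

/-- The element minus one. -/
def m : S := ⟨!![-1, 0; 0, -1], by decide⟩

/-- Membership in the quaternion group. -/
abbrev InQ (a : S) : Prop := a * a * (a * a) = 1

theorem m_only : ∀ a : S, a * a = 1 → a = 1 ∨ a = m := by decide +kernel

theorem m_comm : ∀ a : S, a * m = m * a := by decide +kernel

theorem m_sq : m * m = 1 ∧ m ≠ 1 ∧ InQ m := by decide +kernel

theorem inQ_mul : ∀ a b : S, InQ a → InQ b → InQ (a * b) := by decide +kernel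

theorem inQ_conj : ∀ a b : S, InQ b → InQ (a * b * a⁻¹) := by decide +kernel

theorem inQ_comm : ∀ a b : S, InQ (a * b * a⁻¹ * b⁻¹) := by decide +kernel

theorem inQ_comm' : ∀ a b : S, InQ a → InQ b → (a * b * a⁻¹ * b⁻¹ = 1 ∨ a * b * a⁻¹ * b⁻¹ = m) := by decide +kernel

theorem inQ_sq : ∀ a : S, InQ a → (a * a = 1 ∧ (a = 1 ∨ a = m) ∨ a * a = m) := by decide +kernel

theorem two_power : ∀ a : S, a ^ 32 = 1 ∨ a ^ 32 = m → InQ a := by decide +kernel

theorem inQ_inv : ∀ a : S, InQ a → InQ a⁻¹ := by decide +kernel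

theorem conj_I : ∀ a : S, a * a = m → InQ a → ∃ p : S, p * I * p⁻¹ = a := by decide +kernel

theorem cen_Q : ∀ a : S, InQ a → a * I = I * a → a * J = J * a → a = 1 ∨ a = m := by decide +kernel

theorem quat_cases : ∀ a : S, InQ a →
    a ∈ ([1, m, I, I * m, J, J * m, Kq, Kq * m] : List S) := by decide +kernel

theorem quat_card : Nat.card {a : S // InQ a} = 8 := by
  rw [Nat.card_eq_fintype_card]
  decide +kernel

theorem gens : InQ I ∧ InQ J ∧ InQ Kq ∧ I * I = m ∧ J * J = m ∧ Kq * Kq = m := by decide +kernel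

theorem quat_mul : I * J * I⁻¹ * J⁻¹ = m ∧ J * Kq * J⁻¹ * Kq⁻¹ = m ∧ Kq * I * Kq⁻¹ * I⁻¹ = m := by decide +kernel

theorem sl_card : Nat.card S = 24 := by
  rw [Nat.card_eq_fintype_card]
  decide +kernel

theorem no_index_two : ∀ f : S → Fin 2, (∀ a b, f (a * b) = f a + f b) → ∀ a, f a = 0 := by
  intro f hf a
  have key : ∀ a : S, ∃ b c : S, a = b ^ 3 * (b ^ 3) * c ^ 2 ∨ a = b * b * (c * c) := by decide +kernel
  obtain ⟨b, c, h | h⟩ := key a <;> subst h <;> simp only [pow_succ, pow_zero, one_mul, hf] <;>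
    generalize f b = u <;> generalize f c = v <;> revert u v <;> decide

end Cfsg.Lib.UFourThreeType.Pairs
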