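import Cfsg.Agent.UFourThreeType.Local

/-!
The action of the generators of the second extraspecial group on the first one.
-/

set_option autoImplicit false
set_option maxRecDepth 100000
set_option maxHeartbeats 1000000
set_option linter.style.haveILetI false
set_option linter.unusedSectionVars false

namespace Cfsg.Lib.UFourThreeType

open Subgroup

universe u

variable {G : Type u} [Group G] {z : G}

namespace Basis

variable {c : Ctx z} (B : Basis z c.Q)

/-- Exchanging the second hyperbolic pair. -/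
def swapAB : Basis z c.Q where
  s := B.s
  x := B.x
  a := B.b
  b := B.a
  hs := B.hs
  hx := B.hx
  ha := B.hb
  hb := B.ha
  ss := B.ss
  xx := B.xx
  aa := B.bb
  bb := B.aa
  sx := B.sx
  ab := by
    rw [B.ba, show z * (B.a * B.b) * B.b * B.a = z * B.a * (B.b * B.b) * B.a by group, B.bb, mul_one, mul_assoc,
      B.aa, mul_one]
  sa := B.sb
  sb := B.sa
  xa := B.xb
  xb := B.xa
  spans := fun q hq => by
    obtain ⟨e, i, j, k, l, rfl⟩ := B.spans q hq
    refine ⟨xor e (j && l), i, l, k, j, ?_⟩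
    cases j <;> cases l <;> simp [pw]
    · cases k <;> simp [mul_assoc, B.xb.eq]
    · cases k <;> simp [mul_assoc, B.xa.eq]
    · have h : ∀ w : G, Commute w B.a → Commute w B.b → w * B.a = w * B.a := fun _ _ _ => rfl
      have hab : B.a * B.b = z * (B.b * B.a) := by rw [B.ba, ← mul_assoc, c.zz, one_mul]
      have hzs : Commute z (if i = true then B.s else 1) := by
        cases i <;> simp [(c.z_comm B.hs).symm]
      cases e <;> cases k <;> simp [mul_assoc]
      all_goals cases i <;> simp [mul_assoc]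
      all_goals first
        | rw [hab]
        | rw [← mul_assoc B.a B.x, ← B.xa.eq, mul_assoc, hab, ← mul_assoc B.x z, (c.z_comm B.hx).eq,
            mul_assoc z B.x, ← mul_assoc B.x B.b, B.xb.eq, mul_assoc B.b]
      all_goals simp [← mul_assoc, (c.z_comm B.hs).eq, c.zz]

theorem swapAB_InE {g : G} : B.swapAB.InE g ↔ B.InE g := Iff.rfl

theorem swapAB_Mover {k r : G} (h : B.Mover k r) : B.swapAB.Mover k r := ⟨h.rz, h.rs, h.rr, h.mem, h.out⟩

theorem InE.sq {g : G} (h : B.InE g) : g * g = 1 := by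
  rcases h with e | e | e | e <;> rw [e]
  · exact mul_one _
  · exact c.zz
  · exact B.ss
  · rw [mul_assoc, ← mul_assoc B.s, (c.z_comm B.hs).eq, mul_assoc, B.ss, mul_one, c.zz]

theorem InE.comm_a {g : G} (h : B.InE g) : Commute g B.a := by
  rcases h with e | e | e | e <;> rw [e]
  exacts [Commute.one_left _, (c.z_comm B.ha).symm, B.sa, (c.z_comm B.ha).symm.mul_left B.sa]

theorem InE.comm_b {g : G} (h : B.InE g) : Commute g B.b := InE.comm_a B.swapAB h

theorem InE.comm_mover {g k r : G} (h : B.InE g) (hr : B.Mover k r) : Commute r g := by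
  rcases h with e | e | e | e <;> rw [e]
  exacts [Commute.one_right _, hr.rz, hr.rs, hr.rz.mul_right hr.rs]

theorem InE.center_x {g : G} (h : B.InE g) (hx : Commute B.x g) : g = 1 ∨ g = z := by
  rcases h with e | e | e | e
  · exact Or.inl e
  · exact Or.inr e
  all_goals
    exfalso
    subst e
    refine c.X.ne ?_
  · have h2 : B.x * B.s = B.s * B.x := hx
    rw [B.xs] at h2
    exact mul_eq_right.mp h2
  · have h2 : B.x * B.s = B.s * B.x := by
      have := (c.z_comm B.hx).symm.symm.inv_right.mul_right hx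
      rwa [inv_mul_cancel_left] at this
    rw [B.xs] at h2
    exact mul_eq_right.mp h2

theorem ab_ne : B.a * B.b ≠ B.b * B.a := fun h => c.X.ne (by rw [B.ba] at h; exact mul_eq_right.mp h.symm)

variable {k : G} [Finite G] (kz : k * z * k⁻¹ = B.s) (ks : k * B.s * k⁻¹ = z)
include kz ks

theorem mover_x {r : G} (hr : B.Mover k r) :
    r * B.x * r = B.x * (B.x * r * B.x * r) ∧
      r * (B.x * r * B.x * r) * r = (B.x * r * B.x * r)⁻¹ := by
  have h : r * B.x * r = B.x * (B.x * r * B.x * r) := by simp [← mul_assoc, B.xx]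
  refine ⟨h, ?_⟩
  simp only [mul_inv_rev, inv_self hr.rr, inv_self B.xx]
  rw [show r * (B.x * r * B.x * r) * r = r * B.x * r * B.x * (r * r) by group, hr.rr, mul_one]
  group

theorem not_trivial {r y p d : G} (hr : B.Mover k r) (hy : r * B.x * r = B.x * y) (hd : r * p * r = d * p)
    (hd' : d = 1 ∨ d = z) (hxp : Commute B.x p) (hp : p ∈ c.Q) : Commute y p := by
  have h : B.x * y * (d * p) = d * p * (B.x * y) := by
    rw [← hy, ← hd, show r * B.x * r * (r * p * r) = r * B.x * (r * r) * p * r by group,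
      show r * p * r * (r * B.x * r) = r * p * (r * r) * B.x * r by group, hr.rr, mul_one, mul_one,
      mul_assoc r B.x p, hxp.eq, ← mul_assoc]
  have hzx : Commute d B.x := by
    rcases hd' with e | e <;> rw [e]
    exacts [Commute.one_left _, (c.z_comm B.hx).symm]
  have hy' : y ∈ c.Q := by
    have h0 := c.norm hr.rz B.hx
    rw [inv_self hr.rr, hy] at h0
    simpa using mul_mem (inv_mem B.hx) h0
  have hzy : Commute d y := by
    rcases hd' with e | e <;> rw [e]
    exacts [Commute.one_left _, (c.z_comm hy').symm]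
  rw [← mul_assoc, mul_assoc B.x y d, ← hzy.eq, ← mul_assoc B.x d, ← hzx.eq, mul_assoc d, mul_assoc d,
    mul_assoc d p, mul_right_inj] at h
  rw [mul_assoc, ← mul_assoc p, ← hxp.eq, mul_assoc] at h
  exact mul_left_cancel h

/-- The possible values of the pairing. -/
theorem entry_ne_z {r p : G} (hr : B.Mover k r) (hp : p = B.a ∨ p = B.b) :
    r * p * r * p⁻¹ ≠ z := by
  intro hz
  obtain ⟨hA, hout, -⟩ := B.mover_shift kz ks hr
  obtain ⟨hx, hyr⟩ := B.mover_x kz ks hr
  set y := B.x * r * B.x * r with hy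
  obtain ⟨e, he, hcase⟩ := (B.inA_cases hA).resolve_left hout
  have hpx : Commute B.x p := by rcases hp with rfl | rfl; exacts [B.xa, B.xb]
  have hpQ : p ∈ c.Q := by rcases hp with rfl | rfl; exacts [B.ha, B.hb]
  have hd : r * p * r = z * p := mul_inv_eq_iff_eq_mul.mp hz
  have hcom : Commute y p := B.not_trivial kz ks hr hx hd (Or.inr rfl) hpx hpQ
  have red : ∀ {q : G}, y = q * e → Commute e p → Commute q p := fun hq hep => by
    have := hcom.mul_left hep.inv_left
    rwa [hq, mul_inv_cancel_right] at this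
  have hea := he.comm_a B
  have heb := he.comm_b B
  have nab := B.ab_ne
  have hre := he.comm_mover B hr
  have yy1 : (y = B.a * e ∨ y = B.b * e) → r * y * r = y := fun h => by
    rw [hyr, inv_self]
    rcases h with h | h <;> rw [h]
    · rw [show B.a * e * (B.a * e) = B.a * (e * B.a) * e by group, hea.eq, ← mul_assoc, B.aa, one_mul, he.sq B]
    · rw [show B.b * e * (B.b * e) = B.b * (e * B.b) * e by group, heb.eq, ← mul_assoc, B.bb, one_mul, he.sq B]
  have fixed : ∀ {q : G}, y = q * e → r * y * r = y → r * q * r = q := fun {q} hq h => by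
    rw [hq] at h
    calc r * q * r = r * (q * e) * (e⁻¹ * r) := by group
      _ = r * (q * e) * r * e⁻¹ := by rw [← (hre.inv_right).eq]; group
      _ = q := by rw [h]; group
  rcases hcase with h | h | h
  · rcases hp with rfl | rfl
    · have := fixed h (yy1 (Or.inl h))
      rw [hd] at this
      exact c.X.ne (mul_eq_right.mp this)
    · exact nab (red h heb).eq
  · rcases hp with rfl | rfl
    · exact nab (red h hea).eq.symm
    · have := fixed h (yy1 (Or.inr h))
      rw [hd] at this
      exact c.X.ne (mul_eq_right.mp this)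
  · rcases hp with rfl | rfl
    · have h2 := red h hea
      have : B.a * (B.b * B.a) = B.a * (B.a * B.b) := by rw [← mul_assoc]; exact h2.eq
      exact nab (mul_left_cancel this).symm
    · have h2 := red h heb
      have : B.a * B.b * B.b = B.b * B.a * B.b := by rw [mul_assoc B.b]; exact h2.eq
      exact nab (mul_right_cancel this)

theorem entry {q p : G} (hq : q = B.a ∨ q = B.b) (hp : p = B.a ∨ p = B.b) :
    k * q * k⁻¹ * p * (k * q * k⁻¹) * p⁻¹ = 1 ∨ k * q * k⁻¹ * p * (k * q * k⁻¹) * p⁻¹ = z * B.s := by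
  have hr := B.mover kz ks hq
  have hpA : B.InA p := by rcases hp with rfl | rfl; exacts [⟨B.ha, B.sa.symm⟩, ⟨B.hb, B.sb.symm⟩]
  have hpp : p * p = 1 := by rcases hp with rfl | rfl; exacts [B.aa, B.bb]
  rcases B.comm_inE kz ks hr hpA with h | h | h | h
  · exact Or.inl h
  · exact absurd h (B.entry_ne_z kz ks hr hp)
  · exfalso
    obtain ⟨hk2z, hk2s⟩ := B.k_sq_Q kz ks
    set q2 := k * k * q * (k * k)⁻¹ with hq2
    have hqA : B.InA q ∧ q * q = 1 ∧ ¬ B.InE q := by
      refine ⟨by rcases hq with rfl | rfl; exacts [⟨B.ha, B.sa.symm⟩, ⟨B.hb, B.sb.symm⟩],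
        by rcases hq with rfl | rfl; exacts [B.aa, B.bb], fun hE => hr.out ?_⟩
      rcases hE with e | e | e | e <;> rw [e]
      · exact Or.inl (by group)
      · exact Or.inr (Or.inr (Or.inl kz))
      · exact Or.inr (Or.inl ks)
      · refine Or.inr (Or.inr (Or.inr ?_))
        rw [show k * (z * B.s) * k⁻¹ = k * z * k⁻¹ * (k * B.s * k⁻¹) by group, kz, ks, (c.z_comm B.hs).eq]
    have h2A : B.InA q2 := by
      refine ⟨c.norm hk2z hqA.1.1, ?_⟩
      have := (Commute.conj_iff (k * k)).mpr hqA.1.2
      rwa [show k * k * B.s * (k * k)⁻¹ = B.s by rw [hk2s.eq]; group] at this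
    have h2o : ¬ B.InE q2 := fun hE => hqA.2.2 (B.k_inE kz ks (B.k_inE kz ks (g := k * q * k⁻¹) (by
      rwa [show k * (k * q * k⁻¹) * k⁻¹ = q2 by rw [hq2]; group])))
    obtain ⟨e, he, hcase⟩ := (B.inA_cases h2A).resolve_left h2o
    have key : q2 * (k * p * k⁻¹) * q2 * (k * p * k⁻¹) = z := by
      rw [inv_self hpp] at h
      have := congrArg (fun w => k * w * k⁻¹) h
      simp only [ks] at this
      rw [← this, hq2]; group
    have hq22 : q2 * q2 = 1 := by
      rw [hq2, show k * k * q * (k * k)⁻¹ * (k * k * q * (k * k)⁻¹) = k * k * (q * q) * (k * k)⁻¹ by group, hqA.2.1]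
      group
    have hr' := B.mover kz ks hp
    rcases hcase with hh | hh | hh
    case inr.inr => rw [hh, B.ab_sq he] at hq22; exact c.X.ne hq22
    all_goals
      obtain ⟨p2, hp2, hp2e⟩ : ∃ p2, (p2 = B.a ∨ p2 = B.b) ∧ q2 = p2 * e := by
        first
          | exact ⟨_, Or.inl rfl, hh⟩
          | exact ⟨_, Or.inr rfl, hh⟩
      have hep : Commute p2 e := by
        rcases hp2 with rfl | rfl
        exacts [(he.comm_a B).symm, (he.comm_b B).symm]
      have hp22 : p2⁻¹ = p2 := by rcases hp2 with rfl | rfl; exacts [inv_self B.aa, inv_self B.bb]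
      refine B.entry_ne_z kz ks hr' hp2 ?_
      set t := k * p * k⁻¹ with ht
      have hte : Commute t e := he.comm_mover B hr'
      have ee := he.sq B
      rw [hp2e, show p2 * e * t * (p2 * e) * t = p2 * (e * t) * p2 * (e * t) by group, ← hte.eq,
        show p2 * (t * e) * p2 * (t * e) = p2 * t * (e * p2) * t * e by group, ← hep.eq,
        show p2 * t * (p2 * e) * t * e = p2 * t * p2 * (e * t) * e by group, ← hte.eq,
        show p2 * t * p2 * (t * e) * e = p2 * t * p2 * t * (e * e) by group, ee, mul_one] at key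
      have := congrArg (·⁻¹) key
      simp only [mul_inv_rev, hp22, inv_self c.zz, inv_self hr'.rr] at this
      rw [hp22]
      simpa [mul_assoc] using this
  · exact Or.inr h

/-- A generator of the first kind. -/
def IsA (r : G) : Prop :=
  r * B.a * r = B.a ∧ r * B.b * r = z * B.s * B.b ∧ (B.x * r * B.x * r = B.a ∨ B.x * r * B.x * r = z * B.a)

theorem isA_of {r : G} (hr : B.Mover k r) (hb : r * B.b * r * B.b⁻¹ = 1 ∨ r * B.b * r * B.b⁻¹ = z * B.s)
    {e : G} (he : B.InE e) (h : B.x * r * B.x * r = B.a * e) : B.IsA r := by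
  obtain ⟨hx, hyr⟩ := B.mover_x kz ks hr
  have hre := he.comm_mover B hr
  have hea := he.comm_a B
  rw [h] at hx hyr
  have hyy : B.a * e * (B.a * e) = 1 := by
    rw [show B.a * e * (B.a * e) = B.a * (e * B.a) * e by group, hea.eq, ← mul_assoc, B.aa, one_mul, he.sq B]
  rw [inv_self hyy] at hyr
  have ha : r * B.a * r = B.a := by
    calc r * B.a * r = r * (B.a * e) * (e⁻¹ * r) := by group
      _ = r * (B.a * e) * r * e⁻¹ := by rw [← (hre.inv_right).eq]; group
      _ = B.a := by rw [hyr]; group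
  refine ⟨ha, ?_, ?_⟩
  · rcases hb with hb | hb
    · exfalso
      have hd : r * B.b * r = 1 * B.b := mul_inv_eq_iff_eq_mul.mp hb
      have hcm := (B.not_trivial kz ks hr hx hd (Or.inl rfl) B.xb B.hb).mul_left (he.comm_b B).inv_left
      rw [mul_inv_cancel_right] at hcm
      exact B.ab_ne hcm.eq
    · exact mul_inv_eq_iff_eq_mul.mp hb
  · rw [h]
    have h1 : r * B.x * r * (r * B.x * r) = 1 := by
      rw [show r * B.x * r * (r * B.x * r) = r * B.x * (r * r) * B.x * r by group, hr.rr, mul_one, mul_assoc r,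
        B.xx, mul_one, hr.rr]
    rw [hx] at h1
    have hxe : Commute B.x e := by
      show B.x * e = e * B.x
      have h2 : B.x * (B.a * e) * B.x = B.a * e := by
        have := eq_inv_of_mul_eq_one_left (show B.x * (B.a * e) * B.x * (B.a * e) = 1 by rw [← h1]; group)
        rwa [inv_self hyy] at this
      rw [show B.x * (B.a * e) * B.x = B.x * B.a * (e * B.x) by group, B.xa.eq, mul_assoc] at h2
      have h3 : B.x * (e * B.x) = e := mul_left_cancel h2
      calc B.x * e = B.x * (B.x * (e * B.x)) := by rw [h3]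
        _ = e * B.x := by rw [← mul_assoc, B.xx, one_mul]
    rcases he.center_x B hxe with rfl | rfl
    · exact Or.inl (mul_one _)
    · exact Or.inr (c.z_comm B.ha).eq

theorem kind {q : G} (hq : q = B.a ∨ q = B.b) :
    B.IsA (k * q * k⁻¹) ∨ B.swapAB.IsA (k * q * k⁻¹) := by
  have hr := B.mover kz ks hq
  obtain ⟨hA, hout, -⟩ := B.mover_shift kz ks hr
  obtain ⟨e, he, hcase⟩ := (B.inA_cases hA).resolve_left hout
  rcases hcase with h | h | h
  · exact Or.inl (B.isA_of kz ks hr (B.entry kz ks hq (Or.inr rfl)) he h)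
  · exact Or.inr (B.swapAB.isA_of kz ks (B.swapAB_Mover hr) (B.entry kz ks hq (Or.inl rfl)) he h)
  · exfalso
    set r := k * q * k⁻¹ with hrdef
    obtain ⟨hx, hyr⟩ := B.mover_x kz ks hr
    rw [h] at hx hyr
    have nontriv : ∀ {p : G}, (p = B.a ∨ p = B.b) → r * p * r = z * B.s * p := by
      intro p hp
      rcases B.entry kz ks hq hp with hd | hd
      · exfalso
        have hpx : Commute B.x p := by rcases hp with rfl | rfl; exacts [B.xa, B.xb]
        have hpQ : p ∈ c.Q := by rcases hp with rfl | rfl; exacts [B.ha, B.hb]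
        have hep : Commute e p := by rcases hp with rfl | rfl; exacts [he.comm_a B, he.comm_b B]
        have hcm := (B.not_trivial kz ks hr hx (mul_inv_eq_iff_eq_mul.mp hd) (Or.inl rfl) hpx hpQ).mul_left
          hep.inv_left
        rw [mul_inv_cancel_right] at hcm
        rcases hp with rfl | rfl
        · exact B.ab_ne (mul_left_cancel (show B.a * (B.b * B.a) = B.a * (B.a * B.b) by
            rw [← mul_assoc]; exact hcm.eq)).symm
        · exact B.ab_ne (mul_right_cancel (show B.a * B.b * B.b = B.b * B.a * B.b by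
            rw [mul_assoc B.b]; exact hcm.eq))
      · exact mul_inv_eq_iff_eq_mul.mp hd
    have hre := he.comm_mover B hr
    have hzs : B.InE (z * B.s) := Or.inr (Or.inr (Or.inr rfl))
    have h1 : r * (B.a * B.b * e) * r = B.a * B.b * e := by
      calc r * (B.a * B.b * e) * r = r * B.a * (r * r) * B.b * (e * r) := by rw [hr.rr]; group
        _ = r * B.a * r * (r * B.b * r) * e := by rw [← hre.eq]; group
        _ = z * B.s * B.a * (z * B.s * B.b) * e := by rw [nontriv (Or.inl rfl), nontriv (Or.inr rfl)]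
        _ = (z * B.s) * (B.a * (z * B.s)) * B.b * e := by group
        _ = (z * B.s) * (z * B.s) * B.a * B.b * e := by rw [← (hzs.comm_a B).eq]; group
        _ = _ := by rw [hzs.sq B, one_mul]
    rw [h1] at hyr
    have h2 := B.ab_sq he
    rw [eq_inv_iff_mul_eq_one.mp hyr] at h2
    exact c.X.ne h2.symm

theorem same_kind {r t : G} (hr : B.Mover k r) (ht : B.Mover k t) (h1 : B.IsA r) (h2 : B.IsA t) :
    B.InE (r * t) := by
  refine B.meet_cases kz ks (B.act_trivial (hr.rz.mul_left ht.rz)
    (Or.inl (by rw [(hr.rs.mul_left ht.rs).eq]; group)) ?_ ?_ ?_) ?_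
  all_goals try rw [mul_inv_rev, inv_self hr.rr, inv_self ht.rr]
  · obtain ⟨a1, -, x1⟩ := h1
    obtain ⟨-, -, x2⟩ := h2
    have e1 := (B.mover_x kz ks hr).1
    have e2 := (B.mover_x kz ks ht).1
    rw [show r * t * B.x * (t * r) = r * (t * B.x * t) * r by group, e2]
    have hzr : ∀ w, r * (z * w) * r = z * (r * w * r) := fun w => by rw [← mul_assoc r z, hr.rz.eq]; group
    have hzx : B.x * (z * B.a) = z * (B.x * B.a) := by rw [← mul_assoc, (c.z_comm B.hx).eq, mul_assoc]
    have base : r * (B.x * B.a) * r = B.x ∨ r * (B.x * B.a) * r = z * B.x := by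
      rw [show r * (B.x * B.a) * r = r * B.x * (r * r) * B.a * r by rw [hr.rr]; group,
        show r * B.x * (r * r) * B.a * r = r * B.x * r * (r * B.a * r) by group, e1, a1]
      rcases x1 with e | e <;> rw [e]
      · exact Or.inl (by rw [mul_assoc, B.aa, mul_one])
      · exact Or.inr (by rw [hzx, mul_assoc, mul_assoc, B.aa, mul_one])
    rcases x2 with e | e <;> rw [e]
    · exact base
    · rw [hzx, hzr]
      rcases base with b | b <;> rw [b]
      · exact Or.inr rfl
      · exact Or.inl (by rw [← mul_assoc, c.zz, one_mul])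
  · rw [show r * t * B.a * (t * r) = r * (t * B.a * t) * r by group, h2.1, h1.1]
    exact Or.inl rfl
  · rw [show r * t * B.b * (t * r) = r * (t * B.b * t) * r by group, h2.2.1,
      show r * (z * B.s * B.b) * r = r * (z * B.s) * (r * r) * B.b * r by rw [hr.rr]; group,
      show r * (z * B.s) * (r * r) * B.b * r = r * (z * B.s) * r * (r * B.b * r) by group, h1.2.1,
      (hr.rz.mul_right hr.rs).eq, mul_assoc (z * B.s), hr.rr, mul_one]
    exact Or.inl (by rw [← mul_assoc, InE.sq B (Or.inr (Or.inr (Or.inr rfl))), one_mul])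
  · rw [show k⁻¹ * (r * t) * k = k⁻¹ * r * k * (k⁻¹ * t * k) by group]
    exact mul_mem hr.mem ht.mem

theorem two_kinds :
    (B.IsA (k * B.a * k⁻¹) ∧ B.swapAB.IsA (k * B.b * k⁻¹)) ∨
      (B.swapAB.IsA (k * B.a * k⁻¹) ∧ B.IsA (k * B.b * k⁻¹)) := by
  have hr := B.mover kz ks (q := B.a) (Or.inl rfl)
  have ht := B.mover kz ks (q := B.b) (Or.inr rfl)
  have hno : ¬ B.InE (k * B.a * k⁻¹ * (k * B.b * k⁻¹)) := fun h => by
    rw [show k * B.a * k⁻¹ * (k * B.b * k⁻¹) = k * (B.a * B.b) * k⁻¹ by group] at h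
    have := B.nf_outside (j := true) (l := true) (Or.inl rfl) false false
    exact this (by simpa [nf, pw] using B.k_inE kz ks h)
  rcases B.kind kz ks (q := B.a) (Or.inl rfl) with h1 | h1 <;>
    rcases B.kind kz ks (q := B.b) (Or.inr rfl) with h2 | h2
  · exact absurd (B.same_kind kz ks hr ht h1 h2) hno
  · exact Or.inl ⟨h1, h2⟩
  · exact Or.inr ⟨h1, h2⟩
  · exact absurd (B.swapAB.same_kind kz ks (B.swapAB_Mover hr) (B.swapAB_Mover ht) h1 h2) hno

omit [Finite G]

theorem kmul_zs {w : G} (hw : B.InA w) : k * w * z * (k * w)⁻¹ = B.s ∧ k * w * B.s * (k * w)⁻¹ = z := by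
  constructor
  · rw [mul_assoc k, (c.z_comm hw.1).eq, show k * (z * w) * (k * w)⁻¹ = k * z * k⁻¹ by group, kz]
  · rw [mul_assoc k, hw.2.eq, show k * (B.s * w) * (k * w)⁻¹ = k * B.s * k⁻¹ by group, ks]

theorem conj_ab : k * B.b * B.a * (k * B.b)⁻¹ = B.s * (k * B.a * k⁻¹) ∧
    k * B.b * B.b * (k * B.b)⁻¹ = k * B.b * k⁻¹ := by
  refine ⟨?_, by group⟩
  rw [mul_assoc k, B.ba, show k * (z * (B.a * B.b)) * (k * B.b)⁻¹ = k * z * k⁻¹ * (k * B.a * k⁻¹) by group, kz]

end Basis

end Cfsg.Lib.UFourThreeType
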