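import Cfsg.Agent.UFourThreeType.Triangle
import Cfsg.Agent.UFourThreeType.GroupCertCheck

/-!
Elements of order three in the normaliser of an elementary group of order sixteen.
-/

set_option autoImplicit false
set_option maxRecDepth 100000
set_option maxHeartbeats 1000000
set_option linter.style.haveILetI false
set_option linter.unusedSectionVars false

namespace Cfsg.Lib.UFourThreeType

open Subgroup Cfsg.Lib.CosetCert

universe u

/-- The rotation. -/
def rhoW : List ℕ := [4, 3, 9, 7, 3, 9, 4]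
/-- The element exchanging two lines. -/
def jW : List ℕ := [4, 3, 9, 4]

/-- The image of a letter of the elementary group under a letter. -/
def img1 (g l : ℕ) : List ℕ :=
  if g = 9 then [kSwap l] else ((sixteen false).find? fun e => row e == row ([g, l, g])).getD []

/-- The image under a word. -/
def act (w e : List ℕ) : List ℕ := w.foldr (fun g v => subst (img1 g) v) e

/-- The letters normalising the elementary group. -/
def nLetters : List ℕ := [3, 4, 6, 7, 9]

theorem img1_ok : (nLetters.all fun g => g == 9 || (eLetters false).all fun l =>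
    (sixteen false).any fun e => row e == row [g, l, g]) = true := by decide +kernel

theorem swap_side : ((eLetters false).all fun l => (eLetters false).contains (kSwap l)) = true := by decide

theorem act_facts : row (act rhoW [0]) = row [0, 1, 2, 5] ∧ row (act rhoW [0, 1, 2, 5]) = row [1, 2, 5] ∧
    ((eLetters false).all fun l => row (act (rhoW ++ [6, 7] ++ rhoW.reverse ++ [7, 6]) [l]) == row [l]) = true := by
  decide +kernel

theorem only_trivial : ((sixteen false).all fun e => row e == 0 ||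
    !(row (e ++ [6, 7] ++ e ++ [6, 7] ++ e ++ [6, 7]) == 0) || !(row (act jW e) == row (act rhoW.reverse e))) = true := by
  decide +kernel

theorem rho_cube : row [6, 7, 3, 6, 7, 3, 6, 7, 3] = row [] ∧ row [6, 4, 6, 7, 4, 6] = row [6, 7, 3, 6, 7, 3] ∧
    row [4, 3, 6, 7, 3, 3, 4] = row [6, 7] := by decide +kernel

variable {G : Type u} [Group G] {z : G}

/-- The ten letters. -/
def Sys.imK (S : Sys z) (k : G) (n : ℕ) : G := if n = 9 then k else S.im n

theorem Sys.imK_im (S : Sys z) (k : G) {w : List ℕ} (hw : ∀ l ∈ w, l < 9) : wval (S.imK k) w = S.ev w := by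
  unfold wval Sys.ev
  congr 1
  exact List.map_congr_left fun l hl => by rw [Sys.imK, if_neg (by have := hw l hl; omega)]

theorem Sys.imK_inv [Finite G] (S : Sys z) {k : G} (hk : Sys.Norm S k) {l : ℕ} (hl : l < 10) :
    S.imK k l * S.imK k l = 1 := by
  unfold Sys.imK
  split_ifs with h
  · exact hk.kk
  · exact S.inv_letters l hl (by omega)

namespace Sys

variable [Finite G] (S : Sys z) {k : G} (hk : Norm S k)
include hk

/-- The value of a word in the ten letters. -/
theorem act_val : ∀ (w : List ℕ), (∀ g ∈ w, g ∈ nLetters) → ∀ e : List ℕ, (∀ l ∈ e, l ∈ eLetters false) →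
    wval (S.imK k) w * S.ev e * (wval (S.imK k) w)⁻¹ = S.ev (act w e) ∧ ∀ l ∈ act w e, l ∈ eLetters false := by
  intro w
  induction w with
  | nil => intro _ e he; exact ⟨by simp [wval, act], he⟩
  | cons g w ih =>
    intro hw e he
    obtain ⟨h1, h2⟩ := ih (fun x hx => hw x (by simp [hx])) e he
    have hg := hw g (by simp)
    have hg10 : g < 10 := by simp [nLetters] at hg; omega
    have himg : ∀ l ∈ eLetters false, S.imK k g * S.im l * (S.imK k g)⁻¹ = S.ev (img1 g l) ∧
        ∀ m ∈ img1 g l, m ∈ eLetters false := by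
      intro l hl
      unfold img1
      by_cases h9 : g = 9
      · subst h9
        rw [if_pos rfl, show S.imK k 9 = k from if_pos rfl, S.k_letters hk (eLetters_facts false l hl), ev_single]
        exact ⟨rfl, fun m hm => by
          rw [List.mem_singleton] at hm
          exact hm ▸ List.contains_iff_mem.1 (List.all_eq_true.1 swap_side l hl)⟩
      · have hgl : g < 9 := by omega
        rw [if_neg h9, show S.imK k g = S.im g from if_neg h9]
        have hok := List.all_eq_true.1 img1_ok g hg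
        rw [Bool.or_eq_true, beq_iff_eq] at hok
        obtain ⟨e', he', he''⟩ := List.any_eq_true.1 (List.all_eq_true.1 (hok.resolve_left h9) l hl)
        cases hf : (sixteen false).find? fun e => row e == row [g, l, g] with
        | none => exact absurd he'' (by simpa using List.find?_eq_none.1 hf e' he')
        | some e0 =>
          rw [Option.getD_some]
          have hm := sixteen_lt (List.mem_of_find?_eq_some hf)
          refine ⟨?_, hm⟩
          rw [S.ev_eq (fun m hh => eLetters_lt (hm m hh)) (v := [g, l, g]) ?_ (by simpa using List.find?_some hf)]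
          · rw [inv_self (S.inv_letters g hg10 hgl)]
            simp [ev, wval, mul_assoc]
          · intro m hm'
            simp only [List.mem_cons, List.not_mem_nil, or_false] at hm'
            have := eLetters_lt hl
            omega
    have hsub : ∀ l ∈ subst (img1 g) (act w e), l ∈ eLetters false := by
      intro l hl
      simp only [subst, List.mem_flatten, List.mem_map] at hl
      obtain ⟨_, ⟨m, hm, rfl⟩, hl⟩ := hl
      exact (himg m (h2 m hm)).2 l hl
    refine ⟨?_, by rw [act, List.foldr_cons]; exact hsub⟩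
    rw [act, List.foldr_cons, show List.foldr (fun g v => subst (img1 g) v) e w = act w e from rfl,
      ← S.map_subst (f := (MulAut.conj (S.imK k g)).toMonoidHom) (σ := img1 g) fun l hl => (himg l (h2 l hl)).1, ← h1,
      show wval (S.imK k) (g :: w) = S.imK k g * wval (S.imK k) w by simp [wval]]
    simp only [MulEquiv.coe_toMonoidHom, MulAut.conj_apply]
    group

/-- The facts about the two elements. -/
theorem side_elements :
    wval (S.imK k) rhoW * S.ev [6, 7] = S.ev [6, 7] * wval (S.imK k) rhoW ∧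
      wval (S.imK k) rhoW * wval (S.imK k) rhoW * wval (S.imK k) rhoW = 1 ∧
      wval (S.imK k) rhoW * z * (wval (S.imK k) rhoW)⁻¹ = S.ev [0, 1, 2, 5] ∧
      wval (S.imK k) rhoW * S.ev [0, 1, 2, 5] * (wval (S.imK k) rhoW)⁻¹ = S.ev [1, 2, 5] ∧
      wval (S.imK k) jW * S.ev [6, 7] * (wval (S.imK k) jW)⁻¹ = wval (S.imK k) rhoW * wval (S.imK k) rhoW ∧
      wval (S.imK k) jW * wval (S.imK k) rhoW * (wval (S.imK k) jW)⁻¹ = S.ev [6, 7] := by
  have kmul : ∀ p q : List ℕ, wval (S.imK k) (p ++ q) = wval (S.imK k) p * wval (S.imK k) q := fun p q => by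
    simp [wval, List.map_append, List.prod_append]
  have krev : ∀ {p : List ℕ}, (∀ l ∈ p, l < 10) → wval (S.imK k) p.reverse = (wval (S.imK k) p)⁻¹ := fun hp =>
    wval_reverse (S.imK k) fun l hl => S.imK_inv hk (hp l hl)
  set ρ := wval (S.imK k) rhoW with hρ
  set j := wval (S.imK k) jW with hj
  set τ := S.ev [6, 7] with hτ
  have b1 : S.B.b * k = k * S.t := by
    rw [← hk.kb, ← mul_assoc, ← mul_assoc, hk.kk, one_mul]
  have tk : k * S.t * k = S.B.b := by
    rw [← hk.kb, show k * (k * S.B.b * k) * k = k * k * S.B.b * (k * k) by group, hk.kk, one_mul, mul_one]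
  have eρ : ρ = S.B.x * k * S.ev [6, 7, 3] * k * S.B.x := by
    simp [hρ, rhoW, wval, imK, im, ev]
    simp only [← mul_assoc]
    rw [mul_assoc S.B.x S.B.b k, b1]
    group
  have ej : j = S.B.x * k * S.t * S.B.x := by
    simp [hj, jW, wval, imK, im]
    simp only [← mul_assoc]
    rw [mul_assoc S.B.x S.B.b k, b1]
    group
  have xx := S.B.xx
  have kk := hk.kk
  have sand : ∀ p q : G, S.B.x * k * p * k * S.B.x * (S.B.x * k * q * k * S.B.x) = S.B.x * k * (p * q) * k * S.B.x := by
    intro p q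
    calc S.B.x * k * p * k * S.B.x * (S.B.x * k * q * k * S.B.x)
        = S.B.x * k * p * k * (S.B.x * S.B.x) * k * q * k * S.B.x := by group
      _ = S.B.x * k * p * (k * k) * q * k * S.B.x := by rw [xx]; group
      _ = _ := by rw [kk]; group
  have lt9 : ∀ {p : List ℕ}, (p.all fun l => decide (l < 9)) = true → ∀ l ∈ p, l < 9 := fun h l hl =>
    decide_eq_true_eq.mp (List.all_eq_true.1 h l hl)
  have ρ3 : ρ * ρ * ρ = 1 := by
    rw [eρ, sand, sand, show S.ev [6, 7, 3] * S.ev [6, 7, 3] * S.ev [6, 7, 3] = S.ev [6, 7, 3, 6, 7, 3, 6, 7, 3] by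
      rw [← ev_append, ← ev_append]; rfl, S.ev_eq (lt9 (by decide)) (lt9 (by decide)) rho_cube.1, ev_one, mul_one,
      mul_assoc S.B.x k k, kk, mul_one, xx]
  have ρi : ρ⁻¹ = ρ * ρ := inv_eq_of_mul_eq_one_right (by rw [← mul_assoc]; exact ρ3)
  have jτ : j * τ * j⁻¹ = ρ * ρ := by
    rw [eρ, sand, show S.ev [6, 7, 3] * S.ev [6, 7, 3] = S.ev [6, 7, 3, 6, 7, 3] by rw [← ev_append]; rfl,
      ← S.ev_eq (lt9 (by decide)) (lt9 (by decide)) rho_cube.2.1, ej]
    simp [hτ, ev, wval, im, inv_self kk, inv_self xx, inv_self S.rp.tt, mul_assoc]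
  have jρ : j * ρ * j⁻¹ = τ := by
    rw [hτ, ← S.ev_eq (lt9 (by decide)) (lt9 (by decide)) rho_cube.2.2, eρ, ej]
    calc S.B.x * k * S.t * S.B.x * (S.B.x * k * S.ev [6, 7, 3] * k * S.B.x) * (S.B.x * k * S.t * S.B.x)⁻¹
        = S.B.x * k * S.t * (S.B.x * S.B.x) * k * S.ev [6, 7, 3] * k * (S.B.x * S.B.x⁻¹) * S.t⁻¹ * k⁻¹ * S.B.x⁻¹ := by
          group
      _ = S.B.x * (k * S.t * k) * S.ev [6, 7, 3] * (k * S.t * k) * S.B.x := by
          rw [xx, mul_inv_cancel, inv_self kk, inv_self xx, inv_self S.rp.tt]; group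
      _ = _ := by rw [tk]; simp [ev, wval, im, mul_assoc]
  have memE : ∀ {p : List ℕ}, (p.all fun l => (eLetters false).contains l) = true → ∀ l ∈ p, l ∈ eLetters false :=
    fun h l hl => List.contains_iff_mem.1 (List.all_eq_true.1 h l hl)
  have memN : ∀ {p : List ℕ}, (p.all fun l => nLetters.contains l) = true → ∀ l ∈ p, l ∈ nLetters :=
    fun h l hl => List.contains_iff_mem.1 (List.all_eq_true.1 h l hl)
  have evrow : ∀ {p q : List ℕ}, (∀ l ∈ p, l ∈ eLetters false) → (∀ l ∈ q, l ∈ eLetters false) → row p = row q →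
      S.ev p = S.ev q := fun hp hq h =>
    S.ev_eq (fun l hl => eLetters_lt (hp l hl)) (fun l hl => eLetters_lt (hq l hl)) h
  obtain ⟨fz, fa, ftriv⟩ := act_facts
  have hz : ρ * z * ρ⁻¹ = S.ev [0, 1, 2, 5] := by
    obtain ⟨h1, h2⟩ := S.act_val hk rhoW (memN (by decide)) [0] (memE (by decide))
    rw [S.ev_single] at h1
    exact h1.trans (evrow h2 (memE (by decide)) fz)
  have ha : ρ * S.ev [0, 1, 2, 5] * ρ⁻¹ = S.ev [1, 2, 5] := by
    obtain ⟨h1, h2⟩ := S.act_val hk rhoW (memN (by decide)) [0, 1, 2, 5] (memE (by decide))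
    exact h1.trans (evrow h2 (memE (by decide)) fa)
  refine ⟨?_, ρ3, hz, ha, jτ, jρ⟩
  have hw : wval (S.imK k) (rhoW ++ [6, 7] ++ rhoW.reverse ++ [7, 6]) = ρ * τ * ρ⁻¹ * τ⁻¹ := by
    rw [kmul, kmul, kmul, krev (by decide), S.imK_im k (w := [6, 7]) (by decide), S.imK_im k (w := [7, 6]) (by decide),
      hτ, ← S.ev_reverse (w := [6, 7]) (by decide)]
    rfl
  obtain ⟨e, he, hev⟩ := S.cent_side false (g := ρ * τ * ρ⁻¹ * τ⁻¹) fun l hl => by
    refine mul_inv_eq_iff_eq_mul.mp ?_
    obtain ⟨h1, h2⟩ := S.act_val hk (rhoW ++ [6, 7] ++ rhoW.reverse ++ [7, 6]) (memN (by decide)) [l] (by simpa using hl)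
    rw [hw, S.ev_single] at h1
    rw [h1, ← S.ev_single]
    exact evrow h2 (by simpa using hl) (beq_iff_eq.1 (List.all_eq_true.1 ftriv l hl))
  have hem := sixteen_lt he
  have he9 : ∀ l ∈ e, l < 9 := fun l hl => eLetters_lt (hem l hl)
  have h := List.all_eq_true.1 only_trivial e he
  simp only [Bool.or_eq_true, Bool.not_eq_true', beq_iff_eq, beq_eq_false_iff_ne] at h
  have hτ3 : τ * τ * τ = 1 := by
    rw [hτ, ← ev_append, ← ev_append, ← ev_one S]
    exact S.ev_eq (lt9 (by decide)) (by simp) (by decide +kernel)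
  rcases h with (h | h) | h
  · rw [S.ev_eq he9 (v := []) (by simp) h, ev_one, mul_inv_eq_one, mul_inv_eq_iff_eq_mul] at hev
    exact hev
  · refine absurd ?_ h
    have hlt : ∀ l ∈ e ++ [6, 7] ++ e ++ [6, 7] ++ e ++ [6, 7], l < 9 := by
      intro l hl
      simp only [List.mem_append, List.mem_cons, List.not_mem_nil, or_false] at hl
      rcases hl with ((((hl | hl) | hl) | hl) | hl) | hl
      exacts [he9 l hl, by omega, he9 l hl, by omega, he9 l hl, by omega]
    refine (S.ev_iff hlt (v := []) (by simp)).1 ?_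
    simp only [ev_append, ev_one, ← hev, ← hτ]
    calc ρ * τ * ρ⁻¹ * τ⁻¹ * τ * (ρ * τ * ρ⁻¹ * τ⁻¹) * τ * (ρ * τ * ρ⁻¹ * τ⁻¹) * τ
        = ρ * (τ * τ * τ) * ρ⁻¹ := by group
      _ = 1 := by rw [hτ3, mul_one, mul_inv_cancel]
  · refine absurd ?_ h
    obtain ⟨h1, h2⟩ := S.act_val hk jW (memN (by decide)) e hem
    obtain ⟨h3, h4⟩ := S.act_val hk rhoW.reverse (memN (by decide)) e hem
    refine (S.ev_iff (fun l hl => eLetters_lt (h2 l hl)) (fun l hl => eLetters_lt (h4 l hl))).1 ?_
    rw [← h1, ← h3, krev (by decide), ← hρ, ← hj, ← hev,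
      show j * (ρ * τ * ρ⁻¹ * τ⁻¹) * j⁻¹ = j * ρ * j⁻¹ * (j * τ * j⁻¹) * (j * ρ * j⁻¹)⁻¹ * (j * τ * j⁻¹)⁻¹ by group,
      jρ, jτ, ← ρi]
    group

end Sys

end Cfsg.Lib.UFourThreeType
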