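import Cfsg.Agent.UFourThreeType.SideAction
import Cfsg.Agent.Coprime.Generation
import Mathlib.GroupTheory.Transfer
import Mathlib.GroupTheory.Sylow

/-!
The centraliser of an element of order three contains a commuting pair which is not visible in the local subgroups.
-/

set_option autoImplicit false
set_option maxRecDepth 100000
set_option maxHeartbeats 1000000
set_option linter.style.haveILetI false
set_option linter.unusedSectionVars false

namespace Cfsg.Lib.UFourThreeType

open Subgroup Cfsg.Lib.CosetCert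

universe u

/-- The element of order three. -/
def tauW : List ℕ := [6, 7]
/-- The commuting element of order three. -/
def cW : List ℕ := [1, 2, 8, 5]
/-- The involution inverting the second one. -/
def aW : List ℕ := [0, 1, 2, 5]
/-- The rows of the group of order nine. -/
def p9 : List ℕ :=
  [[], tauW, tauW ++ tauW, cW, tauW ++ cW, tauW ++ tauW ++ cW, cW ++ cW, tauW ++ cW ++ cW,
    tauW ++ tauW ++ cW ++ cW].map row

/-- A word conjugated by the word of a row, as a row. -/
def cjRow (i : ℕ) (w : List ℕ) : ℕ := row (cw i ++ w ++ (cw i).reverse)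

theorem cent_check : ((List.range 1152).all fun i => !(commW (cw i) tauW && commW (cw i) cW) ||
    (p9.contains i || p9.any fun q => row (cw q ++ [0]) == i)) = true := by decide +kernel

theorem inv_check : ((List.range 1152).all fun i => !(commW (cw i) tauW && commW (cw i) cW && row (cw i ++ cw i) == 0) ||
    i == 0 || i == row [0]) = true := by decide +kernel

theorem two_check : ((List.range 1152).all fun i =>
    !(commW (cw i) tauW && commW (cw i) cW && row ((cw i ++ cw i) ++ (cw i ++ cw i)) == 0) ||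
    row (cw i ++ cw i) == 0) = true := by decide +kernel

theorem norm_check : ((List.range 1152).all fun i => !(p9.contains (cjRow i tauW) && p9.contains (cjRow i cW)) ||
    ((cjRow i tauW == row tauW || cjRow i tauW == row (tauW ++ tauW)) &&
      (!(row ((List.replicate 9 (cw i)).flatten) == 0) || p9.contains i))) = true := by decide +kernel

theorem odd_check : ((List.range 1152).all fun i =>
    !(commW (cw i) tauW && row ((List.replicate 9 (cw i)).flatten) == 0) || p9.contains i) = true := by decide +kernel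

theorem fix_check : ((List.range 1152).all fun i =>
    !(p9.contains i && commW (cw i) aW) || [0, row tauW, row (tauW ++ tauW)].contains i) = true := by decide +kernel

theorem p9_checks : (p9.all fun p => decide (p < 1152) &&
      (p9.all fun q => p9.contains (row (cw p ++ cw q))) && p9.contains (row (cw p).reverse) &&
      commW (cw p) tauW && commW (cw p) cW && row ((List.replicate 3 (cw p)).flatten) == 0) = true ∧
    p9.Nodup ∧ row (aW ++ tauW ++ aW ++ tauW.reverse) = 0 ∧ row (aW ++ cW ++ aW ++ cW) = 0 ∧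
    row (aW ++ aW) = 0 ∧ row (aW ++ [0] ++ aW ++ [0]) = 0 ∧ ¬ row aW = row [0] := by decide +kernel

theorem cert_shapes : GroupCert.cert.ng = 10 ∧
    (GroupCert.rels.take 54 = CentreCert.rels ++ [[9, 9], [9, 0, 9, 1], [9, 2, 9, 5], [9, 3, 9, 6], [4, 9, 4, 9, 4, 9],
      [9, 7, 9, 7, 9, 7, 9, 7, 9, 7], (List.replicate 8 [9, 3, 7]).flatten,
      [9, 8, 9, 8, 9, 8, 9, 8, 9, 8], (List.replicate 8 [9, 2, 8]).flatten]) ∧
    GroupCert.rels.drop 54 = [cW ++ ([4, 3, 9, 7, 3, 9, 4] ++ cW ++ [4, 9, 3, 7, 9, 3, 4]) ++ cW.reverse ++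
      ([4, 3, 9, 7, 3, 9, 4] ++ cW.reverse ++ [4, 9, 3, 7, 9, 3, 4])] := by
  decide +kernel

variable {G : Type u} [Group G] {z : G}

theorem wval_flatten {H : Type*} [Group H] (im : ℕ → H) (w : List ℕ) : ∀ n : ℕ,
    wval im (List.replicate n w).flatten = wval im w ^ n
  | 0 => by simp [wval]
  | n + 1 => by
    rw [List.replicate_succ, List.flatten_cons, pow_succ', ← wval_flatten im w n]
    simp [wval, List.map_append, List.prod_append]

theorem Sys.base_rels [Finite G] (S : Sys z) {k : G} (hk : Sys.Norm S k) :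
    ∀ r ∈ GroupCert.rels.take 54, wval (S.imK k) r = 1 := by
  intro r hr
  rw [cert_shapes.2.1] at hr
  rcases List.mem_append.1 hr with hr | hr
  · rw [S.imK_im k fun l hl => ?_]
    · exact S.centre_rels r hr
    · exact decide_eq_true_eq.mp (List.all_eq_true.1 (List.all_eq_true.1 cert_facts.2.2.2 r hr) l hl)
  · obtain ⟨h5, h8, h5', h8'⟩ := S.triangles hk
    simp only [pow_succ, pow_zero, one_mul, ← mul_assoc] at h5 h5'
    have hc := hk.cube
    have e : ∀ {p q : G}, k * p * k = q → q * q = 1 → k * p * k * q = 1 := fun {p q} h hq => by rw [h, hq]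
    simp only [List.mem_cons, List.not_mem_nil, or_false] at hr
    rcases hr with rfl | rfl | rfl | rfl | rfl | rfl | rfl | rfl | rfl
    all_goals first
      | (rw [wval_flatten]
         first
           | (simpa [wval, Sys.imK, Sys.im] using h8)
           | (simpa [wval, Sys.imK, Sys.im] using h8'))
      | (simp [wval, Sys.imK, Sys.im, ← mul_assoc]
         first
           | exact hk.kk
           | exact e hk.kz S.B.ss
           | exact e hk.ka S.rp.rr
           | exact e hk.kb S.rp.tt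
           | exact hc
           | exact h5
           | exact h5')

namespace Sys

variable [Finite G] (S : Sys z) {k : G} (hk : Norm S k)
include hk

/-- The commuting pair. -/
theorem three_relation : wval (S.imK k)
    (cW ++ ([4, 3, 9, 7, 3, 9, 4] ++ cW ++ [4, 9, 3, 7, 9, 3, 4]) ++ cW.reverse ++
      ([4, 3, 9, 7, 3, 9, 4] ++ cW.reverse ++ [4, 9, 3, 7, 9, 3, 4])) = 1 := by
  classical
  haveI : Fact (Nat.Prime 2) := ⟨Nat.prime_two⟩
  haveI : Fact (Nat.Prime 3) := ⟨Nat.prime_three⟩
  set τ := S.ev tauW with hτ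
  set c := S.ev cW with hc
  set a := S.ev aW with ha
  set ρ := wval (S.imK k) rhoW with hρ
  set j := wval (S.imK k) jW with hj
  have tlt : ∀ l ∈ tauW, l < 9 := by decide
  have clt : ∀ l ∈ cW, l < 9 := by decide
  have alt : ∀ l ∈ aW, l < 9 := by decide
  have ez : S.ev [0] = z := S.ev_single 0
  obtain ⟨ρτ, ρ3, ρz, ρa0, jτ, jρ⟩ := S.side_elements hk
  have zia : S.ev [1, 2, 5] = z * a := by
    have h1 : S.ev [1, 2, 5] = S.ev ([0] ++ aW) := S.ev_eq (by decide) (by decide) (by decide +kernel)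
    rw [h1, ev_append, ez]
  have ρa : ρ * a * ρ⁻¹ = z * a := ρa0.trans zia
  replace ρz : ρ * z * ρ⁻¹ = a := ρz
  replace ρτ : ρ * τ = τ * ρ := ρτ
  replace ρ3 : ρ * ρ * ρ = 1 := ρ3
  replace jτ : j * τ * j⁻¹ = ρ * ρ := jτ
  replace jρ : j * ρ * j⁻¹ = τ := jρ
  obtain ⟨hp9, hnod, p_aτ, p_ac, p_aa, p_az, p_az'⟩ := p9_checks
  simp only [List.all_eq_true, Bool.and_eq_true, decide_eq_true_eq, List.contains_iff_mem, beq_iff_eq, commW] at hp9
  have row_lt : ∀ {p}, p ∈ p9 → p < 1152 := fun hp => (hp9 _ hp).1.1.1.1.1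
  let val : ℕ → G := fun i => S.ev (cw i)
  have vlt : ∀ {i}, i < 1152 → ∀ l ∈ cw i, l < 9 := fun hi => (cw_lt hi).1
  have alt2 : ∀ {u v : List ℕ}, (∀ l ∈ u, l < 9) → (∀ l ∈ v, l < 9) → ∀ l ∈ u ++ v, l < 9 := fun hu hv l hl => by
    rcases List.mem_append.1 hl with hl | hl
    exacts [hu l hl, hv l hl]
  have revlt : ∀ {u : List ℕ}, (∀ l ∈ u, l < 9) → ∀ l ∈ u.reverse, l < 9 := fun hu l hl => hu l (List.mem_reverse.1 hl)
  have mrow : ∀ {w : List ℕ}, (∀ l ∈ w, l < 9) → row w < 1152 := fun {w} hw => by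
    have := (S.sat.go_zero (w := w) (by rw [cert_facts.1]; exact hw)).1
    rwa [cert_facts.2.1] at this
  have valrow : ∀ {w : List ℕ}, (∀ l ∈ w, l < 9) → val (row w) = S.ev w := fun hw =>
    S.ev_eq (vlt (mrow hw)) hw (cw_lt (mrow hw)).2
  have comm_row : ∀ {i} {w : List ℕ}, i < 1152 → (∀ l ∈ w, l < 9) →
      (Commute (val i) (S.ev w) ↔ row (cw i ++ w) = row (w ++ cw i)) := fun {i w} hi hw => by
    rw [← S.ev_iff (alt2 (vlt hi) hw) (alt2 hw (vlt hi)), ev_append, ev_append]
    rfl
  have flatlt : ∀ {i} (n : ℕ), i < 1152 → ∀ l ∈ (List.replicate n (cw i)).flatten, l < 9 := fun n hi l hl => by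
    obtain ⟨u, hu, hl⟩ := List.mem_flatten.1 hl
    rw [(List.mem_replicate.1 hu).2] at hl
    exact vlt hi l hl
  have pow_row : ∀ {i} (n : ℕ), i < 1152 → (val i ^ n = 1 ↔ row (List.replicate n (cw i)).flatten = 0) := by
    intro i n hi
    show S.ev (cw i) ^ n = 1 ↔ _
    rw [show S.ev (cw i) ^ n = S.ev (List.replicate n (cw i)).flatten from (wval_flatten S.im (cw i) n).symm,
      ← S.ev_one, S.ev_iff (flatlt n hi) (by simp)]
    rfl
  have v0 : val 0 = 1 := (valrow (w := []) (by simp)).trans S.ev_one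
  -- the group of order nine
  let P0 : Subgroup G :=
    { carrier := {g | ∃ p ∈ p9, val p = g}
      one_mem' := ⟨0, by decide +kernel, v0⟩
      mul_mem' := by
        rintro _ _ ⟨p, hp, rfl⟩ ⟨q, hq, rfl⟩
        refine ⟨_, (hp9 p hp).1.1.1.1.2 q hq, ?_⟩
        rw [valrow (alt2 (vlt (row_lt hp)) (vlt (row_lt hq))), ev_append]
      inv_mem' := by
        rintro _ ⟨p, hp, rfl⟩
        refine ⟨_, (hp9 p hp).1.1.1.2, ?_⟩
        rw [valrow (revlt (vlt (row_lt hp))), S.ev_reverse (vlt (row_lt hp))] }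
  have τP : τ ∈ P0 := ⟨row tauW, by decide +kernel, valrow tlt⟩
  have cP : c ∈ P0 := ⟨row cW, by decide +kernel, valrow clt⟩
  have P0card : Nat.card P0 = 9 := by
    have hb : Function.Bijective (fun p : {p // p ∈ p9} => (⟨val p.1, p.1, p.2, rfl⟩ : P0)) :=
      ⟨fun p q h => Subtype.ext (S.cw_inj (row_lt p.2) (row_lt q.2) (congrArg Subtype.val h)),
        fun g => by obtain ⟨p, hp, e⟩ := g.2; exact ⟨⟨p, hp⟩, Subtype.ext e⟩⟩
    rw [← Nat.card_eq_of_bijective _ hb, Nat.card_eq_fintype_card, Fintype.card_of_subtype p9.toFinset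
      (fun x => List.mem_toFinset), List.toFinset_card_of_nodup hnod]
    rfl
  have P0comm : ∀ g ∈ P0, Commute g τ ∧ Commute g c := by
    rintro _ ⟨p, hp, rfl⟩
    exact ⟨(comm_row (row_lt hp) tlt).2 (hp9 p hp).1.1.2, (comm_row (row_lt hp) clt).2 (hp9 p hp).1.2⟩
  have P0pow : ∀ g ∈ P0, g ^ 3 = 1 := by
    rintro _ ⟨p, hp, rfl⟩
    exact (pow_row 3 (row_lt hp)).2 (hp9 p hp).2
  set W := centralizer ({τ, c} : Set G) with hW
  have memW : ∀ {g}, g ∈ W ↔ Commute g τ ∧ Commute g c := fun {g} => by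
    rw [hW, mem_centralizer_iff]
    simp only [Set.mem_insert_iff, Set.mem_singleton_iff, forall_eq_or_imp, forall_eq]
    exact ⟨fun h => ⟨h.1.symm, h.2.symm⟩, fun h => ⟨h.1.eq.symm, h.2.eq.symm⟩⟩
  have inC : ∀ {g}, g ∈ W → Commute g z → (g ∈ P0 ∨ g * z ∈ P0) := by
    intro g hg hgz
    obtain ⟨i, hi, rfl⟩ := S.mem_C hgz
    obtain ⟨h1, h2⟩ := memW.1 hg
    have h := List.all_eq_true.1 cent_check i (List.mem_range.2 hi)
    simp only [commW, (comm_row hi tlt).1 h1, (comm_row hi clt).1 h2, beq_self_eq_true, Bool.and_self, Bool.not_true,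
      Bool.false_or, Bool.or_eq_true, List.contains_iff_mem, List.any_eq_true, beq_iff_eq] at h
    rcases h with h | ⟨q, hq, h⟩
    · exact Or.inl ⟨i, h, rfl⟩
    · refine Or.inr ⟨q, hq, ?_⟩
      show val q = val i * z
      rw [← h, valrow (alt2 (vlt (row_lt hq)) (by simp)), ev_append, ez, mul_assoc, S.c.zz, mul_one]
  have inv_z : ∀ {g}, g ∈ W → Commute g z → g * g = 1 → g = 1 ∨ g = z := by
    intro g hg hgz hgg
    obtain ⟨i, hi, rfl⟩ := S.mem_C hgz
    obtain ⟨h1, h2⟩ := memW.1 hg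
    have h3 : row (cw i ++ cw i) = 0 := by
      rw [← ev_append, ← S.ev_one, S.ev_iff (alt2 (vlt hi) (vlt hi)) (by simp)] at hgg
      exact hgg
    have h := List.all_eq_true.1 inv_check i (List.mem_range.2 hi)
    simp only [commW, (comm_row hi tlt).1 h1, (comm_row hi clt).1 h2, h3, beq_self_eq_true, Bool.and_self,
      Bool.not_true, Bool.false_or, Bool.or_eq_true, beq_iff_eq] at h
    rcases h with rfl | h
    · exact Or.inl v0
    · exact Or.inr (by
        show val i = z
        rw [h, valrow (by simp), ez])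
  have zW : z ∈ W := memW.2 ⟨(S.ev_comm tlt).symm, (S.ev_comm clt).symm⟩
  have ρi : ρ⁻¹ = ρ * ρ := inv_eq_of_mul_eq_one_right (by rw [← mul_assoc]; exact ρ3)
  have aτ : Commute a τ := by
    refine mul_inv_eq_iff_eq_mul.mp ?_
    have := S.ev_eq (v := []) (alt2 (alt2 (alt2 alt tlt) alt) (revlt tlt)) (by simp) p_aτ
    rw [ev_append, ev_append, ev_append, S.ev_reverse tlt, S.ev_one] at this
    have haa : a * a = 1 := by
      rw [ha, ← ev_append, S.ev_eq (v := []) (alt2 alt alt) (by simp) p_aa, S.ev_one]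
    rw [inv_self haa]
    exact mul_inv_eq_one.mp this
  have haa : a * a = 1 := by
    rw [ha, ← ev_append, S.ev_eq (v := []) (alt2 alt alt) (by simp) p_aa, S.ev_one]
  have ac : a * c * a = c⁻¹ := by
    have := S.ev_eq (v := []) (alt2 (alt2 (alt2 alt clt) alt) clt) (by simp) p_ac
    rw [ev_append, ev_append, ev_append, S.ev_one] at this
    exact eq_inv_of_mul_eq_one_left this
  have az : Commute a z := S.ev_comm alt
  have a_ne : a ≠ 1 ∧ a ≠ z := by
    constructor
    · intro e
      rw [e] at ρz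
      exact S.c.X.ne (conj_eq_one_iff.mp ρz)
    · intro e
      rw [← ez, ha] at e
      exact p_az' ((S.ev_iff alt (by simp)).1 e)
  by_cases hall : ∀ w ∈ W, Commute w z
  · exfalso
    -- then the group of order nine is a Sylow subgroup with normaliser in the centraliser
    have hno : ∀ g : G, (∀ p ∈ P0, g * p * g⁻¹ ∈ P0) → Commute g z := by
      intro g hg
      have hiW : ∀ w, w ∈ W → g⁻¹ * w * g ∈ W := fun w hw => by
        have hconj : ∀ q ∈ P0, Commute w q := by
          rintro _ hq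
          obtain ⟨q, hq', rfl⟩ := hq
          have key : ∀ n : ℕ, n ∈ p9 → ∃ i l, val n = τ ^ i * c ^ l := by
            intro n hn
            simp only [p9, List.map_cons, List.map_nil, List.mem_cons, List.not_mem_nil, or_false] at hn
            rcases hn with rfl | rfl | rfl | rfl | rfl | rfl | rfl | rfl | rfl
            on_goal 1 => refine ⟨0, 0, ?_⟩
            on_goal 2 => refine ⟨1, 0, ?_⟩
            on_goal 3 => refine ⟨2, 0, ?_⟩
            on_goal 4 => refine ⟨0, 1, ?_⟩
            on_goal 5 => refine ⟨1, 1, ?_⟩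
            on_goal 6 => refine ⟨2, 1, ?_⟩
            on_goal 7 => refine ⟨0, 2, ?_⟩
            on_goal 8 => refine ⟨1, 2, ?_⟩
            on_goal 9 => refine ⟨2, 2, ?_⟩
            all_goals rw [valrow (by decide)]
            all_goals simp [ev_append, ev_one, pow_succ, hτ, hc, mul_assoc]
          obtain ⟨i, l, e⟩ := key q hq'
          rw [e]
          exact ((memW.1 hw).1.pow_right i).mul_right ((memW.1 hw).2.pow_right l)
        refine memW.2 ⟨?_, ?_⟩
        · have := (Commute.conj_iff g⁻¹).mpr (hconj _ (hg τ τP))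
          rw [inv_inv, show g⁻¹ * (g * τ * g⁻¹) * g = τ by group] at this
          exact this
        · have := (Commute.conj_iff g⁻¹).mpr (hconj _ (hg c cP))
          rw [inv_inv, show g⁻¹ * (g * c * g⁻¹) * g = c by group] at this
          exact this
      have hzz : g⁻¹ * z * g * (g⁻¹ * z * g) = 1 := by
        rw [show g⁻¹ * z * g * (g⁻¹ * z * g) = g⁻¹ * (z * z) * g by group, S.c.zz, mul_one, inv_mul_cancel]
      rcases inv_z (hiW z zW) (hall _ (hiW z zW)) hzz with e | e
      · exact absurd (calc z = g * (g⁻¹ * z * g) * g⁻¹ := by group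
            _ = 1 := by rw [e, mul_one, mul_inv_cancel]) S.c.X.ne
      · show g * z = z * g
        calc g * z = g * (g⁻¹ * z * g) := by rw [e]
          _ = z * g := by group
    have rowsN : ∀ g : G, (∀ p ∈ P0, g * p * g⁻¹ ∈ P0) →
        (g * τ * g⁻¹ = τ ∨ g * τ * g⁻¹ = τ * τ) ∧ (g ^ 9 = 1 → g ∈ P0) := by
      intro g hg
      obtain ⟨i, hi, rfl⟩ := S.mem_C (hno g hg)
      have hcj : ∀ {w : List ℕ}, (∀ l ∈ w, l < 9) → val i * S.ev w * (val i)⁻¹ = val (cjRow i w) := fun hw => by
        rw [cjRow, valrow (alt2 (alt2 (vlt hi) hw) (revlt (vlt hi))), ev_append, ev_append, S.ev_reverse (vlt hi)]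
      have hmem : ∀ {w : List ℕ}, (∀ l ∈ w, l < 9) → S.ev w ∈ P0 → cjRow i w ∈ p9 := fun {w} hw hwP => by
        obtain ⟨p, hp, e⟩ := hg _ hwP
        have hlt : cjRow i w < 1152 := mrow (alt2 (alt2 (vlt hi) hw) (revlt (vlt hi)))
        rwa [show cjRow i w = p from S.cw_inj hlt (row_lt hp) (by
          rw [show S.ev (cw p) = val p from rfl, e]; exact (hcj hw).symm)]
      have h := List.all_eq_true.1 norm_check i (List.mem_range.2 hi)
      simp only [List.contains_iff_mem.2 (hmem tlt τP), List.contains_iff_mem.2 (hmem clt cP), Bool.and_self,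
        Bool.not_true, Bool.false_or, Bool.and_eq_true, Bool.or_eq_true, beq_iff_eq, Bool.not_eq_true',
        beq_eq_false_iff_ne, List.contains_iff_mem] at h
      refine ⟨?_, fun h9 => ?_⟩
      · show val i * τ * (val i)⁻¹ = τ ∨ val i * τ * (val i)⁻¹ = τ * τ
        rw [hτ, hcj tlt]
        rcases h.1 with e | e <;> rw [e]
        · exact Or.inl (valrow tlt)
        · exact Or.inr (by rw [valrow (alt2 tlt tlt), ev_append])
      · rcases h.2 with h' | h'
        · exact absurd ((pow_row 9 hi).1 h9) h'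
        · exact ⟨i, h', rfl⟩
    have hp3 : IsPGroup 3 P0 := IsPGroup.of_card (n := 2) (by rw [P0card]; rfl)
    obtain ⟨P, hP⟩ := hp3.exists_le_sylow
    have hPeq : P0 = (P : Subgroup G) := by
      by_contra hne
      have hlt : (P0.subgroupOf (P : Subgroup G)) < ⊤ := by
        refine lt_top_iff_ne_top.2 fun h => hne (le_antisymm hP ?_)
        exact subgroupOf_eq_top.1 h
      haveI : Group.IsNilpotent (P : Subgroup G) := P.2.isNilpotent
      obtain ⟨g, hgN, hgn⟩ := SetLike.exists_of_lt (Group.normalizerCondition_of_isNilpotent _ hlt)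
      refine hgn (mem_subgroupOf.2 ?_)
      have hgnorm : ∀ p ∈ P0, (g : G) * p * (g : G)⁻¹ ∈ P0 := fun p hp =>
        mem_subgroupOf.1 ((mem_normalizer_iff.mp hgN ⟨p, hP hp⟩).mp (mem_subgroupOf.2 hp))
      refine (rowsN _ hgnorm).2 ?_
      obtain ⟨n, hn⟩ := P.2 g
      have hn' : (g : G) ^ 3 ^ n = 1 := by simpa using congrArg Subtype.val hn
      have hd : orderOf (g : G) ∣ 1152 := by
        have h1 := orderOf_dvd_natCard (⟨(g : G), mem_centralizer_singleton_iff.mpr (hno _ hgnorm).eq⟩ :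
          centralizer ({z} : Set G))
        rwa [S.c.cardC, Subgroup.orderOf_mk] at h1
      have h2 : orderOf (g : G) ∣ Nat.gcd 1152 (3 ^ n) := Nat.dvd_gcd hd (orderOf_dvd_of_pow_eq_one hn')
      refine orderOf_dvd_iff_pow_eq_one.1 (h2.trans ?_)
      have hcop : (Nat.gcd 1152 (3 ^ n)).Coprime 128 := by
        refine Nat.Coprime.coprime_dvd_left (Nat.gcd_dvd_right _ _) ?_
        exact Nat.Coprime.pow_left n (by norm_num)
      exact hcop.dvd_of_dvd_mul_left (show Nat.gcd 1152 (3 ^ n) ∣ 128 * 9 from Nat.gcd_dvd_left _ _)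
    -- the second group of order nine
    have hρτ : Commute ρ τ := ρτ
    have τ3 : τ ^ 3 = 1 := P0pow τ τP
    have ρ3' : ρ ^ 3 = 1 := by rw [pow_succ, pow_two, ρ3]
    have hρτP : ∀ l : ℕ, ρ ≠ τ ^ l := fun l e => by
      have : Commute ρ z := e ▸ (S.ev_comm tlt).pow_left l
      rw [this.eq, mul_inv_cancel_right] at ρz
      exact a_ne.2 ρz.symm
    have τne : τ ≠ 1 := fun e => by
      have h' : row tauW = row [] := (S.ev_iff tlt (by simp)).1 (e.trans S.ev_one.symm)
      revert h'
      decide +kernel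
    have hτo : orderOf τ = 3 := orderOf_eq_prime τ3 τne
    have ρne : ρ ≠ 1 := fun e => hρτP 0 (by rw [pow_zero]; exact e)
    have hρo : orderOf ρ = 3 := orderOf_eq_prime ρ3' ρne
    set P1 := zpowers τ ⊔ zpowers ρ with hP1
    have mem1 : ∀ x ∈ P1, ∃ i l : ℕ, i < 3 ∧ l < 3 ∧ x = τ ^ i * ρ ^ l := by
      intro x hx
      haveI : (zpowers τ).Normal → True := fun _ => trivial
      rw [hP1, sup_eq_closure] at hx
      induction hx using closure_induction with
      | mem x hx =>
        rcases hx with hx | hx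
        · obtain ⟨i, hi, rfl⟩ := (mem_zpowers_iff_mem_range_orderOf).1 hx |> Finset.mem_image.1
          exact ⟨i, 0, by rw [hτo] at hi; exact Finset.mem_range.1 hi, by norm_num, by simp⟩
        · obtain ⟨i, hi, rfl⟩ := (mem_zpowers_iff_mem_range_orderOf).1 hx |> Finset.mem_image.1
          exact ⟨0, i, by norm_num, by rw [hρo] at hi; exact Finset.mem_range.1 hi, by simp⟩
      | one => exact ⟨0, 0, by norm_num, by norm_num, by simp⟩
      | mul x y _ _ hx hy =>
        obtain ⟨i, l, -, -, rfl⟩ := hx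
        obtain ⟨i', l', -, -, rfl⟩ := hy
        refine ⟨(i + i') % 3, (l + l') % 3, Nat.mod_lt _ (by norm_num), Nat.mod_lt _ (by norm_num), ?_⟩
        rw [pow_eq_pow_mod (i + i') τ3 |>.symm, pow_eq_pow_mod (l + l') ρ3' |>.symm, pow_add, pow_add,
          show τ ^ i * ρ ^ l * (τ ^ i' * ρ ^ l') = τ ^ i * (ρ ^ l * τ ^ i') * ρ ^ l' by group,
          (hρτ.pow_pow l i').eq]
        group
      | inv x _ hx =>
        obtain ⟨i, l, -, -, rfl⟩ := hx
        refine ⟨(2 * i) % 3, (2 * l) % 3, Nat.mod_lt _ (by norm_num), Nat.mod_lt _ (by norm_num), ?_⟩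
        rw [← pow_eq_pow_mod (2 * i) τ3, ← pow_eq_pow_mod (2 * l) ρ3']
        refine inv_eq_of_mul_eq_one_right ?_
        rw [show τ ^ i * ρ ^ l * (τ ^ (2 * i) * ρ ^ (2 * l)) = τ ^ i * (ρ ^ l * τ ^ (2 * i)) * ρ ^ (2 * l) by group,
          (hρτ.pow_pow l (2 * i)).eq, show τ ^ i * (τ ^ (2 * i) * ρ ^ l) * ρ ^ (2 * l) =
            (τ ^ i * τ ^ (2 * i)) * (ρ ^ l * ρ ^ (2 * l)) by group, ← pow_add, ← pow_add,
          show i + 2 * i = 3 * i by omega, show l + 2 * l = 3 * l by omega, pow_mul, pow_mul, τ3, ρ3']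
        simp
    have hP1d : Nat.card P1 ∣ 9 ∧ 3 < Nat.card P1 := by
      let f : Fin 3 × Fin 3 → P1 := fun q => ⟨τ ^ q.1.val * ρ ^ q.2.val,
        mul_mem (mem_sup_left (pow_mem (mem_zpowers τ) _)) (mem_sup_right (pow_mem (mem_zpowers ρ) _))⟩
      have hs : Function.Surjective f := fun x => by
        obtain ⟨i, l, hi, hl, e⟩ := mem1 x.1 x.2
        exact ⟨(⟨i, hi⟩, ⟨l, hl⟩), Subtype.ext e.symm⟩
      have hle : Nat.card P1 ≤ 9 := (Nat.card_le_card_of_surjective f hs).trans (by simp)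
      have hpg : IsPGroup 3 P1 := fun x => ⟨1, by
        obtain ⟨i, l, -, -, e⟩ := mem1 x.1 x.2
        refine Subtype.ext ?_
        rw [SubmonoidClass.coe_pow, e, pow_one, ((hρτ.pow_pow l i).symm).mul_pow, ← pow_mul, ← pow_mul, mul_comm i,
          mul_comm l, pow_mul, pow_mul, τ3, ρ3']
        simp⟩
      obtain ⟨n, hn⟩ := IsPGroup.iff_card.1 hpg
      have h3 : 3 < Nat.card P1 := by
        have hlt : zpowers τ < P1 := by
          refine lt_of_le_of_ne le_sup_left fun e => ?_
          obtain ⟨i, -, hi⟩ := (mem_zpowers_iff_mem_range_orderOf).1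
            (e ▸ mem_sup_right (mem_zpowers ρ) : ρ ∈ zpowers τ) |> Finset.mem_image.1
          exact hρτP i hi.symm
        have := Set.ncard_lt_ncard hlt (Set.toFinite _)
        rw [← Nat.card_coe_set_eq, ← Nat.card_coe_set_eq] at this
        rwa [show Nat.card ↥(zpowers τ : Set G) = 3 from (Nat.card_zpowers τ).trans hτo] at this
      refine ⟨?_, h3⟩
      rw [hn] at hle h3 ⊢
      have : n ≤ 2 := by
        by_contra h
        have := Nat.pow_le_pow_right (show 1 ≤ 3 by norm_num) (show 3 ≤ n by omega)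
        omega
      exact pow_dvd_pow 3 this
    have hP1c : Nat.card P1 = 9 := by
      obtain ⟨i, hi, e⟩ := (Nat.dvd_prime_pow Nat.prime_three).1 (show Nat.card P1 ∣ 3 ^ 2 from hP1d.1)
      have h3 := hP1d.2
      interval_cases i <;> omega
    obtain ⟨Q1, hQ1⟩ := (IsPGroup.of_card (n := 2) (hP1c.trans (by rfl)) : IsPGroup 3 P1).exists_le_sylow
    have hQ1eq : P1 = (Q1 : Subgroup G) := Subgroup.eq_of_le_of_card_ge hQ1 (by
      rw [hP1c, Sylow.card_eq_multiplicity Q1, ← Sylow.card_eq_multiplicity P, ← hPeq, P0card])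
    obtain ⟨g, hg⟩ := MulAction.exists_smul_eq G Q1 P
    have hgmem : ∀ x, x ∈ P0 ↔ g⁻¹ * x * g ∈ P1 := fun x => by
      rw [hQ1eq, hPeq, ← hg, Sylow.coe_subgroup_smul, Subgroup.mem_pointwise_smul_iff_inv_smul_mem]
      simp [MulAut.smul_def, MulAut.conj_inv_apply]
    have jP1 : ∀ x ∈ P1, j * x * j⁻¹ ∈ P1 := fun x hx => by
      obtain ⟨i, l, -, -, rfl⟩ := mem1 x hx
      rw [conj_mul', ← conj_pow, ← conj_pow, jτ, jρ]
      exact mul_mem (pow_mem (mul_mem (mem_sup_right (mem_zpowers ρ)) (mem_sup_right (mem_zpowers ρ))) _)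
        (pow_mem (mem_sup_left (mem_zpowers τ)) _)
    have hj' : ∀ p ∈ P0, g * j * g⁻¹ * p * (g * j * g⁻¹)⁻¹ ∈ P0 := fun p hp => by
      rw [hgmem, show g⁻¹ * (g * j * g⁻¹ * p * (g * j * g⁻¹)⁻¹) * g = j * (g⁻¹ * p * g) * j⁻¹ by group]
      exact jP1 _ ((hgmem p).1 hp)
    obtain ⟨i, l, hi, hl, e⟩ := mem1 _ ((hgmem τ).1 τP)
    have key : j * (g⁻¹ * τ * g) * j⁻¹ = g⁻¹ * τ * g ∨ j * (g⁻¹ * τ * g) * j⁻¹ = (g⁻¹ * τ * g) ^ 2 := by
      rcases (rowsN _ hj').1 with h | h
      · refine Or.inl ?_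
        calc j * (g⁻¹ * τ * g) * j⁻¹ = g⁻¹ * (g * j * g⁻¹ * τ * (g * j * g⁻¹)⁻¹) * g := by group
          _ = _ := by rw [h]
      · refine Or.inr ?_
        calc j * (g⁻¹ * τ * g) * j⁻¹ = g⁻¹ * (g * j * g⁻¹ * τ * (g * j * g⁻¹)⁻¹) * g := by group
          _ = _ := by rw [h, pow_two]; group
    rw [e, conj_mul', ← conj_pow, ← conj_pow, jτ, jρ, ← pow_two, ← pow_mul] at key
    have uniq : ∀ i' l' i'' l'' : ℕ, τ ^ i' * ρ ^ l' = τ ^ i'' * ρ ^ l'' → i' % 3 = i'' % 3 ∧ l' % 3 = l'' % 3 := by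
      intro i' l' i'' l'' h
      have hb : Function.Bijective (fun q : Fin 3 × Fin 3 => (⟨τ ^ q.1.val * ρ ^ q.2.val,
          mul_mem (mem_sup_left (pow_mem (mem_zpowers τ) _)) (mem_sup_right (pow_mem (mem_zpowers ρ) _))⟩ : P1)) :=
        (Nat.bijective_iff_surjective_and_card _).2 ⟨fun x => by
          obtain ⟨i, l, hi, hl, e⟩ := mem1 x.1 x.2
          exact ⟨(⟨i, hi⟩, ⟨l, hl⟩), Subtype.ext e.symm⟩, by rw [hP1c]; simp⟩
      have := hb.1 (a₁ := (⟨i' % 3, Nat.mod_lt _ (by norm_num)⟩, ⟨l' % 3, Nat.mod_lt _ (by norm_num)⟩))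
        (a₂ := (⟨i'' % 3, Nat.mod_lt _ (by norm_num)⟩, ⟨l'' % 3, Nat.mod_lt _ (by norm_num)⟩)) (Subtype.ext (by
          show τ ^ (i' % 3) * ρ ^ (l' % 3) = τ ^ (i'' % 3) * ρ ^ (l'' % 3)
          rw [← pow_eq_pow_mod i' τ3, ← pow_eq_pow_mod l' ρ3', ← pow_eq_pow_mod i'' τ3, ← pow_eq_pow_mod l'' ρ3', h]))
      simpa [Prod.ext_iff, Fin.ext_iff] using this
    have hswap : ρ ^ (2 * i) * τ ^ l = τ ^ l * ρ ^ (2 * i) := (hρτ.pow_pow _ _).eq
    have hil : i = 0 ∧ l = 0 := by
      rcases key with key | key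
      · rw [hswap] at key
        have := uniq _ _ _ _ key
        omega
      · rw [hswap, ((hρτ.pow_pow l i).symm).mul_pow, ← pow_mul, ← pow_mul] at key
        have := uniq _ _ _ _ key
        omega
    rw [hil.1, hil.2] at e
    refine τne ?_
    calc τ = g * (g⁻¹ * τ * g) * g⁻¹ := by group
      _ = 1 := by rw [e]; simp
  -- a bigger centraliser
  push Not at hall
  obtain ⟨w0, hw0, hw0z⟩ := hall
  set ca := ρ * c * ρ⁻¹ with hca
  set cb := ρ * ca * ρ⁻¹ with hcb
  suffices hrel : Commute c ca by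
    have expand : wval (S.imK k) (cW ++ ([4, 3, 9, 7, 3, 9, 4] ++ cW ++ [4, 9, 3, 7, 9, 3, 4]) ++ cW.reverse ++
        ([4, 3, 9, 7, 3, 9, 4] ++ cW.reverse ++ [4, 9, 3, 7, 9, 3, 4])) = c * ca * c⁻¹ * ca⁻¹ := by
      have kmul : ∀ u v : List ℕ, wval (S.imK k) (u ++ v) = wval (S.imK k) u * wval (S.imK k) v := fun u v => by
        simp [wval, List.map_append, List.prod_append]
      have e1 : wval (S.imK k) [4, 3, 9, 7, 3, 9, 4] = ρ := rfl
      have e2 : wval (S.imK k) [4, 9, 3, 7, 9, 3, 4] = ρ⁻¹ := by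
        rw [← e1]
        exact wval_reverse (S.imK k) (w := [4, 3, 9, 7, 3, 9, 4])
          (fun l hl => S.imK_inv hk (by simp at hl; omega))
      rw [kmul, kmul, kmul, kmul, kmul, kmul, kmul, e1, e2, S.imK_im k clt, S.imK_im k (revlt clt), S.ev_reverse clt, hca, hc]
      group
    rw [expand, hrel.eq]; group
  have c_ne : c ≠ 1 := fun e => by
    have h' : row cW = row [] := (S.ev_iff clt (by simp)).1 (e.trans S.ev_one.symm)
    revert h'
    decide +kernel
  have cτ : Commute c τ := (P0comm c cP).1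
  have caτ : Commute ca τ := by
    have := (Commute.conj_iff ρ).mpr cτ
    rwa [show ρ * τ * ρ⁻¹ = τ by rw [ρτ]; group] at this
  have cbτ : Commute cb τ := by
    have := (Commute.conj_iff ρ).mpr caτ
    rwa [show ρ * τ * ρ⁻¹ = τ by rw [ρτ]; group] at this
  have ρcb : ρ * cb * ρ⁻¹ = c := by
    rw [hcb, hca, show ρ * (ρ * (ρ * c * ρ⁻¹) * ρ⁻¹) * ρ⁻¹ = ρ * ρ * ρ * c * (ρ * ρ * ρ)⁻¹ by group, ρ3]
    group
  -- the centraliser has a subgroup of odd order of index two
  have zWs : (⟨z, zW⟩ : W) * ⟨z, zW⟩ = 1 := Subtype.ext S.c.zz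
  obtain ⟨P, hP⟩ := ((IsPGroup.of_card (n := 1) (show Nat.card (zpowers (⟨z, zW⟩ : W)) = 2 ^ 1 by
    rw [Nat.card_zpowers, pow_one, ← Subgroup.orderOf_coe]; exact S.c.hz))).exists_le_sylow
  have hPle : ∀ x : W, x ∈ (P : Subgroup W) → x = 1 ∨ x = ⟨z, zW⟩ := by
    intro x hx
    have hzP : (⟨z, zW⟩ : W) ∈ (P : Subgroup W) := hP (mem_zpowers _)
    by_cases hbot : (P : Subgroup W) = ⊥
    · exact Or.inl (by rw [hbot] at hx; exact hx)
    haveI : Nontrivial (P : Subgroup W) := (Subgroup.nontrivial_iff_ne_bot _).2 hbot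
    haveI := P.2.center_nontrivial
    obtain ⟨zc, hzc⟩ := exists_prime_orderOf_dvd_card' (G := center (P : Subgroup W)) 2 (by
      obtain ⟨n, hn⟩ := IsPGroup.iff_card.1 (P.2.to_subgroup (center (P : Subgroup W)))
      rcases n with _ | n
      · exact absurd (Finite.one_lt_card (α := center (P : Subgroup W))) (by rw [hn]; simp)
      · exact hn ▸ dvd_pow_self 2 (Nat.succ_ne_zero n))
    set i : W := ((zc : (P : Subgroup W)) : W) with hi
    have hi2 : (i : G) * (i : G) = 1 := by
      have h := pow_orderOf_eq_one zc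
      rw [hzc, pow_two] at h
      exact congrArg (fun y : center (P : Subgroup W) => (((y : (P : Subgroup W)) : W) : G)) h
    have hicom : ∀ y ∈ (P : Subgroup W), Commute (i : G) (y : G) := fun y hy =>
      (congrArg (fun y : (P : Subgroup W) => ((y : W) : G)) (mem_center_iff.1 zc.2 ⟨y, hy⟩)).symm
    have hiz : (i : G) = z := by
      refine (inv_z i.2 (hicom _ hzP) hi2).resolve_left fun e => ?_
      have : zc = 1 := Subtype.ext (Subtype.ext (Subtype.ext e))
      rw [this] at hzc
      simp at hzc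
    have hxz : Commute (x : G) z := hiz ▸ (hicom x hx).symm
    obtain ⟨n, hn⟩ := P.2 ⟨x, hx⟩
    have hn' : (x : G) ^ 2 ^ n = 1 := congrArg (fun y : (P : Subgroup W) => ((y : W) : G)) hn
    have hxx : (x : G) * (x : G) = 1 := by
      rcases inC x.2 hxz with h | h
      · have h3 := P0pow _ h
        have hd : orderOf (x : G) ∣ Nat.gcd 3 (2 ^ n) :=
          Nat.dvd_gcd (orderOf_dvd_of_pow_eq_one h3) (orderOf_dvd_of_pow_eq_one hn')
        rw [show Nat.gcd 3 (2 ^ n) = 1 from Nat.Coprime.pow_right n (by norm_num), Nat.dvd_one,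
          orderOf_eq_one_iff] at hd
        rw [hd, mul_one]
      · have h3 := P0pow _ h
        rw [hxz.mul_pow] at h3
        have h4 : (x : G) ^ 6 = 1 := by
          have hz6 : z ^ 6 = 1 := by rw [show (6 : ℕ) = 2 * 3 from rfl, pow_mul, pow_two, S.c.zz, one_pow]
          have := congrArg (· ^ 2) h3
          simp only [one_pow] at this
          rw [(hxz.pow_pow 3 3).mul_pow, ← pow_mul, ← pow_mul, show 3 * 2 = 6 from rfl, hz6, mul_one] at this
          exact this
        have hd : orderOf (x : G) ∣ Nat.gcd 6 (2 ^ n) :=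
          Nat.dvd_gcd (orderOf_dvd_of_pow_eq_one h4) (orderOf_dvd_of_pow_eq_one hn')
        have : Nat.gcd 6 (2 ^ n) ∣ 2 := by
          have hcop : (Nat.gcd 6 (2 ^ n)).Coprime 3 :=
            Nat.Coprime.coprime_dvd_left (Nat.gcd_dvd_right _ _) (Nat.Coprime.pow_left n (by norm_num))
          exact hcop.dvd_of_dvd_mul_right (show Nat.gcd 6 (2 ^ n) ∣ 2 * 3 from Nat.gcd_dvd_left _ _)
        rw [← pow_two]
        exact orderOf_dvd_iff_pow_eq_one.1 (hd.trans this)
    rcases inv_z x.2 hxz hxx with e | e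
    · exact Or.inl (Subtype.ext e)
    · exact Or.inr (Subtype.ext e)
  have hNC : normalizer ((P : Subgroup W) : Set W) ≤ centralizer ((P : Subgroup W) : Set W) := fun g hg => by
    refine mem_centralizer_iff.2 fun x hx => ?_
    rcases hPle x hx with rfl | rfl
    · simp
    · have h1 := hPle _ ((mem_normalizer_iff.mp hg _).mp hx)
      rcases h1 with h1 | h1
      · exact absurd (congrArg Subtype.val (conj_eq_one_iff.mp h1)) S.c.X.ne
      · exact (mul_inv_eq_iff_eq_mul.mp h1).symm
  have hcomp := MonoidHom.ker_transferSylow_isComplement' P hNC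
  set K0 := (MonoidHom.transferSylow P hNC).ker with hK0
  have hodd : ∀ x : W, x ∈ K0 ↔ Odd (orderOf x) := by
    intro x
    constructor
    · intro hx
      rcases Nat.even_or_odd (orderOf x) with he | ho
      · exfalso
        set y := x ^ (orderOf x / 2) with hy
        have hyo : orderOf y = 2 := orderOf_pow_orderOf_div (orderOf_pos x).ne' (even_iff_two_dvd.mp he)
        have hyK : y ∈ K0 := pow_mem hx _
        have hnd := MonoidHom.not_dvd_card_ker_transferSylow P hNC
        refine hnd ?_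
        have := orderOf_dvd_natCard (⟨y, hyK⟩ : K0)
        rwa [Subgroup.orderOf_mk, hyo] at this
      · exact ho
    · intro ho
      rw [hK0, MonoidHom.mem_ker]
      have h1 : orderOf (MonoidHom.transferSylow P hNC x) ∣ orderOf x := orderOf_map_dvd _ x
      have h2 : orderOf (MonoidHom.transferSylow P hNC x) ∣ Nat.card (P : Subgroup W) := orderOf_dvd_natCard _
      obtain ⟨n, hn⟩ := IsPGroup.iff_card.1 P.2
      rw [hn] at h2
      rw [← orderOf_eq_one_iff]
      have hcop : (orderOf x).Coprime (2 ^ n) := Nat.Coprime.pow_right n (Nat.coprime_two_right.mpr ho)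
      exact Nat.eq_one_of_dvd_coprimes hcop h1 h2
  set M := K0.map W.subtype with hM
  have memM : ∀ {g}, g ∈ M ↔ g ∈ W ∧ Odd (orderOf g) := fun {g} => by
    constructor
    · rintro ⟨x, hx, rfl⟩
      exact ⟨x.2, by rw [show W.subtype x = (x : G) from rfl, Subgroup.orderOf_coe]; exact (hodd x).1 hx⟩
    · rintro ⟨hg, ho⟩
      exact ⟨⟨g, hg⟩, (hodd _).2 (by rwa [Subgroup.orderOf_mk]), rfl⟩
  set V := zpowers z ⊔ zpowers a with hV
  have zi := inv_self S.c.zz
  have ai := inv_self haa
  have aW' : ∀ g ∈ W, a * g * a ∈ W := fun g hg => by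
    obtain ⟨h1, h2⟩ := memW.1 hg
    refine memW.2 ⟨?_, ?_⟩
    · have := (Commute.conj_iff a).mpr h1
      rwa [ai, show a * τ * a = τ by rw [aτ.eq, mul_assoc, haa, mul_one]] at this
    · have := (Commute.conj_iff a).mpr h2.inv_right
      rw [ai, show a * c⁻¹ * a = c by rw [← ac, show a * (a * c * a) * a = a * a * c * (a * a) by group, haa]; group] at this
      exact this
  have Mconj : ∀ {u : G}, u * u = 1 → (∀ g ∈ W, u * g * u ∈ W) → u ∈ normalizer (M : Set G) := fun {u} huu hu => by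
    have key : ∀ g ∈ M, u * g * u ∈ M := fun g hg => by
      obtain ⟨h1, h2⟩ := memM.1 hg
      refine memM.2 ⟨hu g h1, ?_⟩
      rwa [show u * g * u = u * g * u⁻¹ by rw [inv_self huu],
        show orderOf (u * g * u⁻¹) = orderOf g from (MulAut.conj u).orderOf_eq g]
    refine mem_normalizer_iff.mpr fun g => ?_
    rw [inv_self huu]
    refine ⟨key g, fun h => ?_⟩
    have := key _ h
    rwa [show u * (u * g * u) * u = u * u * g * (u * u) by group, huu, one_mul, mul_one] at this
  have hVn : V ≤ normalizer (M : Set G) := sup_le (zpowers_le.2 (Mconj S.c.zz fun g hg => mul_mem (mul_mem zW hg) zW))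
    (zpowers_le.2 (Mconj haa aW'))
  have hVle : V ≤ centralizer ({z} : Set G) ⊓ centralizer ({a} : Set G) := by
    refine sup_le (zpowers_le.2 ⟨mem_centralizer_singleton_iff.mpr rfl, mem_centralizer_singleton_iff.mpr az.eq.symm⟩)
      (zpowers_le.2 ⟨mem_centralizer_singleton_iff.mpr az.eq, mem_centralizer_singleton_iff.mpr rfl⟩)
  have Vmem : ∀ g ∈ V, g = 1 ∨ g = z ∨ g = a ∨ g = z * a := by
    intro g hg
    rw [hV, sup_eq_closure] at hg
    induction hg using closure_induction with
    | mem x hx =>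
      rcases hx with hx | hx
      · rcases (Cfsg.Lib.LargeExtra.mem_zpowers_two S.c.zz).mp hx with e | e <;> simp [e]
      · rcases (Cfsg.Lib.LargeExtra.mem_zpowers_two haa).mp hx with e | e <;> simp [e]
    | one => simp
    | mul x y _ _ hx hy =>
      have hza : z * a = a * z := az.eq.symm
      have e1 : ∀ w, z * (z * w) = w := fun w => by rw [← mul_assoc, S.c.zz, one_mul]
      have e2 : ∀ w, a * (a * w) = w := fun w => by rw [← mul_assoc, haa, one_mul]
      have e3 : a * (z * a) = z := by rw [hza, e2]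
      have e4 : z * a * (z * a) = 1 := by rw [mul_assoc, e3, S.c.zz]
      rcases hx with rfl | rfl | rfl | rfl <;> rcases hy with rfl | rfl | rfl | rfl <;>
        simp [S.c.zz, haa, ← hza, e1, e2, e3, e4, mul_assoc]
    | inv x _ hx =>
      rcases hx with rfl | rfl | rfl | rfl
      · simp
      · simp [zi]
      · simp [ai]
      · right; right; right; rw [mul_inv_rev, zi, ai, az.eq]
  haveI : IsMulCommutative V := ⟨⟨fun x y => Subtype.ext (by
    show (x : G) * y = y * x
    rcases Vmem x x.2 with e | e | e | e <;> rcases Vmem y y.2 with e' | e' | e' | e' <;> rw [e, e'] <;>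
      first
        | exact (Commute.one_left _).eq
        | exact (Commute.one_right _).eq
        | exact az.eq
        | exact az.eq.symm
        | rfl
        | exact ((Commute.refl z).mul_right az.symm).eq
        | exact ((Commute.refl z).mul_right az.symm).eq.symm
        | exact (az.mul_right (Commute.refl a)).eq
        | exact (az.mul_right (Commute.refl a)).eq.symm)⟩⟩
  have V2 : ∀ g ∈ V, g * g = 1 := fun g hg => by
    rcases Vmem g hg with e | e | e | e <;> rw [e]
    · exact mul_one _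
    · exact S.c.zz
    · exact haa
    · rw [mul_assoc, ← mul_assoc a, az.eq, mul_assoc z a a, haa, mul_one, S.c.zz]
  have hnc : ¬ IsCyclic V := by
    intro hcy
    obtain ⟨g, hg⟩ := IsCyclic.exists_generator (α := V)
    have hgg : g * g = 1 := Subtype.ext (V2 g g.2)
    have hz' : ∀ {v : G} (hv : v ∈ V), v = 1 ∨ v = (g : G) := fun {v} hv => by
      rcases (Cfsg.Lib.LargeExtra.mem_zpowers_two hgg).mp (hg ⟨v, hv⟩) with e | e
      · exact Or.inl (congrArg Subtype.val e)
      · exact Or.inr (congrArg Subtype.val e)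
    have h1 := (hz' (mem_sup_left (mem_zpowers z))).resolve_left S.c.X.ne
    have h2 := (hz' (mem_sup_right (mem_zpowers a))).resolve_left a_ne.1
    exact a_ne.2 (h2.trans h1.symm)
  have hcop : (Nat.card V).Coprime (Nat.card M) := by
    have hV2 : IsPGroup 2 V := fun g => ⟨1, Subtype.ext (by simpa [pow_two] using V2 g g.2)⟩
    obtain ⟨n, hn⟩ := IsPGroup.iff_card.1 hV2
    rw [hn]
    refine Nat.Coprime.pow_left n (Nat.coprime_two_left.mpr ?_)
    rcases Nat.even_or_odd (Nat.card M) with he | ho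
    · exfalso
      obtain ⟨m, hm⟩ := exists_prime_orderOf_dvd_card' (G := M) 2 (even_iff_two_dvd.mp he)
      have := (memM.1 m.2).2
      rw [Subgroup.orderOf_coe, hm] at this
      exact absurd this (by decide)
    · exact ho
  have hgen := Cfsg.Lib.Coprime.centralizerJoin_eq hnc hVn hcop
  have oddP0 : ∀ {v : G}, Commute v z → Commute v τ → Odd (orderOf v) → v ∈ P0 := by
    intro v hvz hvτ ho
    obtain ⟨i, hi, rfl⟩ := S.mem_C hvz
    have hd : orderOf (S.ev (cw i)) ∣ 1152 := by
      have h1 := orderOf_dvd_natCard (⟨S.ev (cw i), mem_centralizer_singleton_iff.mpr hvz.eq⟩ :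
        centralizer ({z} : Set G))
      rwa [S.c.cardC, Subgroup.orderOf_mk] at h1
    have h9 : val i ^ 9 = 1 := orderOf_dvd_iff_pow_eq_one.1
      ((Nat.Coprime.pow_right 7 (Nat.coprime_two_right.mpr ho)).dvd_of_dvd_mul_left
        (show orderOf (val i) ∣ 2 ^ 7 * 9 from hd))
    have h := List.all_eq_true.1 odd_check i (List.mem_range.2 hi)
    simp only [commW, (comm_row hi tlt).1 hvτ, (pow_row 9 hi).1 h9, beq_self_eq_true, Bool.and_self, Bool.not_true,
      Bool.false_or, List.contains_iff_mem] at h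
    exact ⟨i, h, rfl⟩
  have pushed : ∀ {q u : G}, Commute q τ → q * z * q⁻¹ = u → ∀ v ∈ M, Commute v u → q⁻¹ * v * q ∈ P0 := by
    intro q u hq hu v hv hvu
    obtain ⟨hvW, ho⟩ := memM.1 hv
    refine oddP0 ?_ ?_ ?_
    · have := (Commute.conj_iff q⁻¹).mpr hvu
      rwa [inv_inv, kinv_z hu] at this
    · have := (Commute.conj_iff q⁻¹).mpr (memW.1 hvW).1
      rwa [inv_inv, show q⁻¹ * τ * q = τ by rw [mul_assoc, ← hq.eq]; group] at this
    · rwa [show q⁻¹ * v * q = q⁻¹ * v * q⁻¹⁻¹ by group,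
        show orderOf (q⁻¹ * v * q⁻¹⁻¹) = orderOf v from (MulAut.conj q⁻¹).orderOf_eq v]
  have cfrom : ∀ {x : G}, x ∈ P0 → ∀ (q : G), Commute q τ → Commute (q * x * q⁻¹) c →
      x ≠ 1 → x ≠ τ → x ≠ τ ^ 2 → Commute c (q * c * q⁻¹) := by
    rintro _ ⟨n, hn, rfl⟩ q hq hxc h1 h2 h3
    have hqt : q * τ * q⁻¹ = τ := by rw [hq.eq]; group
    have cases9 : ∀ n ∈ p9, val n = 1 ∨ val n = τ ∨ val n = τ ^ 2 ∨ ∃ i : ℕ, ∃ (l : ℕ), (l = 1 ∨ l = 2) ∧
        val n = τ ^ i * c ^ l := by
      intro n hn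
      simp only [p9, List.map_cons, List.map_nil, List.mem_cons, List.not_mem_nil, or_false] at hn
      rcases hn with rfl | rfl | rfl | rfl | rfl | rfl | rfl | rfl | rfl
      · exact Or.inl ((valrow (by simp)).trans S.ev_one)
      · exact Or.inr (Or.inl (valrow tlt))
      · exact Or.inr (Or.inr (Or.inl (by rw [valrow (alt2 tlt tlt), ev_append, pow_two])))
      all_goals refine Or.inr (Or.inr (Or.inr ?_))
      on_goal 1 => refine ⟨0, 1, Or.inl rfl, ?_⟩
      on_goal 2 => refine ⟨1, 1, Or.inl rfl, ?_⟩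
      on_goal 3 => refine ⟨2, 1, Or.inl rfl, ?_⟩
      on_goal 4 => refine ⟨0, 2, Or.inr rfl, ?_⟩
      on_goal 5 => refine ⟨1, 2, Or.inr rfl, ?_⟩
      on_goal 6 => refine ⟨2, 2, Or.inr rfl, ?_⟩
      all_goals rw [valrow (by decide)]
      all_goals simp [ev_append, pow_succ, hτ, hc, mul_assoc]
    obtain ⟨i, l, hl, e⟩ := (((cases9 n hn).resolve_left h1).resolve_left h2).resolve_left h3
    rw [e, conj_mul', ← conj_pow, ← conj_pow, hqt] at hxc
    have h4 : Commute c ((q * c * q⁻¹) ^ l) := by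
      have := (cτ.symm.pow_left i).inv_left.mul_left hxc
      rw [inv_mul_cancel_left] at this
      exact this.symm
    rcases hl with rfl | rfl
    · simpa using h4
    · have h5 := h4.mul_right h4
      rwa [← pow_add, show 2 + 2 = 3 + 1 from rfl, pow_succ, show (q * c * q⁻¹) ^ 3 = 1 by
        rw [conj_pow, P0pow c cP, mul_one, mul_inv_cancel], one_mul] at h5
  have MleP : M ≤ P0 ∨ Commute c ca := by
    by_contra hcon
    push Not at hcon
    obtain ⟨h1, h2⟩ := hcon
    refine h1 ?_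
    rw [← hgen]
    refine iSup₂_le fun v hv m hm => ?_
    obtain ⟨hmM, hmv⟩ := hm
    have hmv' : Commute m v := mem_centralizer_singleton_iff.mp hmv
    have hmc := (memW.1 (memM.1 hmM).1).2
    have small : ∀ {q u : G}, Commute q τ → q * z * q⁻¹ = u → Commute m u → ¬ Commute c (q * c * q⁻¹) → m ∈ P0 := by
      intro q u hq hu hmu hno
      have hx := pushed hq hu m hmM hmu
      have em : q * (q⁻¹ * m * q) * q⁻¹ = m := by group
      by_contra hmP
      refine hno (cfrom hx q hq (by rwa [em]) ?_ ?_ ?_) <;> intro e <;> refine hmP ?_ <;> rw [← em, e]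
      · simp
      · rw [hq.eq, mul_inv_cancel_right]; exact τP
      · rw [(hq.pow_right 2).eq, mul_inv_cancel_right]; exact pow_mem τP 2
    rcases Vmem v hv.1 with e | e | e | e
    · exact absurd e hv.2
    · simpa using pushed (q := 1) (Commute.one_left τ) (show (1 : G) * z * 1⁻¹ = z by simp) m hmM (e ▸ hmv')
    · exact small (q := ρ) ρτ ρz (e ▸ hmv') h2
    · refine small (q := ρ * ρ) (Commute.mul_left ρτ ρτ) ?_ (e ▸ hmv') fun h => h2 ?_
      · rw [show ρ * ρ * z * (ρ * ρ)⁻¹ = ρ * (ρ * z * ρ⁻¹) * ρ⁻¹ by group, ρz, ρa]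
      · have := (Commute.conj_iff ρ).mpr h
        rw [show ρ * ρ * c * (ρ * ρ)⁻¹ = cb by rw [hcb, hca]; group, ρcb] at this
        exact this.symm
  refine MleP.resolve_left fun hle => hw0z ?_
  -- otherwise the central involution would be alone in the centraliser
  set z' := w0 * z * w0⁻¹ with hz'
  have hz'W : z' ∈ W := mul_mem (mul_mem hw0 zW) (inv_mem hw0)
  have hz'2 : z' * z' = 1 := by
    rw [hz', show w0 * z * w0⁻¹ * (w0 * z * w0⁻¹) = w0 * (z * z) * w0⁻¹ by group, S.c.zz, mul_one, mul_inv_cancel]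
  have hz'ne : z' ≠ 1 := fun e => S.c.X.ne (conj_eq_one_iff.mp e)
  suffices he : z' = z from mul_inv_eq_iff_eq_mul.mp he
  set m := z * z' with hm
  rcases Nat.even_or_odd (orderOf m) with he | ho
  · obtain ⟨n, hn⟩ := he
    set i := m ^ n with hi
    have hmW : m ∈ W := mul_mem zW hz'W
    have hii : i * i = 1 := by rw [hi, ← pow_add, ← hn, pow_orderOf_eq_one]
    have hi1 : i ≠ 1 := fun e => by
      have hd := orderOf_dvd_of_pow_eq_one (hi ▸ e)
      have := orderOf_pos m
      rcases Nat.eq_zero_or_pos n with rfl | h0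
      · omega
      · have := Nat.le_of_dvd h0 hd; omega
    have hflip : ∀ {q : G}, q * q = 1 → q * m * q⁻¹ = m⁻¹ → Commute i q := fun {q} _ h => by
      have h' : q * i * q⁻¹ = i := by rw [hi, ← conj_pow, h, inv_pow, ← hi, inv_self hii]
      exact (mul_inv_eq_iff_eq_mul.mp h').symm
    have hiz : i = z := by
      refine (inv_z (pow_mem hmW n) (hflip S.c.zz ?_) hii).resolve_left hi1
      rw [hm, mul_inv_rev z z', inv_self hz'2, zi, ← mul_assoc z z, S.c.zz, one_mul]
    have hzz' : Commute i z' := hflip hz'2 (by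
      rw [hm, mul_inv_rev z z', inv_self hz'2, zi, mul_assoc z' (z * z'), mul_assoc z z' z', hz'2, mul_one])
    exact (inv_z hz'W (hiz ▸ hzz'.symm) hz'2).resolve_left hz'ne
  · have hmP : m ∈ P0 := hle (memM.2 ⟨mul_mem zW hz'W, ho⟩)
    have hmz : Commute m z := by
      obtain ⟨p, hp, e⟩ := hmP
      rw [← e]
      exact S.ev_comm (vlt (row_lt hp))
    refine (inv_z hz'W ?_ hz'2).resolve_left hz'ne
    have := ((Commute.refl z).inv_left).mul_left hmz
    rwa [hm, inv_mul_cancel_left] at this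

/-- All relations of the certificate hold. -/
theorem group_rels : ∀ r ∈ GroupCert.rels, wval (S.imK k) r = 1 := by
  intro r hr
  rw [← List.take_append_drop 54 GroupCert.rels] at hr
  rcases List.mem_append.1 hr with hr | hr
  · exact S.base_rels hk r hr
  · rw [cert_shapes.2.2, List.mem_singleton] at hr
    subst hr
    exact S.three_relation hk

end Sys

end Cfsg.Lib.UFourThreeType
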