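import Cfsg.Agent.UFourThreeType.Normalise

/-!
Relations inside the normalisers of the two elementary groups of order sixteen.
-/

set_option autoImplicit false
set_option maxRecDepth 100000
set_option maxHeartbeats 1000000
set_option linter.style.haveILetI false
set_option linter.unusedSectionVars false

namespace Cfsg.Lib.UFourThreeType

open Subgroup Cfsg.Lib.CosetCert

universe u

/-- A side: the two letters of the elementary group beside the four-group. -/
def side (b : Bool) : ℕ × ℕ := if b then (3, 6) else (2, 5)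

/-- The letters of the elementary group. -/
def eLetters (b : Bool) : List ℕ := [0, 1, (side b).1, (side b).2]

/-- The elements of the elementary group. -/
def sixteen (b : Bool) : List (List ℕ) :=
  (List.range 16).map fun n => (eLetters b).filter fun l => n.testBit ((eLetters b).idxOf l)

/-- The exchange on the letters of the elementary group. -/
def kSwap (l : ℕ) : ℕ := if l = 0 then 1 else if l = 1 then 0 else if l = 2 then 5 else if l = 5 then 2
  else if l = 3 then 6 else if l = 6 then 3 else l

/-- The image of a letter under a word followed by the exchange. -/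
def img (b : Bool) (pre : List ℕ) (l : ℕ) : List ℕ :=
  (((sixteen b).find? fun e => row e == row (pre ++ [l] ++ pre.reverse)).getD []).map kSwap

/-- An iterate on a word. -/
def iterImg (b : Bool) (pre : List ℕ) : ℕ → List ℕ → List ℕ
  | 0, w => w
  | n + 1, w => iterImg b pre n (subst (img b pre) w)

/-- The check on a word of a side with the period of its action. -/
def sideOK (b : Bool) (pre : List ℕ) (n : ℕ) : Bool :=
  pre.all (fun l => decide (l < 9)) && (eLetters b).all fun l =>
    ((sixteen b).any fun e => row e == row (pre ++ [l] ++ pre.reverse)) && row (iterImg b pre n [l]) == row [l]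

theorem side_checks : (sideOK false [7] 5 && sideOK true [8] 5 && sideOK false [3, 7] 4 && sideOK true [2, 8] 4) = true := by
  decide +kernel

theorem fpf_five : (([(false, [7]), (true, [8])] : List (Bool × List ℕ)).all fun p =>
    (sixteen p.1).all fun e => row e == 0 || !(row (subst (img p.1 p.2) e) == row e)) = true := by
  decide +kernel

theorem sixteen_sq : ([false, true].all fun b => (sixteen b).all fun e =>
    row (e ++ e) == 0 && e.all fun l => (eLetters b).contains l) = true := by decide +kernel

theorem self_centralising : ([false, true].all fun b => (List.range 1152).all fun i =>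
    !((eLetters b).all fun l => commW (cw i) [l]) || (sixteen b).any fun e => row e == i) = true := by decide +kernel

theorem eLetters_facts : ∀ b : Bool, ∀ l ∈ eLetters b, l ∈ [0, 1, 2, 3, 5, 6] := by decide

variable {G : Type u} [Group G] [Finite G] {z : G}

namespace Sys

variable (S : Sys z)

theorem sixteen_lt {b : Bool} {e : List ℕ} (he : e ∈ sixteen b) : ∀ l ∈ e, l ∈ eLetters b := fun l hl => by
  obtain ⟨n, -, rfl⟩ := List.mem_map.1 he
  exact List.mem_of_mem_filter hl

theorem eLetters_lt {b : Bool} {l : ℕ} (hl : l ∈ eLetters b) : l < 9 := by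
  have := eLetters_facts b l hl
  simp at this
  omega

/-- The elementary group is its own centraliser. -/
theorem cent_side (b : Bool) {g : G} (h : ∀ l ∈ eLetters b, Commute g (S.im l)) :
    ∃ e ∈ sixteen b, g = S.ev e := by
  obtain ⟨i, hi, rfl⟩ := S.mem_C (h 0 (by simp [eLetters]))
  have hw := (cw_lt hi).1
  have h' := List.all_eq_true.1 (List.all_eq_true.1 self_centralising b (by cases b <;> simp)) i (List.mem_range.2 hi)
  rw [Bool.or_eq_true, Bool.not_eq_true'] at h'
  rcases h' with h' | h'
  · exfalso
    refine Bool.false_ne_true (h'.symm.trans (List.all_eq_true.2 fun l hl => ?_))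
    have hl9 := eLetters_lt hl
    rw [commW, beq_iff_eq, ← S.ev_iff, ev_append, ev_append, S.ev_single]
    · exact (h l hl).eq
    all_goals intro m hm; simp only [List.mem_append, List.mem_singleton] at hm; rcases hm with hm | hm
    exacts [hw m hm, hm ▸ hl9, hm ▸ hl9, hw m hm]
  · obtain ⟨e, he, h'⟩ := List.any_eq_true.1 h'
    exact ⟨e, he, S.ev_eq hw (fun m hm => eLetters_lt (sixteen_lt he m hm))
      ((cw_lt hi).2.trans (beq_iff_eq.1 h').symm)⟩

variable {k : G} (hk : Norm S k)
include hk

theorem k_letters {l : ℕ} (hl : l ∈ [0, 1, 2, 3, 5, 6]) : k * S.im l * k⁻¹ = S.im (kSwap l) := by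
  rw [inv_self hk.kk]
  have back : ∀ {p q : G}, k * p * k = q → k * q * k = p := fun {p q} h => by
    rw [← h, show k * (k * p * k) * k = k * k * p * (k * k) by group, hk.kk, one_mul, mul_one]
  simp only [List.mem_cons, List.not_mem_nil, or_false] at hl
  rcases hl with rfl | rfl | rfl | rfl | rfl | rfl
  exacts [hk.kz, back hk.kz, hk.ka, hk.kb, back hk.ka, back hk.kb]

theorem power_side {b : Bool} {pre : List ℕ} {n : ℕ} (h : sideOK b pre n = true) :
    ∃ e ∈ sixteen b, (k * S.ev pre) ^ n = S.ev e ∧
      S.ev (subst (img b pre) e) = S.ev e ∧ ∀ w : List ℕ, (∀ l ∈ w, l ∈ eLetters b) →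
        ∀ l ∈ subst (img b pre) w, l < 9 := by
  rw [sideOK, Bool.and_eq_true, List.all_eq_true, List.all_eq_true] at h
  obtain ⟨hp, h⟩ := h
  have hp9 : ∀ l ∈ pre, l < 9 := fun l hl => decide_eq_true_eq.mp (hp l hl)
  set w := k * S.ev pre with hw
  obtain ⟨f, hf⟩ : ∃ f : G →* G, ∀ p, f p = w * p * w⁻¹ := ⟨(MulAut.conj w).toMonoidHom, fun p => rfl⟩
  have swapmem : ∀ l ∈ eLetters b, kSwap l ∈ eLetters b := by
    cases b <;> simp [eLetters, side, kSwap]
  have himgmem : ∀ l ∈ eLetters b, ∀ m ∈ img b pre l, m ∈ eLetters b := by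
    intro l hl m hm
    rw [img, List.mem_map] at hm
    obtain ⟨m', hm', rfl⟩ := hm
    obtain ⟨hany, -⟩ := Bool.and_eq_true _ _ ▸ h l hl
    cases hfind : (sixteen b).find? fun e => row e == row (pre ++ [l] ++ pre.reverse) with
    | none => rw [hfind] at hm'; simp at hm'
    | some e =>
      rw [hfind] at hm'
      exact swapmem _ (sixteen_lt (List.mem_of_find?_eq_some hfind) m' hm')
  have kmap : ∀ v : List ℕ, (∀ m ∈ v, m ∈ eLetters b) → k * S.ev v * k⁻¹ = S.ev (v.map kSwap) := by
    intro v hv
    induction v with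
    | nil => simp [ev, wval]
    | cons a v ih =>
      rw [show S.ev (a :: v) = S.im a * S.ev v by simp [ev, wval], conj_mul', ih fun m hm => hv m (by simp [hm]),
        S.k_letters hk (eLetters_facts b a (hv a (by simp)))]
      simp [ev, wval]
  have hall : ∀ l ∈ eLetters b, f (S.im l) = S.ev (img b pre l) := by
    intro l hl
    obtain ⟨hany, -⟩ := Bool.and_eq_true _ _ ▸ h l hl
    obtain ⟨e, hefind⟩ : ∃ e, (sixteen b).find? (fun e => row e == row (pre ++ [l] ++ pre.reverse)) = some e := by
      obtain ⟨e, he, he'⟩ := List.any_eq_true.1 hany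
      cases hfind : (sixteen b).find? fun e => row e == row (pre ++ [l] ++ pre.reverse) with
      | none => exact absurd he' (by simpa using List.find?_eq_none.1 hfind e he)
      | some e => exact ⟨e, rfl⟩
    have hrow : row e = row (pre ++ [l] ++ pre.reverse) := by
      simpa using List.find?_some hefind
    have hem := sixteen_lt (List.mem_of_find?_eq_some hefind)
    rw [hf, hw, img, hefind, Option.getD_some, ← kmap e hem,
      S.ev_eq (fun m hm => eLetters_lt (hem m hm)) (v := pre ++ [l] ++ pre.reverse) ?_ hrow, ev_append, ev_append,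
      S.ev_reverse hp9, S.ev_single]
    · group
    · intro m hm
      simp only [List.mem_append, List.mem_reverse, List.mem_singleton] at hm
      rcases hm with (hm | rfl) | hm
      exacts [hp9 m hm, eLetters_lt hl, hp9 m hm]
  have hsub : ∀ v : List ℕ, (∀ l ∈ v, l ∈ eLetters b) → ∀ l ∈ subst (img b pre) v, l ∈ eLetters b := by
    intro v hv l hl
    simp only [subst, List.mem_flatten, List.mem_map] at hl
    obtain ⟨_, ⟨m, hm, rfl⟩, hl⟩ := hl
    exact himgmem m (hv m hm) l hl
  have hiter : ∀ (j : ℕ) (v : List ℕ), (∀ l ∈ v, l ∈ eLetters b) →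
      w ^ j * S.ev v * (w ^ j)⁻¹ = S.ev (iterImg b pre j v) ∧ ∀ l ∈ iterImg b pre j v, l ∈ eLetters b := by
    intro j
    induction j with
    | zero => intro v hv; exact ⟨by simp [iterImg], hv⟩
    | succ j ih =>
      intro v hv
      obtain ⟨h1, h2⟩ := ih _ (hsub v hv)
      refine ⟨?_, h2⟩
      rw [iterImg, ← h1, ← S.map_subst (f := f) (σ := img b pre) fun l hl => hall l (hv l hl), hf, pow_succ]
      group
  have hcomm : ∀ l ∈ eLetters b, Commute (w ^ n) (S.im l) := by
    intro l hl
    refine mul_inv_eq_iff_eq_mul.mp ?_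
    obtain ⟨h1, h2⟩ := hiter n [l] (by simpa using hl)
    rw [S.ev_single] at h1
    rw [h1, ← S.ev_single]
    exact S.ev_eq (fun m hm => eLetters_lt (h2 m hm)) (by simpa using eLetters_lt hl)
      (beq_iff_eq.1 (Bool.and_eq_true _ _ ▸ h l hl).2)
  obtain ⟨e, he, hev⟩ := S.cent_side b hcomm
  refine ⟨e, he, hev, ?_, fun v hv l hl => eLetters_lt (hsub v hv l hl)⟩
  rw [← S.map_subst (f := f) (σ := img b pre) fun l hl => hall l (sixteen_lt he l hl), hf, ← hev]
  group

theorem power_five {b : Bool} {pre : List ℕ} (h : sideOK b pre 5 = true)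
    (hf : ((sixteen b).all fun e => row e == 0 || !(row (subst (img b pre) e) == row e)) = true) :
    (k * S.ev pre) ^ 5 = 1 := by
  obtain ⟨e, he, hev, hfix, hlt⟩ := S.power_side hk h
  have h9 : ∀ l ∈ e, l < 9 := fun l hl => eLetters_lt (sixteen_lt he l hl)
  have h' := List.all_eq_true.1 hf e he
  simp only [Bool.or_eq_true, beq_iff_eq, Bool.not_eq_true', beq_eq_false_iff_ne] at h'
  rcases h' with h' | h'
  · rw [hev, S.ev_eq h9 (v := []) (by simp) h', ev_one]
  · exact absurd ((S.ev_iff (hlt e (sixteen_lt he)) h9).1 hfix) h'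

theorem power_eight {b : Bool} {pre : List ℕ} (h : sideOK b pre 4 = true) : (k * S.ev pre) ^ 8 = 1 := by
  obtain ⟨e, he, hev, -, -⟩ := S.power_side hk h
  have h9 : ∀ l ∈ e, l < 9 := fun l hl => eLetters_lt (sixteen_lt he l hl)
  have h' := List.all_eq_true.1 (List.all_eq_true.1 sixteen_sq b (by cases b <;> simp)) e he
  rw [Bool.and_eq_true, beq_iff_eq] at h'
  rw [show (8 : ℕ) = 4 + 4 from rfl, pow_add, hev, ← ev_append, S.ev_eq (v := []) (fun l hl => ?_) (by simp) h'.1, ev_one]
  rcases List.mem_append.1 hl with hl | hl <;> exact h9 l hl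

theorem triangles : (k * S.u) ^ 5 = 1 ∧ (k * (S.B.b * S.u)) ^ 8 = 1 ∧
    (k * S.v) ^ 5 = 1 ∧ (k * (S.B.a * S.v)) ^ 8 = 1 := by
  have h := side_checks
  simp only [Bool.and_eq_true] at h
  obtain ⟨⟨⟨h1, h2⟩, h3⟩, h4⟩ := h
  have hf := List.all_eq_true.1 fpf_five
  have a := S.power_five hk h1 (hf (false, [7]) (by simp))
  have b := S.power_eight hk h3
  have c := S.power_five hk h2 (hf (true, [8]) (by simp))
  have d := S.power_eight hk h4
  simp only [ev, wval, im, List.map_cons, List.map_nil, List.prod_cons, List.prod_nil, mul_one,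
    List.getD_cons_succ, List.getD_cons_zero] at a b c d
  exact ⟨a, b, c, d⟩

end Sys

end Cfsg.Lib.UFourThreeType
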